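/-
Computed facts about the alternating group of degree six and `SL(2,5)`, used for the 3-local
characterisation of the McLaughlin group.
-/
import Cfsg.Agent.EqLemmas

set_option autoImplicit false
set_option maxRecDepth 100000
set_option synthInstance.maxSize 4000
set_option linter.style.longLine false

open Equiv

namespace Cfsg.Agent.McLThree

/-- The alternating group of degree six. -/
abbrev A6 : Type := alternatingGroup (Fin 6)

/-- `(0 2 4)`. -/
def qA : A6 := ⟨swap 0 4 * swap 0 2, Perm.mem_alternatingGroup.2 (by decide +kernel)⟩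
/-- `(1 3 5)`. -/
def qB : A6 := ⟨swap 1 5 * swap 1 3, Perm.mem_alternatingGroup.2 (by decide +kernel)⟩
/-- `(0 1 2 3)(4 5)`. -/
def g0 : A6 := ⟨swap 0 3 * swap 0 2 * swap 0 1 * swap 4 5, Perm.mem_alternatingGroup.2 (by decide +kernel)⟩
/-- `(0 1)(2 3)`. -/
def b0 : A6 := ⟨swap 0 1 * swap 2 3, Perm.mem_alternatingGroup.2 (by decide +kernel)⟩
/-- `(0 1 2)`. -/
def q0 : A6 := ⟨swap 0 2 * swap 0 1, Perm.mem_alternatingGroup.2 (by decide +kernel)⟩

/-- The nine elements of the Sylow three-subgroup with orbits `{0 2 4}` and `{1 3 5}`. -/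
def sylList : List A6 :=
  [1, qA, qA * qA, qB, qA * qB, qA * qA * qB, qB * qB, qA * (qB * qB), qA * qA * (qB * qB)]

/-- The Sylow three-subgroup on `sylList`. -/
def P0 : Subgroup A6 where
  carrier := {x | x ∈ sylList}
  one_mem' := by decide +kernel
  mul_mem' := fun {a b} ha hb =>
    (by decide +kernel : ∀ x ∈ sylList, ∀ y ∈ sylList, x * y ∈ sylList) a ha b hb
  inv_mem' := fun {a} ha => (by decide +kernel : ∀ x ∈ sylList, x⁻¹ ∈ sylList) a ha

theorem mem_P0 {x : A6} : x ∈ P0 ↔ x ∈ sylList := Iff.rfl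

/-- The elements normalizing `P0`. -/
def NormP0 (x : A6) : Prop := x * qA * x⁻¹ ∈ sylList ∧ x * qB * x⁻¹ ∈ sylList

instance : DecidablePred NormP0 := fun x => by unfold NormP0; infer_instance

theorem card_P0 : Nat.card P0 = 9 := by
  rw [Nat.card_congr (Equiv.subtypeEquivRight (fun x => mem_P0) : P0 ≃ {x : A6 // x ∈ sylList}),
    Nat.card_eq_fintype_card]
  decide +kernel

theorem normP0_conj : ∀ x : A6, NormP0 x → ∀ p ∈ sylList, x * p * x⁻¹ ∈ sylList := by decide +kernel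

theorem order_three_normP0 : ∀ x : A6, NormP0 x → x ^ 3 = 1 → x ∈ sylList := by decide +kernel

/-- Two distinct conjugates of `P0` meet trivially. -/
theorem sylow_disjoint : ∀ x : A6, ¬ NormP0 x → ∀ p ∈ sylList, x * p * x⁻¹ ∈ sylList → p = 1 := by
  decide +kernel

/-- `P0` is transitive on the other conjugates. -/
theorem sylow_transitive : ∀ x : A6, ¬ NormP0 x →
    ∃ p ∈ sylList, NormP0 ((p * x)⁻¹ * b0) := by decide +kernel

theorem g0_normP0 : NormP0 g0 ∧ NormP0 (b0 * g0 * b0) ∧ ¬ NormP0 b0 ∧ b0 * b0 = 1 ∧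
    b0 * g0 * b0 = g0⁻¹ ∧ g0 ^ 4 = 1 := by decide +kernel

theorem sq_g0_invert : ∀ p ∈ sylList, g0 * g0 * p * (g0 * g0)⁻¹ = p⁻¹ := by decide +kernel

theorem sq_g0_ne_one : g0 * g0 ≠ 1 := by decide +kernel

/-- The common stabiliser of `P0` and its conjugate by `b0` is cyclic of order four. -/
theorem two_stab : ∀ x : A6, NormP0 x → NormP0 (b0 * x * b0) →
    x = 1 ∨ x = g0 ∨ x = g0 * g0 ∨ x = g0⁻¹ := by decide +kernel

theorem involutions_conj : ∀ x : A6, x * x = 1 → x ≠ 1 → ∃ k : A6, k * (g0 * g0) * k⁻¹ = x := by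
  decide +kernel

/-- Elements of order three lie in subgroups isomorphic to `A₄`. -/
theorem order_three_four : ∀ q : A6, q ^ 3 = 1 → q ≠ 1 →
    ∃ a : A6, a * a = 1 ∧ a ≠ 1 ∧ a * (q * a * q⁻¹) * (q * q * a * (q * q)⁻¹) = 1 ∧
      a * (q * a * q⁻¹) = q * a * q⁻¹ * a := by
  decide +kernel

/-- The configuration around the four-group of `g0 * g0` and `b0`. -/
theorem q0_facts : q0 ^ 3 = 1 ∧ q0 ≠ 1 ∧
    (g0 * b0) * q0 * (g0 * b0)⁻¹ = q0⁻¹ ∧
    q0 * (g0 * g0) * q0⁻¹ ∈ [g0 * g0, b0, g0 * g0 * b0] ∧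
    q0 * b0 * q0⁻¹ ∈ [g0 * g0, b0, g0 * g0 * b0] := by
  decide +kernel

theorem q0_sylow : ∃ k : A6, k⁻¹ * q0 * k ∈ sylList ∧
    ∃ y : A6, NormP0 (k⁻¹ * y * k) ∧ y * y = g0 * b0 := by
  decide +kernel

/-! ### The group `SL(2,5)` -/

/-- The group `SL(2,5)`. -/
abbrev SL5 : Type := Matrix.SpecialLinearGroup (Fin 2) (ZMod 5)

theorem card_SL5 : Fintype.card SL5 = 120 := by decide +kernel

theorem SL5_involution : ∀ x : SL5, x * x = 1 → x = 1 ∨ x = -1 := by decide +kernel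

theorem SL5_central : ∀ x : SL5, x * -1 = -1 * x := by decide +kernel

theorem SL5_neg_one : (-1 : SL5) * -1 = 1 ∧ (-1 : SL5) ≠ 1 := by decide +kernel

/-- An element without powers of order two or five is trivial or of order three. -/
theorem SL5_small : ∀ x : SL5, x ^ 5 ≠ 1 ∨ x = 1 →
    x ^ 3 = 1 ∨ x ^ 2 = -1 ∨ x ^ 3 = -1 ∨ x = -1 ∨ x ^ 5 = -1 := by decide +kernel

/-- Elements of order three in a subgroup without elements of even order or order five commute. -/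
theorem SL5_three : ∀ x : SL5, x ^ 3 = 1 → x ≠ 1 → ∀ y : SL5, y ^ 3 = 1 →
    (x * y) ^ 3 = 1 → (x * y⁻¹) ^ 3 = 1 → y = 1 ∨ y = x ∨ y = x⁻¹ := by decide +kernel

/-- Two conjugates of an element of order three generate an element of order five. -/
theorem SL5_generate : ∀ x : SL5, x ^ 3 = 1 → x ≠ 1 →
    ∃ y : SL5, (x * (y * x * y⁻¹)) ^ 5 = 1 ∧ x * (y * x * y⁻¹) ≠ 1 ∨
      (x * (y * x * y⁻¹)) ^ 5 = -1 ∧ x * (y * x * y⁻¹) ≠ -1 := by decide +kernel

/-- Normalizers of subgroups of order three. -/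
theorem SL5_invert : ∀ x : SL5, x ^ 3 = 1 → x ≠ 1 →
    ∃ c : SL5, c * x * c⁻¹ = x⁻¹ ∧ c * c = -1 ∧
      ∀ d : SL5, (d * x * d⁻¹ = x → ∃ i < 3, d = x ^ i ∨ d = -1 * x ^ i) ∧
        (d * x * d⁻¹ = x⁻¹ → ∃ i < 3, d = x ^ i * c ∨ d = -1 * x ^ i * c) := by decide +kernel

/-- A nontrivial element of odd order is multiplied by a conjugate into even order. -/
theorem SL5_odd_normal : ∀ x : SL5, x ≠ 1 → (x ^ 3 = 1 ∨ x ^ 5 = 1) →
    ∃ g : SL5, (x * (g * x * g⁻¹)) ^ 2 = -1 ∨ (x * (g * x * g⁻¹)) ^ 3 = -1 ∨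
      (x * (g * x * g⁻¹)) ^ 5 = -1 := by decide +kernel

end Cfsg.Agent.McLThree
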