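/-
Further computed facts: the centre and the elements of order three of `SL(2,5)`, and the centralizer
of the alternating group of degree five.
-/
import Cfsg.Agent.Lib.McLThree.Facts
import Cfsg.Agent.Lib.Linear.PSLTwoSmall
import Cfsg.Agent.Lib.AltAut.Odd

set_option autoImplicit false
set_option maxRecDepth 100000
set_option synthInstance.maxSize 4000
set_option linter.style.longLine false

open Equiv

namespace Cfsg.Agent.McLThree

theorem SL5_center : ∀ a : SL5, (∀ b : SL5, a * b = b * a) → a = 1 ∨ a = -1 := by decide +kernel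

theorem SL5_three_conj : ∀ a : SL5, a ^ 3 = 1 → a ≠ 1 → ∀ b : SL5, b ^ 3 = 1 → b ≠ 1 →
    ∃ l : SL5, l * a * l⁻¹ = b := by decide +kernel

theorem centralizer_A5 : ∀ σ : Perm (Fin 5), σ * (swap 0 2 * swap 0 1) = swap 0 2 * swap 0 1 * σ →
    σ * finRotate 5 = finRotate 5 * σ → σ = 1 := by decide +kernel

theorem A5_generators : swap 0 2 * swap 0 1 ∈ alternatingGroup (Fin 5) ∧ finRotate 5 ∈ alternatingGroup (Fin 5) :=
  ⟨Perm.mem_alternatingGroup.2 (by decide +kernel), Perm.mem_alternatingGroup.2 (by decide +kernel)⟩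

theorem exists_proj_A5 : ∃ f : SL5 →* alternatingGroup (Fin 5), Function.Surjective f ∧
    ∀ a, f a = 1 ↔ a = 1 ∨ a = -1 := by
  haveI : Fact (Nat.Prime 5) := ⟨by norm_num⟩
  obtain ⟨e⟩ := Cfsg.Agent.Linear.nonempty_pslTwo_five (F := ZMod 5) (ZMod.card 5)
  refine ⟨e.toMonoidHom.comp (QuotientGroup.mk' _), e.surjective.comp (QuotientGroup.mk'_surjective _), fun a => ?_⟩
  rw [MonoidHom.comp_apply, MulEquiv.coe_toMonoidHom, map_eq_one_iff e e.injective, QuotientGroup.mk'_apply,
    QuotientGroup.eq_one_iff, Subgroup.mem_center_iff]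
  refine ⟨fun h => SL5_center a fun b => (h b).symm, ?_⟩
  rintro (rfl | rfl) b
  · simp
  · exact SL5_central b

end Cfsg.Agent.McLThree
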