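/-
Further computed facts: power products in `SL(2,5)` and the semidihedral group inside `GL(2,3)`.
-/
import Cfsg.Agent.Lib.McLThree.Facts

set_option autoImplicit false
set_option maxRecDepth 100000
set_option synthInstance.maxSize 4000
set_option linter.style.longLine false

namespace Cfsg.Agent.McLThree

theorem SL5_cubes : ∀ x : SL5, ∃ y : SL5, ∃ y' : SL5, y ^ 3 * y' ^ 3 = x := by decide +kernel

theorem SL5_squares : ∀ x : SL5, ∃ y : SL5, ∃ y' : SL5, y ^ 2 * y' ^ 2 = x := by decide +kernel

/-- `2 × 2` matrices over the field of three elements. -/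
abbrev Mat3 : Type := Matrix (Fin 2) (Fin 2) (ZMod 3)

/-- The matrix of the rotation by a right angle. -/
def rot : Mat3 := !![0, -1; 1, 0]

/-- An element of order four inverting the rotation. -/
theorem mat_anti : ∀ c : Mat3, c * c = -1 → c ≠ rot → c ≠ -rot → (c * rot = rot * c ∨ c * rot = -(rot * c)) →
    c * rot = -(rot * c) := by decide +kernel

/-- The elements normalizing both cyclic subgroups of order four. -/
theorem mat_pair : ∀ c : Mat3, c * c = -1 → c * rot = -(rot * c) →
    ∀ x : Mat3, x.det ≠ 0 → (x * rot = rot * x ∨ x * rot = -(rot * x)) → (x * c = c * x ∨ x * c = -(c * x)) →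
      x = 1 ∨ x = -1 ∨ x = rot ∨ x = -rot ∨ x = c ∨ x = -c ∨ x = c * rot ∨ x = -(c * rot) := by
  decide +kernel

end Cfsg.Agent.McLThree
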