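/-
Generic lemmas for the 3-local characterisation of the McLaughlin group.
-/
import Cfsg.Agent.EqLemmas

set_option autoImplicit false
set_option linter.style.longLine false

namespace Cfsg.Agent.McLThree

variable {G : Type*} [Group G]

theorem mem_centralizer_one {g x : G} :
    g ∈ Subgroup.centralizer ({x} : Set G) ↔ g * x = x * g :=
  Subgroup.mem_centralizer_singleton_iff

theorem conj_eq_of_commute {g x : G} (h : g * x = x * g) : g * x * g⁻¹ = x := by
  rw [h, mul_inv_cancel_right]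

theorem commute_of_conj_eq {g x : G} (h : g * x * g⁻¹ = x) : g * x = x * g := by
  calc g * x = (g * x * g⁻¹) * g := by group
    _ = x * g := by rw [h]

/-- An element centralizing a section and what lies below it, of coprime order, centralizes. -/
theorem commute_of_twist {f q u : G} {n k : ℕ} (h : f * q * f⁻¹ = q * u) (hu : f * u = u * f)
    (hk : u ^ k = 1) (hf : f ^ n * q = q * f ^ n) (hc : n.Coprime k) : f * q = q * f := by
  have step : ∀ i : ℕ, f ^ i * q * (f ^ i)⁻¹ = q * u ^ i := by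
    intro i
    induction i with
    | zero => simp
    | succ i ih =>
      calc f ^ (i + 1) * q * (f ^ (i + 1))⁻¹ = f * (f ^ i * q * (f ^ i)⁻¹) * f⁻¹ := by
            rw [pow_succ']; group
        _ = f * q * f⁻¹ * (f * u ^ i * f⁻¹) := by rw [ih]; group
        _ = q * u ^ (i + 1) := by
            rw [h, conj_eq_of_commute ((show Commute f u from hu).pow_right i).eq, mul_assoc, pow_succ']
  have hn : u ^ n = 1 := by
    have := step n
    rw [conj_eq_of_commute hf] at this
    exact mul_left_cancel (a := q) (by rw [mul_one]; exact this.symm)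
  have hu1 : u = 1 := by
    refine orderOf_eq_one_iff.1 (Nat.dvd_one.1 ?_)
    have := Nat.dvd_gcd (orderOf_dvd_of_pow_eq_one hn) (orderOf_dvd_of_pow_eq_one hk)
    rwa [hc.gcd_eq_one] at this
  rw [hu1, mul_one] at h
  exact commute_of_conj_eq h

/-- Two involutions whose product has order dividing three are conjugate by the product. -/
theorem involution_conj {a b : G} (ha : a * a = 1) (hb : b * b = 1) (h : (a * b) ^ 3 = 1) :
    (a * b) * a * (a * b)⁻¹ = b := by
  have ha' : a⁻¹ = a := inv_eq_of_mul_eq_one_right ha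
  have hb' : b⁻¹ = b := inv_eq_of_mul_eq_one_right hb
  rw [mul_inv_rev, ha', hb']
  calc a * b * a * (b * a) = (a * b) ^ 3 * b⁻¹ := by
        rw [pow_succ, pow_two]; group
    _ = b := by rw [h, one_mul, hb']

theorem inv_eq_sq {x : G} (h : x ^ 3 = 1) : x⁻¹ = x * x :=
  inv_eq_of_mul_eq_one_right (by rw [← h, pow_succ', pow_two])

/-- The three elements of a subgroup of order three. -/
theorem three_cases {z g : G} (h3 : z ^ 3 = 1) (h : g ∈ Subgroup.zpowers z) :
    g = 1 ∨ g = z ∨ g = z⁻¹ := by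
  obtain ⟨k, rfl⟩ := Subgroup.mem_zpowers_iff.1 h
  have h3' : z ^ (3 : ℤ) = 1 := by rw [show (3 : ℤ) = ((3 : ℕ) : ℤ) from rfl, zpow_natCast]; exact h3
  rw [← Int.emod_add_mul_ediv k 3, zpow_add, zpow_mul, h3', one_zpow, mul_one]
  have h0 := Int.emod_nonneg k (show (3 : ℤ) ≠ 0 by norm_num)
  have h1 := Int.emod_lt_of_pos k (show (0 : ℤ) < 3 by norm_num)
  interval_cases hh : k % 3
  · exact Or.inl (zpow_zero z)
  · exact Or.inr (Or.inl (zpow_one z))
  · exact Or.inr (Or.inr (by rw [zpow_two, inv_eq_sq h3]))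

/-- The two-part of an element whose fourth power has order dividing three. -/
theorem two_part {x : G} {H : Subgroup G} (hexp : ∀ h ∈ H, h ^ 3 = 1) (hx : x ^ 4 ∈ H) :
    (x ^ 9) ^ 4 = 1 ∧ x⁻¹ * x ^ 9 ∈ H := by
  have h1 : (x ^ 4) ^ 9 = 1 := by rw [show 9 = 3 * 3 from rfl, pow_mul, hexp _ hx, one_pow]
  refine ⟨by rw [← pow_mul, mul_comm, pow_mul, h1], ?_⟩
  rw [show x ^ 9 = x * (x ^ 4) ^ 2 by rw [← pow_mul, ← pow_succ'], inv_mul_cancel_left]
  exact H.pow_mem hx 2

variable [Finite G]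

theorem card_three_dvd_pow {H : Subgroup G} {p n : ℕ} (hp : p.Prime) (hH : Nat.card H = p ^ n) {K : Subgroup G}
    (hK : K ≤ H) : ∃ m ≤ n, Nat.card K = p ^ m := by
  have := Subgroup.card_dvd_of_le hK
  rw [hH, Nat.dvd_prime_pow hp] at this
  exact this

theorem exists_notMem_of_card_lt {H K : Subgroup G} (h : Nat.card K < Nat.card H) : ∃ x ∈ H, x ∉ K := by
  by_contra hall
  push Not at hall
  exact absurd (Subgroup.card_le_of_le (show H ≤ K from hall)) (not_le.2 h)

/-- Product of subgroup orders. -/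
theorem card_mul_le {H K L : Subgroup G} (hH : H ≤ L) (hK : K ≤ L) :
    Nat.card H * Nat.card K ≤ Nat.card L * Nat.card (H ⊓ K : Subgroup G) := by
  classical
  set I := H ⊓ K
  let f : H × K → L := fun p => ⟨p.1 * p.2, L.mul_mem (hH p.1.2) (hK p.2.2)⟩
  have hinj : ∀ l : L, Nat.card {p : H × K // f p = l} ≤ Nat.card I := by
    intro l
    rcases isEmpty_or_nonempty {p : H × K // f p = l} with he | ⟨⟨p₀, hp₀⟩⟩
    · simp
    refine Nat.card_le_card_of_injective
      (fun p => (⟨(p₀.1 : G)⁻¹ * p.1.1, ?_⟩ : I)) ?_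
    · have h1 : (p.1.1 : G) * p.1.2 = p₀.1 * p₀.2 :=
        (congrArg Subtype.val (p.2.trans hp₀.symm))
      refine ⟨H.mul_mem (H.inv_mem p₀.1.2) p.1.1.2, ?_⟩
      have h2 : (p₀.1 : G)⁻¹ * p.1.1 = p₀.2 * (p.1.2 : G)⁻¹ := by
        rw [inv_mul_eq_iff_eq_mul, ← mul_assoc, ← h1, mul_inv_cancel_right]
      rw [SetLike.mem_coe, h2]
      exact K.mul_mem p₀.2.2 (K.inv_mem p.1.2.2)
    · rintro ⟨⟨a, b⟩, hab⟩ ⟨⟨a', b'⟩, hab'⟩ e
      have ha : a = a' := Subtype.ext (mul_left_cancel (congrArg Subtype.val e))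
      subst ha
      have h1 : (a : G) * b = a * b' := congrArg Subtype.val (hab.trans hab'.symm)
      exact Subtype.ext (Prod.ext rfl (Subtype.ext (mul_left_cancel h1)))
  have := Fintype.ofFinite L
  rw [← Nat.card_prod, Nat.card_congr (Equiv.sigmaFiberEquiv f).symm, Nat.card_sigma,
    Nat.card_eq_fintype_card (α := L)]
  exact (Finset.sum_le_card_nsmul _ _ _ fun l _ => hinj l).trans (by simp)

end Cfsg.Agent.McLThree
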