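/-
The hypotheses of the 3-local characterisation of the McLaughlin group.
-/
import Cfsg.Agent.Lib.McLThree.Facts
import Cfsg.Agent.Lib.McLThree.Basic

set_option autoImplicit false
set_option linter.style.longLine false

namespace Cfsg.Agent.McLThree

/-- The local data: `J` with `M₀ / J ≅ A₆`, and the centre `⟨z⟩` of a Sylow subgroup with
`L₀ / Q ≅ SL(2,5)`. -/
structure Data (G : Type*) [Group G] where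
  z : G
  S : Sylow 3 G
  Q : Subgroup G
  L₀ : Subgroup G
  J : Subgroup G
  M₀ : Subgroup G
  π₅ : G → SL5
  π₆ : G → A6
  z_ne : z ≠ 1
  z_cube : z ^ 3 = 1
  center_S : ∀ g, (g ∈ (S : Subgroup G) ∧ ∀ s ∈ (S : Subgroup G), g * s = s * g) ↔ g ∈ Subgroup.zpowers z
  J_le : J ≤ (S : Subgroup G)
  J_comm : ∀ a ∈ J, ∀ b ∈ J, a * b = b * a
  J_exp : ∀ a ∈ J, a ^ 3 = 1
  J_card : Nat.card J = 81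
  J_le_M₀ : J ≤ M₀
  M₀_le : M₀ ≤ Subgroup.normalizer (J : Set G)
  three_mem_M₀ : ∀ g ∈ Subgroup.normalizer (J : Set G), ∀ k : ℕ, g ^ 3 ^ k = 1 → g ∈ M₀
  M₀_conj : ∀ g ∈ Subgroup.normalizer (J : Set G), ∀ x ∈ M₀, g * x * g⁻¹ ∈ M₀
  map₆ : ∀ x ∈ M₀, ∀ y ∈ M₀, π₆ (x * y) = π₆ x * π₆ y
  surj₆ : ∀ a : A6, ∃ x ∈ M₀, π₆ x = a
  ker₆ : ∀ x ∈ M₀, π₆ x = 1 ↔ x ∈ J
  Q_card : Nat.card Q = 243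
  Q_exp : ∀ a ∈ Q, a ^ 3 = 1
  z_mem_Q : z ∈ Q
  Q_comm : ∀ a ∈ Q, ∀ b ∈ Q, a * b * a⁻¹ * b⁻¹ ∈ Subgroup.zpowers z
  Q_center : ∀ a ∈ Q, (∀ b ∈ Q, a * b = b * a) → a ∈ Subgroup.zpowers z
  Q_conj : ∀ g ∈ Subgroup.normalizer (Subgroup.zpowers z : Set G), ∀ q ∈ Q, g * q * g⁻¹ ∈ Q
  cent_Q : ∀ g : G, (∀ q ∈ Q, g * q = q * g) → g ∈ Q
  Q_le_L₀ : Q ≤ L₀
  L₀_le : L₀ ≤ Subgroup.normalizer (Subgroup.zpowers z : Set G)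
  three_mem_L₀ : ∀ g ∈ Subgroup.normalizer (Subgroup.zpowers z : Set G), ∀ k : ℕ, g ^ 3 ^ k = 1 → g ∈ L₀
  L₀_conj : ∀ g ∈ Subgroup.normalizer (Subgroup.zpowers z : Set G), ∀ x ∈ L₀, g * x * g⁻¹ ∈ L₀
  L₀_cent : ∀ x ∈ L₀, x * z = z * x
  map₅ : ∀ x ∈ L₀, ∀ y ∈ L₀, π₅ (x * y) = π₅ x * π₅ y
  surj₅ : ∀ a : SL5, ∃ x ∈ L₀, π₅ x = a
  ker₅ : ∀ x ∈ L₀, π₅ x = 1 ↔ x ∈ Q

namespace Data

variable {G : Type*} [Group G] (d : Data G)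

theorem π₆_one : d.π₆ 1 = 1 := (d.ker₆ 1 d.M₀.one_mem).2 d.J.one_mem

theorem π₅_one : d.π₅ 1 = 1 := (d.ker₅ 1 d.L₀.one_mem).2 d.Q.one_mem

theorem π₆_inv {x : G} (hx : x ∈ d.M₀) : d.π₆ x⁻¹ = (d.π₆ x)⁻¹ :=
  eq_inv_of_mul_eq_one_left (by rw [← d.map₆ _ (d.M₀.inv_mem hx) _ hx, inv_mul_cancel, d.π₆_one])

theorem π₅_inv {x : G} (hx : x ∈ d.L₀) : d.π₅ x⁻¹ = (d.π₅ x)⁻¹ :=
  eq_inv_of_mul_eq_one_left (by rw [← d.map₅ _ (d.L₀.inv_mem hx) _ hx, inv_mul_cancel, d.π₅_one])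

theorem π₆_pow {x : G} (hx : x ∈ d.M₀) : ∀ n : ℕ, d.π₆ (x ^ n) = d.π₆ x ^ n
  | 0 => by rw [pow_zero, pow_zero, d.π₆_one]
  | n + 1 => by rw [pow_succ, pow_succ, d.map₆ _ (d.M₀.pow_mem hx n) _ hx, π₆_pow hx n]

theorem π₅_pow {x : G} (hx : x ∈ d.L₀) : ∀ n : ℕ, d.π₅ (x ^ n) = d.π₅ x ^ n
  | 0 => by rw [pow_zero, pow_zero, d.π₅_one]
  | n + 1 => by rw [pow_succ, pow_succ, d.map₅ _ (d.L₀.pow_mem hx n) _ hx, π₅_pow hx n]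

theorem π₆_conj {x y : G} (hx : x ∈ d.M₀) (hy : y ∈ d.M₀) :
    d.π₆ (x * y * x⁻¹) = d.π₆ x * d.π₆ y * (d.π₆ x)⁻¹ := by
  rw [d.map₆ _ (d.M₀.mul_mem hx hy) _ (d.M₀.inv_mem hx), d.map₆ _ hx _ hy, d.π₆_inv hx]

theorem π₅_conj {x y : G} (hx : x ∈ d.L₀) (hy : y ∈ d.L₀) :
    d.π₅ (x * y * x⁻¹) = d.π₅ x * d.π₅ y * (d.π₅ x)⁻¹ := by
  rw [d.map₅ _ (d.L₀.mul_mem hx hy) _ (d.L₀.inv_mem hx), d.map₅ _ hx _ hy, d.π₅_inv hx]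

theorem π₆_eq_iff {x y : G} (hx : x ∈ d.M₀) (hy : y ∈ d.M₀) :
    d.π₆ x = d.π₆ y ↔ x⁻¹ * y ∈ d.J := by
  rw [← d.ker₆ _ (d.M₀.mul_mem (d.M₀.inv_mem hx) hy), d.map₆ _ (d.M₀.inv_mem hx) _ hy, d.π₆_inv hx,
    inv_mul_eq_one]

theorem π₅_eq_iff {x y : G} (hx : x ∈ d.L₀) (hy : y ∈ d.L₀) :
    d.π₅ x = d.π₅ y ↔ x⁻¹ * y ∈ d.Q := by
  rw [← d.ker₅ _ (d.L₀.mul_mem (d.L₀.inv_mem hx) hy), d.map₅ _ (d.L₀.inv_mem hx) _ hy, d.π₅_inv hx,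
    inv_mul_eq_one]

/-- The subgroup of order three generated by `z`. -/
def Z : Subgroup G := Subgroup.zpowers d.z

theorem z_mem_Z : d.z ∈ d.Z := Subgroup.mem_zpowers d.z

end Data

end Cfsg.Agent.McLThree
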