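/-
Elements of order five acting on three-groups of order at most 27.
-/
import Cfsg.Agent.Lib.McLThree.Basic

set_option autoImplicit false
set_option linter.style.longLine false

namespace Cfsg.Agent.McLThree

/-- An automorphism with fifth power one of a group of order dividing 27 is trivial. -/
theorem aut_five {H : Type*} [Group H] [Finite H] (σ : MulAut H) (hσ : σ ^ 5 = 1) {k : ℕ}
    (hH : Nat.card H = 3 ^ k) (hk : k ≤ 3) (h : H) : σ h = h := by
  haveI : Fact (Nat.Prime 5) := ⟨by norm_num⟩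
  have hp : IsPGroup 5 (Subgroup.zpowers σ) := by
    refine IsPGroup.iff_card.2 ?_
    rw [Nat.card_zpowers]
    obtain ⟨i, -, hi⟩ := (Nat.dvd_prime_pow (show Nat.Prime 5 by norm_num)).1
      (show orderOf σ ∣ 5 ^ 1 by rw [pow_one]; exact orderOf_dvd_of_pow_eq_one hσ)
    exact ⟨i, hi⟩
  have hmod := hp.card_modEq_card_fixedPoints H
  let F : Subgroup H := MonoidHom.eqLocus σ.toMonoidHom (MonoidHom.id H)
  have hF : Nat.card (MulAction.fixedPoints (Subgroup.zpowers σ) H) = Nat.card F := by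
    refine Nat.card_congr (Equiv.subtypeEquivRight fun x => ?_)
    constructor
    · intro hx
      exact hx ⟨σ, Subgroup.mem_zpowers σ⟩
    · intro hx g
      obtain ⟨n, hn⟩ := Subgroup.mem_zpowers_iff.1 g.2
      show (g : MulAut H) x = x
      rw [← hn]
      exact zpow_mem (show σ ∈ MulAction.stabilizer (MulAut H) x from hx) n
  have hd := Subgroup.card_subgroup_dvd_card F
  rw [hH, Nat.dvd_prime_pow Nat.prime_three] at hd
  obtain ⟨j, hj, hjF⟩ := hd
  rw [hF, hH, hjF, Nat.ModEq] at hmod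
  have hjk : j = k := by
    interval_cases k <;> interval_cases j <;> simp_all
  have htop : F = ⊤ := Subgroup.eq_top_of_card_eq F (by rw [hjF, hjk, hH])
  have : h ∈ F := htop ▸ Subgroup.mem_top h
  exact this

variable {G : Type*} [Group G] [Finite G]

/-- An element of order five normalizing a small section of three-power order centralizes it. -/
theorem conj_mem_of_five {f : G} (hf : f ^ 5 = 1) {U V : Subgroup G} (hUV : U ≤ V)
    (hn : ∀ v ∈ V, ∀ u ∈ U, v * u * v⁻¹ ∈ U)
    (hfU : ∀ u ∈ U, f * u * f⁻¹ ∈ U) (hfV : ∀ v ∈ V, f * v * f⁻¹ ∈ V)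
    {k : ℕ} (hk : k ≤ 3) (hcard : Nat.card V = 3 ^ k * Nat.card U) {v : G} (hv : v ∈ V) :
    v⁻¹ * (f * v * f⁻¹) ∈ U := by
  haveI : (U.subgroupOf V).Normal := ⟨fun u hu g => hn g g.2 u hu⟩
  have hfinv : ∀ W : Subgroup G, (∀ w ∈ W, f * w * f⁻¹ ∈ W) → ∀ w ∈ W, f⁻¹ * w * f ∈ W := by
    intro W hW w hw
    have h4 : ∀ n : ℕ, f ^ n * w * (f ^ n)⁻¹ ∈ W := by
      intro n
      induction n with
      | zero => simpa using hw
      | succ n ih =>
        have := hW _ ih
        rwa [show f * (f ^ n * w * (f ^ n)⁻¹) * f⁻¹ = f ^ (n + 1) * w * (f ^ (n + 1))⁻¹ by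
          rw [pow_succ']; group] at this
    have := h4 4
    rwa [show f ^ 4 = f⁻¹ from eq_inv_of_mul_eq_one_left (by rw [← pow_succ, hf]), inv_inv] at this
  let σ₀ : V ≃* V :=
    { toFun := fun w => ⟨f * w * f⁻¹, hfV _ w.2⟩
      invFun := fun w => ⟨f⁻¹ * w * f, hfinv V hfV _ w.2⟩
      left_inv := fun w => Subtype.ext (by show f⁻¹ * (f * w * f⁻¹) * f = w; group)
      right_inv := fun w => Subtype.ext (by show f * (f⁻¹ * w * f) * f⁻¹ = w; group)
      map_mul' := fun a b => Subtype.ext (by show f * (↑a * ↑b) * f⁻¹ = f * a * f⁻¹ * (f * b * f⁻¹); group) }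
  have hσU : (U.subgroupOf V).map σ₀.toMonoidHom = U.subgroupOf V := by
    ext w
    constructor
    · rintro ⟨u, hu, rfl⟩
      exact hfU _ hu
    · intro hw
      exact ⟨σ₀.symm w, hfinv U hfU _ hw, σ₀.apply_symm_apply w⟩
  let σ : MulAut (V ⧸ U.subgroupOf V) := QuotientGroup.congr _ _ σ₀ hσU
  have happ : ∀ w : V, σ (QuotientGroup.mk w) = QuotientGroup.mk (σ₀ w) := fun _ => rfl
  have hσ5 : σ ^ 5 = 1 := by
    ext x
    induction x using QuotientGroup.induction_on with
    | _ w =>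
      simp only [show (5 : ℕ) = 1 + 1 + 1 + 1 + 1 from rfl, pow_succ, pow_zero, one_mul, MulAut.mul_apply,
        happ, MulAut.one_apply]
      refine congrArg _ (Subtype.ext ?_)
      show f * (f * (f * (f * (f * w * f⁻¹) * f⁻¹) * f⁻¹) * f⁻¹) * f⁻¹ = (w : G)
      calc _ = f ^ 5 * w * (f ^ 5)⁻¹ := by simp only [pow_succ, pow_zero, one_mul]; group
        _ = w := by rw [hf, one_mul, inv_one, mul_one]
  have hq : Nat.card (V ⧸ U.subgroupOf V) = 3 ^ k := by
    have := Subgroup.card_eq_card_quotient_mul_card_subgroup (U.subgroupOf V)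
    rw [Nat.card_congr (Subgroup.subgroupOfEquivOfLe hUV).toEquiv, hcard] at this
    exact (Nat.eq_of_mul_eq_mul_right Nat.card_pos this).symm
  have := aut_five σ hσ5 hq hk (QuotientGroup.mk ⟨v, hv⟩)
  rw [happ, eq_comm, QuotientGroup.eq, Subgroup.mem_subgroupOf] at this
  exact this

end Cfsg.Agent.McLThree
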