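/-
The action of `L₀` on `Q / Z`.
-/
import Cfsg.Agent.Lib.McLThree.Data
import Cfsg.Agent.Lib.McLThree.Five

set_option autoImplicit false
set_option maxRecDepth 100000
set_option linter.style.longLine false

namespace Cfsg.Agent.McLThree

namespace Data

variable {G : Type*} [Group G] [Finite G] (d : Data G)

theorem orderOf_z : orderOf d.z = 3 := orderOf_eq_prime (hp := ⟨Nat.prime_three⟩) d.z_cube d.z_ne

theorem card_Z : Nat.card d.Z = 3 := by rw [Z, Nat.card_zpowers, d.orderOf_z]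

theorem Z_le_Q : d.Z ≤ d.Q := Subgroup.zpowers_le.2 d.z_mem_Q

theorem Q_z {q : G} (hq : q ∈ d.Q) : q * d.z = d.z * q := d.L₀_cent q (d.Q_le_L₀ hq)

theorem L₀_Z {x u : G} (hx : x ∈ d.L₀) (hu : u ∈ d.Z) : x * u = u * x := by
  obtain ⟨n, rfl⟩ := Subgroup.mem_zpowers_iff.1 hu
  exact ((show Commute x d.z from d.L₀_cent x hx).zpow_right n).eq

theorem L₀_conj_Q {x q : G} (hx : x ∈ d.L₀) (hq : q ∈ d.Q) : x * q * x⁻¹ ∈ d.Q :=
  d.Q_conj x (d.L₀_le hx) q hq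

theorem Q_comm' {a b : G} (ha : a ∈ d.Q) (hb : b ∈ d.Q) : a * b * a⁻¹ * b⁻¹ ∈ d.Z := d.Q_comm a ha b hb

/-- Subgroups of `Q` containing `Z` are normal in `Q`. -/
theorem Q_normalizes {U : Subgroup G} (hU : U ≤ d.Q) (hZ : d.Z ≤ U) {q u : G} (hq : q ∈ d.Q) (hu : u ∈ U) :
    q * u * q⁻¹ ∈ U := by
  have := U.mul_mem (hZ (d.Q_comm' hq (hU hu))) hu
  rwa [inv_mul_cancel_right] at this

theorem pow_five_Q {q : G} (hq : q ∈ d.Q) (h : q ^ 5 = 1) : q = 1 := by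
  have h3 := d.Q_exp q hq
  calc q = (q ^ 3) ^ 2 * (q ^ 5)⁻¹ := by group
    _ = 1 := by rw [h3, h, one_pow, inv_one, mul_one]

/-- An element of order five in `L₀` normalizes no proper subgroup of `Q` above `Z`. -/
theorem five_normalize {f : G} (hfL : f ∈ d.L₀) (hf : f ^ 5 = 1) {U : Subgroup G} (hU : U ≤ d.Q)
    (hZ : d.Z ≤ U) (hne : U ≠ d.Q) (h9 : 9 ≤ Nat.card U) (hfU : ∀ u ∈ U, f * u * f⁻¹ ∈ U) : f = 1 := by
  obtain ⟨m, hm, hUc⟩ := card_three_dvd_pow Nat.prime_three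
    (show Nat.card d.Q = 3 ^ 5 by rw [d.Q_card]; rfl) hU
  have hm5 : m ≠ 5 := fun e => hne (Subgroup.eq_of_le_of_card_ge hU (by rw [hUc, e, d.Q_card]; rfl))
  have hm2 : 2 ≤ m := by
    by_contra h
    rw [hUc] at h9
    interval_cases m <;> norm_num at h9
  have hf5 : ∀ {x : G}, f ^ 5 * x = x * f ^ 5 := fun {x} => by rw [hf, one_mul, mul_one]
  have hUfix : ∀ u ∈ U, f * u = u * f := by
    intro u hu
    have h1 := conj_mem_of_five hf hZ (fun v hv w hw => by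
        rw [conj_eq_of_commute (d.L₀_Z (d.Q_le_L₀ (hU hv)) hw)]; exact hw)
      (fun w hw => by rw [conj_eq_of_commute (d.L₀_Z hfL hw)]; exact hw) hfU (k := m - 1) (by omega)
      (by rw [hUc, d.card_Z, ← pow_succ]; congr 1; omega) hu
    refine commute_of_twist (u := u⁻¹ * (f * u * f⁻¹)) (n := 5) (k := 3) (by group) (d.L₀_Z hfL h1) ?_ hf5
      (by norm_num)
    exact d.Q_exp _ (d.Z_le_Q h1)
  have hQfix : ∀ q ∈ d.Q, f * q = q * f := by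
    intro q hq
    have h1 := conj_mem_of_five hf hU (fun v hv w hw => d.Q_normalizes hU hZ hv hw) hfU
      (fun v hv => d.L₀_conj_Q hfL hv) (k := 5 - m) (by omega)
      (by rw [hUc, d.Q_card, ← pow_add]; rw [Nat.sub_add_cancel hm]; rfl) hq
    refine commute_of_twist (u := q⁻¹ * (f * q * f⁻¹)) (n := 5) (k := 3) (by group) (hUfix _ h1) ?_ hf5
      (by norm_num)
    exact d.Q_exp _ (hU h1)
  exact d.pow_five_Q (d.cent_Q f hQfix) hf

/-- Elements with a given image can be taken of order five. -/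
theorem exists_five {y : G} (hy : y ∈ d.L₀) (h : d.π₅ y ^ 5 = 1) :
    (y ^ 6) ^ 5 = 1 ∧ d.π₅ (y ^ 6) = d.π₅ y := by
  have hQ : y ^ 5 ∈ d.Q := (d.ker₅ _ (d.L₀.pow_mem hy 5)).1 (by rw [d.π₅_pow hy, h])
  refine ⟨?_, by rw [d.π₅_pow hy, pow_succ, h, one_mul]⟩
  rw [← pow_mul, show 6 * 5 = 5 * (3 * 2) from rfl, pow_mul, pow_mul, d.Q_exp _ hQ, one_pow]

/-- Elements with image `-1` can be taken to be involutions. -/
theorem exists_involution {y : G} (hy : y ∈ d.L₀) (h : d.π₅ y = -1) :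
    (y ^ 3) * (y ^ 3) = 1 ∧ d.π₅ (y ^ 3) = -1 := by
  have hQ : y ^ 2 ∈ d.Q := (d.ker₅ _ (d.L₀.pow_mem hy 2)).1 (by rw [d.π₅_pow hy, h, pow_two, SL5_neg_one.1])
  refine ⟨?_, by rw [d.π₅_pow hy, h, pow_succ, pow_two, SL5_neg_one.1, one_mul]⟩
  rw [← pow_two, ← pow_mul, show 3 * 2 = 2 * 3 from rfl, pow_mul, d.Q_exp _ hQ]

/-- Involutions with image `-1` are conjugate under `Q`. -/
theorem involution_adjust {x y : G} (hx : x ∈ d.L₀) (hx2 : x * x = 1) (hπ : d.π₅ x = -1) (hy : y ∈ d.L₀) :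
    ∃ y' ∈ d.L₀, d.π₅ y' = d.π₅ y ∧ y' * x = x * y' := by
  have hy' : (y * x * y⁻¹) * (y * x * y⁻¹) = 1 := by
    calc y * x * y⁻¹ * (y * x * y⁻¹) = y * (x * x) * y⁻¹ := by group
      _ = 1 := by rw [hx2, mul_one, mul_inv_cancel]
  have hk : x * (y * x * y⁻¹) ∈ d.Q := by
    refine (d.ker₅ _ (d.L₀.mul_mem hx (d.L₀.mul_mem (d.L₀.mul_mem hy hx) (d.L₀.inv_mem hy)))).1 ?_
    rw [d.map₅ _ hx _ (d.L₀.mul_mem (d.L₀.mul_mem hy hx) (d.L₀.inv_mem hy)), d.π₅_conj hy hx, hπ,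
      SL5_central, mul_inv_cancel_right, SL5_neg_one.1]
  have hc := involution_conj hx2 hy' (d.Q_exp _ hk)
  set k := x * (y * x * y⁻¹) with hkdef
  refine ⟨k⁻¹ * y, d.L₀.mul_mem (d.L₀.inv_mem (d.Q_le_L₀ hk)) hy, ?_, ?_⟩
  · rw [d.map₅ _ (d.L₀.inv_mem (d.Q_le_L₀ hk)) _ hy, d.π₅_inv (d.Q_le_L₀ hk),
      (d.ker₅ _ (d.Q_le_L₀ hk)).2 hk, inv_one, one_mul]
  · calc k⁻¹ * y * x = k⁻¹ * (y * x * y⁻¹) * y := by group
      _ = k⁻¹ * (k * x * k⁻¹) * y := by rw [hc]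
      _ = x * (k⁻¹ * y) := by group

/-- An involution of `L₀` outside `Q` centralizes only `Z` in `Q`. -/
theorem involution_cent_Q {x : G} (hx : x ∈ d.L₀) (hx2 : x * x = 1) (hπ : d.π₅ x = -1) {q : G}
    (hq : q ∈ d.Q) (hc : x * q = q * x) : q ∈ d.Z := by
  classical
  set U := d.Q ⊓ Subgroup.centralizer ({x} : Set G) with hU
  have hmem : ∀ u, u ∈ U ↔ u ∈ d.Q ∧ u * x = x * u := fun u => by
    rw [hU, Subgroup.mem_inf, mem_centralizer_one]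
  have hZU : d.Z ≤ U := fun u hu => (hmem u).2 ⟨d.Z_le_Q hu, (d.L₀_Z hx hu).symm⟩
  by_contra hqZ
  have hne : U ≠ d.Q := by
    intro e
    have hxQ : x ∈ d.Q := d.cent_Q x fun v hv => ((hmem v).1 (e ▸ hv)).2.symm
    exact SL5_neg_one.2 (hπ.symm.trans ((d.ker₅ x hx).2 hxQ))
  have h9 : 9 ≤ Nat.card U := by
    obtain ⟨m, -, hm⟩ := card_three_dvd_pow Nat.prime_three
      (show Nat.card d.Q = 3 ^ 5 by rw [d.Q_card]; rfl) (inf_le_left : U ≤ d.Q)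
    by_contra h
    rw [hm] at h
    have hm1 : m ≤ 1 := by
      by_contra hm2
      exact h ((show 9 = 3 ^ 2 from rfl).le.trans (Nat.pow_le_pow_right (by norm_num) (by omega)))
    refine hqZ ?_
    rw [Subgroup.eq_of_le_of_card_ge hZU (by
      rw [hm, d.card_Z]; exact (Nat.pow_le_pow_right (by norm_num) hm1).trans (by norm_num))]
    exact (hmem q).2 ⟨hq, hc.symm⟩
  obtain ⟨a, ha5, ha1⟩ : ∃ a : SL5, a ^ 5 = 1 ∧ a ≠ 1 := by
    haveI : Fact (Nat.Prime 5) := ⟨by norm_num⟩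
    obtain ⟨a, ha⟩ := exists_prime_orderOf_dvd_card (G := SL5) 5 (by rw [card_SL5]; norm_num)
    exact ⟨a, orderOf_dvd_iff_pow_eq_one.1 (dvd_of_eq ha), fun e => by rw [e, orderOf_one] at ha; norm_num at ha⟩
  obtain ⟨y, hy, rfl⟩ := d.surj₅ a
  obtain ⟨y', hy', hπ', hyx⟩ := d.involution_adjust hx hx2 hπ hy
  rw [← hπ'] at ha5 ha1
  obtain ⟨h5, h6⟩ := d.exists_five hy' ha5
  have hfx : y' ^ 6 * x = x * y' ^ 6 := ((show Commute y' x from hyx).pow_left 6).eq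
  refine ha1 ?_
  rw [← h6, d.five_normalize (d.L₀.pow_mem hy' 6) h5 inf_le_left hZU hne h9 fun u hu => ?_, d.π₅_one]
  obtain ⟨h1, h2⟩ := (hmem u).1 hu
  refine (hmem _).2 ⟨d.L₀_conj_Q (d.L₀.pow_mem hy' 6) h1, ?_⟩
  calc y' ^ 6 * u * (y' ^ 6)⁻¹ * x = y' ^ 6 * u * ((y' ^ 6)⁻¹ * x * y' ^ 6) * (y' ^ 6)⁻¹ := by group
    _ = y' ^ 6 * u * x * (y' ^ 6)⁻¹ := by rw [mul_assoc _ x, ← hfx, inv_mul_cancel_left]
    _ = y' ^ 6 * x * u * (y' ^ 6)⁻¹ := by rw [mul_assoc _ u x, h2, ← mul_assoc]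
    _ = x * (y' ^ 6 * u * (y' ^ 6)⁻¹) := by rw [hfx]; group

/-- An involution of `L₀` outside `Q` inverts `Q / Z`. -/
theorem involution_inv_Q {x : G} (hx : x ∈ d.L₀) (hx2 : x * x = 1) (hπ : d.π₅ x = -1) {q : G}
    (hq : q ∈ d.Q) : x * q * x⁻¹ * q ∈ d.Z := by
  have hx' : x⁻¹ = x := inv_eq_of_mul_eq_one_right hx2
  have hq' : x * q * x⁻¹ ∈ d.Q := d.L₀_conj_Q hx hq
  set v := x * q * x⁻¹ with hv
  set ζ := v * q * v⁻¹ * q⁻¹ with hζdef
  have hζ : ζ ∈ d.Z := d.Q_comm' hq' hq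
  have e1 : x * (v * q) * x⁻¹ = q * v := by
    calc x * (v * q) * x⁻¹ = (x * x) * q * (x⁻¹ * x⁻¹) * (x * q * x⁻¹) := by rw [hv]; group
      _ = q * v := by rw [hx2, hx', hx2, hv, hx', one_mul, mul_one]
  have e2 : q * v = ζ⁻¹ * (v * q) := by rw [hζdef]; group
  have hζx : x * ζ⁻¹ * x⁻¹ = ζ⁻¹ := conj_eq_of_commute (d.L₀_Z hx (d.Z.inv_mem hζ))
  have e3 : ζ⁻¹ * ζ⁻¹ = 1 := by
    refine mul_right_cancel (b := v * q) ?_
    rw [one_mul, mul_assoc, ← e2, ← e1]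
    calc ζ⁻¹ * (x * (v * q) * x⁻¹) = x * ζ⁻¹ * x⁻¹ * (x * (v * q) * x⁻¹) := by rw [hζx]
      _ = x * (ζ⁻¹ * (v * q)) * x⁻¹ := by group
      _ = x * (q * v) * x⁻¹ := by rw [← e2]
      _ = x * (x * (v * q) * x⁻¹) * x⁻¹ := by rw [e1]
      _ = (x * x) * (v * q) * (x⁻¹ * x⁻¹) := by group
      _ = v * q := by rw [hx2, hx', hx2, one_mul, mul_one]
  have hζ1 : ζ⁻¹ = 1 := by
    have := d.Q_exp _ (d.Q.inv_mem (d.Z_le_Q hζ))
    rwa [pow_succ, pow_two, e3, one_mul] at this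
  refine d.involution_cent_Q hx hx2 hπ (d.Q.mul_mem hq' hq) (commute_of_conj_eq ?_)
  rw [e1, e2, hζ1, one_mul]

/-- The elements of `L₀` fixing `q` modulo `Z`. -/
def stab (q : G) : Subgroup G where
  carrier := {x | x ∈ d.L₀ ∧ x * q * x⁻¹ * q⁻¹ ∈ d.Z}
  one_mem' := ⟨d.L₀.one_mem, by simp⟩
  mul_mem' := fun {x y} hx hy => ⟨d.L₀.mul_mem hx.1 hy.1, by
    have := d.Z.mul_mem hy.2 hx.2
    rwa [show x * y * q * (x * y)⁻¹ * q⁻¹ = y * q * y⁻¹ * q⁻¹ * (x * q * x⁻¹ * q⁻¹) from ?_]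
    calc x * y * q * (x * y)⁻¹ * q⁻¹ = x * (y * q * y⁻¹ * q⁻¹) * x⁻¹ * (x * q * x⁻¹ * q⁻¹) := by group
      _ = _ := by rw [conj_eq_of_commute (d.L₀_Z hx.1 hy.2)]⟩
  inv_mem' := fun {x} hx => ⟨d.L₀.inv_mem hx.1, by
    have := d.Z.inv_mem hx.2
    rwa [show x⁻¹ * q * (x⁻¹)⁻¹ * q⁻¹ = (x * q * x⁻¹ * q⁻¹)⁻¹ from ?_]
    calc x⁻¹ * q * (x⁻¹)⁻¹ * q⁻¹ = x⁻¹ * (x * q * x⁻¹ * q⁻¹)⁻¹ * x⁻¹⁻¹ := by group
      _ = _ := by rw [conj_eq_of_commute (d.L₀_Z (d.L₀.inv_mem hx.1) (d.Z.inv_mem hx.2))]⟩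

theorem mem_stab {q x : G} : x ∈ d.stab q ↔ x ∈ d.L₀ ∧ x * q * x⁻¹ * q⁻¹ ∈ d.Z := Iff.rfl

/-- Stabilisers of nontrivial vectors of `Q / Z` map to subgroups of order three. -/
theorem stab_three {q : G} (hq : q ∈ d.Q) (hqZ : q ∉ d.Z) {x : G} (hx : x ∈ d.stab q) :
    d.π₅ x ^ 3 = 1 := by
  classical
  have hno2 : ∀ y ∈ d.stab q, d.π₅ y ≠ -1 := by
    intro y hy e
    obtain ⟨h2, h3⟩ := d.exists_involution hy.1 e
    have hy3 := (d.stab q).pow_mem hy 3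
    have h := d.involution_inv_Q hy3.1 h2 h3 hq
    have hv : q * q ∈ d.Z := by
      have := d.Z.mul_mem (d.Z.inv_mem hy3.2) h
      rwa [show (y ^ 3 * q * (y ^ 3)⁻¹ * q⁻¹)⁻¹ * (y ^ 3 * q * (y ^ 3)⁻¹ * q) = q * q by group] at this
    exact hqZ (by
      have := d.Z.mul_mem hv hv
      rwa [show q * q * (q * q) = q ^ 3 * q by simp only [pow_succ, pow_zero, one_mul, mul_assoc], d.Q_exp q hq,
        one_mul] at this)
  have hno5 : ∀ y ∈ d.stab q, d.π₅ y ^ 5 = 1 → d.π₅ y = 1 := by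
    intro y hy e
    obtain ⟨h5, h6⟩ := d.exists_five hy.1 e
    have hy6 := (d.stab q).pow_mem hy 6
    set U := Subgroup.closure {d.z, q} with hUdef
    have hUQ : U ≤ d.Q := by
      rw [hUdef, Subgroup.closure_le]
      rintro v (rfl | rfl)
      exacts [d.z_mem_Q, hq]
    have hqU : q ∈ U := Subgroup.subset_closure (by simp)
    have hZU : d.Z ≤ U := Subgroup.zpowers_le.2 (Subgroup.subset_closure (by simp))
    have hne : U ≠ d.Q := by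
      intro eU
      refine hqZ (d.Q_center q hq fun b hb => ?_)
      rw [← eU] at hb
      induction hb using Subgroup.closure_induction with
      | mem v hv =>
        rcases hv with rfl | rfl
        · exact d.Q_z hq
        · rfl
      | one => simp
      | mul a b _ _ ha hb => exact ((show Commute q a from ha).mul_right hb).eq
      | inv a _ ha => exact (show Commute q a from ha).inv_right.eq
    have h9 : 9 ≤ Nat.card U := by
      obtain ⟨m, -, hm⟩ := card_three_dvd_pow Nat.prime_three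
        (show Nat.card d.Q = 3 ^ 5 by rw [d.Q_card]; rfl) hUQ
      rw [hm]
      by_contra h
      have hm1 : m ≤ 1 := by
        by_contra hm2
        exact h ((show 9 = 3 ^ 2 from rfl).le.trans (Nat.pow_le_pow_right (by norm_num) (by omega)))
      refine hqZ ?_
      rw [Subgroup.eq_of_le_of_card_ge hZU (by
        rw [hm, d.card_Z]; exact (Nat.pow_le_pow_right (by norm_num) hm1).trans (by norm_num))]
      exact hqU
    rw [← h6, d.five_normalize hy6.1 h5 hUQ hZU hne h9 fun u hu => ?_, d.π₅_one]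
    induction hu using Subgroup.closure_induction with
    | mem v hv =>
      rcases hv with rfl | rfl
      · rw [conj_eq_of_commute (d.L₀_cent _ hy6.1)]; exact hZU d.z_mem_Z
      · have := U.mul_mem (hZU hy6.2) hqU
        rwa [inv_mul_cancel_right] at this
    | one => simp
    | mul a b _ _ ha hb => rw [← conj_mul]; exact U.mul_mem ha hb
    | inv a _ ha => rw [← conj_inv]; exact U.inv_mem ha
  have hπ : ∀ n : ℕ, d.π₅ x ^ n = d.π₅ (x ^ n) := fun n => (d.π₅_pow hx.1 n).symm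
  have hcond : d.π₅ x ^ 5 ≠ 1 ∨ d.π₅ x = 1 := by
    by_cases h : d.π₅ x ^ 5 = 1
    · exact Or.inr (hno5 x hx h)
    · exact Or.inl h
  rcases SL5_small _ hcond with h | h | h | h | h
  · exact h
  all_goals first
    | exact absurd h (hno2 x hx)
    | (rw [hπ] at h; exact absurd h (hno2 _ ((d.stab q).pow_mem hx _)))

theorem stab_cyclic {q : G} (hq : q ∈ d.Q) (hqZ : q ∉ d.Z) {x y : G} (hx : x ∈ d.stab q)
    (hy : y ∈ d.stab q) (hx1 : d.π₅ x ≠ 1) : d.π₅ y = 1 ∨ d.π₅ y = d.π₅ x ∨ d.π₅ y = (d.π₅ x)⁻¹ := by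
  refine SL5_three _ (d.stab_three hq hqZ hx) hx1 _ (d.stab_three hq hqZ hy) ?_ ?_
  · rw [← d.map₅ _ hx.1 _ hy.1]; exact d.stab_three hq hqZ ((d.stab q).mul_mem hx hy)
  · rw [← d.π₅_inv hy.1, ← d.map₅ _ hx.1 _ (d.L₀.inv_mem hy.1)]
    exact d.stab_three hq hqZ ((d.stab q).mul_mem hx ((d.stab q).inv_mem hy))

/-- No large section of `Q / Z` is centralized by an element outside `Q`. -/
theorem fixed_small {s : G} (hs : s ∈ d.L₀) (hs1 : d.π₅ s ≠ 1) {W : Subgroup G} (hW : W ≤ d.Q)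
    (hZW : d.Z ≤ W) (h81 : 81 ≤ Nat.card W) (hfix : ∀ w ∈ W, s * w * s⁻¹ * w⁻¹ ∈ d.Z) : False := by
  classical
  obtain ⟨m, -, hm⟩ := card_three_dvd_pow Nat.prime_three (show Nat.card d.Q = 3 ^ 5 by rw [d.Q_card]; rfl) hW
  obtain ⟨w₀, hw₀, hw₀Z⟩ := exists_notMem_of_card_lt (H := W) (K := d.Z) (by rw [d.card_Z]; omega)
  have hs3 := d.stab_three (hW hw₀) hw₀Z (x := s) ⟨hs, hfix _ hw₀⟩
  obtain ⟨a, ha⟩ := SL5_generate _ hs3 hs1
  obtain ⟨y, hy, rfl⟩ := d.surj₅ a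
  set W' := W.map (MulAut.conj y).toMonoidHom with hW'
  have hW'Q : W' ≤ d.Q := by
    rintro _ ⟨w, hw, rfl⟩
    exact d.L₀_conj_Q hy (hW hw)
  have hW'c : Nat.card W' = Nat.card W :=
    Nat.card_congr (W.equivMapOfInjective _ (MulAut.conj y).injective).toEquiv.symm
  have hI : d.Z.carrier ≠ (W ⊓ W' : Subgroup G).carrier := by
    intro e
    have hle := card_mul_le hW hW'Q
    rw [hW'c, d.Q_card] at hle
    have he : d.Z = W ⊓ W' := SetLike.ext' e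
    rw [← he, d.card_Z] at hle
    have : 81 * 81 ≤ Nat.card W * Nat.card W := Nat.mul_le_mul h81 h81
    omega
  obtain ⟨w, hw, hwZ⟩ : ∃ w ∈ W ⊓ W', w ∉ d.Z := by
    by_contra hall
    push Not at hall
    refine hI (Set.ext fun v => ⟨fun hv => ⟨hZW hv, v, hZW hv, ?_⟩, hall v⟩)
    exact conj_eq_of_commute (d.L₀_Z hy hv)
  obtain ⟨hwW, w', hw', hww'⟩ := hw
  have hy' : y * s * y⁻¹ ∈ d.stab w := by
    refine ⟨d.L₀.mul_mem (d.L₀.mul_mem hy hs) (d.L₀.inv_mem hy), ?_⟩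
    subst hww'
    show y * s * y⁻¹ * (y * w' * y⁻¹) * (y * s * y⁻¹)⁻¹ * (y * w' * y⁻¹)⁻¹ ∈ d.Z
    rw [show y * s * y⁻¹ * (y * w' * y⁻¹) * (y * s * y⁻¹)⁻¹ * (y * w' * y⁻¹)⁻¹
      = y * (s * w' * s⁻¹ * w'⁻¹) * y⁻¹ by group, conj_eq_of_commute (d.L₀_Z hy (hfix _ hw'))]
    exact hfix _ hw'
  have h3 := d.stab_three (hW hwW) hwZ ((d.stab w).mul_mem (show s ∈ d.stab w from ⟨hs, hfix _ hwW⟩) hy')
  rw [d.map₅ _ hs _ hy'.1, d.π₅_conj hy hs] at h3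
  generalize d.π₅ s * (d.π₅ y * d.π₅ s * (d.π₅ y)⁻¹) = v at h3 ha
  rcases ha with ⟨h5, hne⟩ | ⟨h5, hne⟩
  · refine hne ?_
    calc v = (v ^ 3) ^ 2 * (v ^ 5)⁻¹ := by group
      _ = 1 := by rw [h3, h5, one_pow, inv_one, mul_one]
  · refine SL5_neg_one.2 ?_
    calc (-1 : SL5) = (-1 * -1) * -1 := by rw [SL5_neg_one.1, one_mul]
      _ = v ^ 5 * v ^ 5 * v ^ 5 := by rw [h5]
      _ = (v ^ 3) ^ 5 := by group
      _ = 1 := by rw [h3, one_pow]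

end Data

end Cfsg.Agent.McLThree
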