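/-
The Sylow three-subgroup, the subgroup `A = J ∩ Q`, and the weak closure of `J`.
-/
import Cfsg.Agent.Lib.McLThree.Quot

set_option autoImplicit false
set_option maxRecDepth 100000
set_option linter.style.longLine false
set_option linter.style.haveILetI false

namespace Cfsg.Agent.McLThree

namespace Data

variable {G : Type*} [Group G] [Finite G] (d : Data G)

theorem z_mem_S : d.z ∈ (d.S : Subgroup G) := ((d.center_S d.z).2 d.z_mem_Z).1

theorem S_z {s : G} (hs : s ∈ (d.S : Subgroup G)) : s * d.z = d.z * s :=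
  (((d.center_S d.z).2 d.z_mem_Z).2 s hs).symm

theorem mem_NZ_of_commute {g : G} (h : g * d.z = d.z * g) :
    g ∈ Subgroup.normalizer (Subgroup.zpowers d.z : Set G) := by
  refine Subgroup.mem_normalizer_fintype fun k hk => ?_
  obtain ⟨n, rfl⟩ := Subgroup.mem_zpowers_iff.1 hk
  rw [conj_eq_of_commute ((show Commute g d.z from h).zpow_right n).eq]
  exact zpow_mem (Subgroup.mem_zpowers _) n

theorem three_pow_of_mem {P : Subgroup G} (hP : IsPGroup 3 P) {g : G} (hg : g ∈ P) : ∃ k : ℕ, g ^ 3 ^ k = 1 := by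
  obtain ⟨k, hk⟩ := hP ⟨g, hg⟩
  exact ⟨k, by simpa using congrArg Subtype.val hk⟩

theorem S_le_L₀ : (d.S : Subgroup G) ≤ d.L₀ := fun s hs => by
  obtain ⟨k, hk⟩ := three_pow_of_mem d.S.isPGroup' hs
  exact d.three_mem_L₀ s (d.mem_NZ_of_commute (d.S_z hs)) k hk

theorem Q_le_S : d.Q ≤ (d.S : Subgroup G) := by
  have hS : (d.S : Subgroup G) ≤ Subgroup.normalizer (d.Q : Set G) := fun s hs =>
    Subgroup.mem_normalizer_fintype fun q hq => d.Q_conj s (d.mem_NZ_of_commute (d.S_z hs)) q hq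
  have hp : IsPGroup 3 ((d.S : Subgroup G) ⊔ d.Q : Subgroup G) :=
    d.S.isPGroup'.to_sup_of_normal_right' (IsPGroup.of_card (n := 5) (by rw [d.Q_card]; rfl)) hS
  have := d.S.is_maximal' hp le_sup_left
  exact this ▸ le_sup_right

/-- The restriction of `π₅` to `L₀`. -/
def hom₅ : d.L₀ →* SL5 := MonoidHom.mk' (fun x => d.π₅ x) fun x y => d.map₅ x x.2 y y.2

theorem card_L₀ : Nat.card d.L₀ = 243 * 120 := by
  have hker : d.hom₅.ker = d.Q.subgroupOf d.L₀ := by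
    ext x
    exact d.ker₅ x x.2
  rw [Subgroup.card_eq_card_quotient_mul_card_subgroup d.hom₅.ker,
    Nat.card_congr (QuotientGroup.quotientKerEquivOfSurjective d.hom₅ (fun a => by
      obtain ⟨x, hx, e⟩ := d.surj₅ a
      exact ⟨⟨x, hx⟩, e⟩)).toEquiv, hker,
    Nat.card_congr (Subgroup.subgroupOfEquivOfLe d.Q_le_L₀).toEquiv, d.Q_card,
    Nat.card_eq_fintype_card, card_SL5]

theorem card_S : Nat.card (d.S : Subgroup G) = 729 := by
  haveI := Fact.mk Nat.prime_three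
  obtain ⟨k, hk⟩ := IsPGroup.iff_card.1 d.S.isPGroup'
  have hle : 3 ^ k ∣ 243 * 120 := hk ▸ d.card_L₀ ▸ Subgroup.card_dvd_of_le d.S_le_L₀
  have hge : 3 ^ 6 ∣ 3 ^ k := by
    rw [← hk]
    refine d.S.pow_dvd_card_of_pow_dvd_card (n := 6) ?_
    exact (dvd_trans (by norm_num : 3 ^ 6 ∣ 243 * 120) (d.card_L₀ ▸ dvd_refl _)).trans (Subgroup.card_subgroup_dvd_card d.L₀)
  have h1 : 6 ≤ k := Nat.pow_dvd_pow_iff_le_right (by norm_num : 1 < 3) |>.1 hge
  have h2 : k ≤ 6 := by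
    by_contra h
    have := (pow_dvd_pow 3 (show 7 ≤ k by omega)).trans hle
    norm_num at this
  rw [hk, le_antisymm h2 h1]; rfl

theorem exists_S_notMem_Q : ∃ s ∈ (d.S : Subgroup G), s ∉ d.Q :=
  exists_notMem_of_card_lt (by rw [d.card_S, d.Q_card]; norm_num)

theorem π₅_S_cube {s : G} (hs : s ∈ (d.S : Subgroup G)) : d.π₅ s ^ 3 = 1 := by
  obtain ⟨k, hk⟩ := three_pow_of_mem d.S.isPGroup' hs
  have h1 : d.π₅ s ^ 3 ^ k = 1 := by rw [← d.π₅_pow (d.S_le_L₀ hs), hk, d.π₅_one]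
  have h2 := Nat.dvd_gcd (orderOf_dvd_of_pow_eq_one h1) (orderOf_dvd_natCard (d.π₅ s))
  rw [Nat.card_eq_fintype_card, card_SL5] at h2
  refine orderOf_dvd_iff_pow_eq_one.1 (h2.trans ?_)
  rcases Nat.eq_zero_or_pos k with rfl | hk
  · norm_num
  · obtain ⟨j, rfl⟩ := Nat.exists_eq_succ_of_ne_zero hk.ne'
    rw [pow_succ', show (120 : ℕ) = 3 * 40 from rfl, Nat.gcd_mul_left,
      ((show Nat.Coprime 3 40 by norm_num).pow_left j).gcd_eq_one]

/-- The image of `S` in `SL(2,5)` has order three. -/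
theorem π₅_S {s r : G} (hs : s ∈ (d.S : Subgroup G)) (hsQ : s ∉ d.Q) (hr : r ∈ (d.S : Subgroup G)) :
    d.π₅ r = 1 ∨ d.π₅ r = d.π₅ s ∨ d.π₅ r = (d.π₅ s)⁻¹ := by
  refine SL5_three _ (d.π₅_S_cube hs) (fun e => hsQ ((d.ker₅ s (d.S_le_L₀ hs)).1 e)) _ (d.π₅_S_cube hr) ?_ ?_
  · rw [← d.map₅ _ (d.S_le_L₀ hs) _ (d.S_le_L₀ hr)]
    exact d.π₅_S_cube (Subgroup.mul_mem _ hs hr)
  · rw [← d.π₅_inv (d.S_le_L₀ hr), ← d.map₅ _ (d.S_le_L₀ hs) _ (d.L₀.inv_mem (d.S_le_L₀ hr))]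
    exact d.π₅_S_cube (Subgroup.mul_mem _ hs (Subgroup.inv_mem _ hr))

theorem S_decomp {s r : G} (hs : s ∈ (d.S : Subgroup G)) (hsQ : s ∉ d.Q) (hr : r ∈ (d.S : Subgroup G)) :
    r ∈ d.Q ∨ r * s⁻¹ ∈ d.Q ∨ r * s ∈ d.Q := by
  have h1 := d.S_le_L₀ hs
  have h2 := d.S_le_L₀ hr
  rcases d.π₅_S hs hsQ hr with e | e | e
  · exact Or.inl ((d.ker₅ r h2).1 e)
  · refine Or.inr (Or.inl ((d.ker₅ _ (d.L₀.mul_mem h2 (d.L₀.inv_mem h1))).1 ?_))
    rw [d.map₅ _ h2 _ (d.L₀.inv_mem h1), d.π₅_inv h1, e, mul_inv_cancel]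
  · refine Or.inr (Or.inr ((d.ker₅ _ (d.L₀.mul_mem h2 h1)).1 ?_))
    rw [d.map₅ _ h2 _ h1, e, inv_mul_cancel]

/-- Abelian subgroups of `Q` have order at most 27. -/
theorem abelian_Q_le {B : Subgroup G} (hB : B ≤ d.Q) (hcomm : ∀ a ∈ B, ∀ b ∈ B, a * b = b * a) :
    Nat.card B ≤ 27 := by
  classical
  obtain ⟨m, hm5, hm⟩ := card_three_dvd_pow Nat.prime_three (show Nat.card d.Q = 3 ^ 5 by rw [d.Q_card]; rfl) hB
  by_contra hlt
  have hm4 : 4 ≤ m := by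
    by_contra h
    exact hlt (hm ▸ (Nat.pow_le_pow_right (by norm_num) (show m ≤ 3 by omega)).trans (by norm_num))
  rcases Nat.eq_or_lt_of_le hm5 with rfl | hlt5
  · have hBQ : B = d.Q := Subgroup.eq_of_le_of_card_ge hB (by rw [hm, d.Q_card]; rfl)
    have hle : d.Q ≤ d.Z := fun q hq => d.Q_center q hq fun b hb => hcomm q (hBQ ▸ hq) b (hBQ ▸ hb)
    have := Subgroup.card_le_of_le hle
    rw [d.Q_card, d.card_Z] at this
    norm_num at this
  obtain rfl : m = 4 := by omega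
  obtain ⟨q, hq, hqB⟩ := exists_notMem_of_card_lt (H := d.Q) (K := B) (by rw [hm, d.Q_card]; norm_num)
  let f : B →* d.Z :=
    MonoidHom.mk' (fun b => ⟨(b : G) * q * (b : G)⁻¹ * q⁻¹, d.Q_comm' (hB b.2) hq⟩) fun a b => Subtype.ext (by
      show (a : G) * b * q * ((a : G) * b)⁻¹ * q⁻¹ = a * q * (a : G)⁻¹ * q⁻¹ * (b * q * (b : G)⁻¹ * q⁻¹)
      have hc : ((a : G) * q * (a : G)⁻¹ * q⁻¹) * (b * q * (b : G)⁻¹ * q⁻¹)
          = (b * q * (b : G)⁻¹ * q⁻¹) * (a * q * (a : G)⁻¹ * q⁻¹) :=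
        d.L₀_Z (d.Q_le_L₀ (d.Z_le_Q (d.Q_comm' (hB a.2) hq))) (d.Q_comm' (hB b.2) hq)
      rw [hc]
      calc (a : G) * b * q * ((a : G) * b)⁻¹ * q⁻¹
          = a * (b * q * (b : G)⁻¹ * q⁻¹) * (a : G)⁻¹ * (a * q * (a : G)⁻¹ * q⁻¹) := by group
        _ = _ := by rw [conj_eq_of_commute (d.L₀_Z (d.Q_le_L₀ (hB a.2)) (d.Q_comm' (hB b.2) hq))])
  have hrange : Nat.card f.range ∣ 3 := d.card_Z ▸ Subgroup.card_subgroup_dvd_card f.range
  have h27 : 27 ≤ Nat.card f.ker := by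
    have h := Subgroup.card_eq_card_quotient_mul_card_subgroup f.ker
    rw [Nat.card_congr (QuotientGroup.quotientKerEquivRange f).toEquiv, hm] at h
    have := Nat.le_of_dvd (by norm_num) hrange
    nlinarith
  set U := B ⊔ Subgroup.closure {q} with hU
  have hUQ : U = d.Q := by
    refine Subgroup.eq_of_le_of_card_ge (sup_le hB (by rw [Subgroup.closure_le]; simpa using hq)) ?_
    obtain ⟨m', hm', hmU⟩ := card_three_dvd_pow Nat.prime_three
      (show Nat.card d.Q = 3 ^ 5 by rw [d.Q_card]; rfl)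
      (sup_le hB (by rw [Subgroup.closure_le]; simpa using hq) : U ≤ d.Q)
    have : 4 < m' := by
      by_contra h
      have hBU : B = U := Subgroup.eq_of_le_of_card_ge le_sup_left (by
        rw [hmU, hm]; exact Nat.pow_le_pow_right (by norm_num) (by omega))
      exact hqB (hBU ▸ (le_sup_right : _ ≤ U) (Subgroup.subset_closure rfl))
    rw [hmU, d.Q_card, show m' = 5 by omega]; rfl
  have hle : f.ker.map B.subtype ≤ d.Z := by
    rintro _ ⟨b, hb, rfl⟩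
    refine d.Q_center _ (hB b.2) fun x hx => ?_
    rw [← hUQ, hU, ← Subgroup.closure_eq B, ← Subgroup.closure_union] at hx
    induction hx using Subgroup.closure_induction with
    | mem v hv =>
      rcases hv with hv | hv
      · exact hcomm _ b.2 _ hv
      · have hv' : v = q := hv
        subst hv'
        have := congrArg Subtype.val (show f b = 1 from hb)
        exact commute_of_conj_eq (mul_inv_eq_one.1 this)
    | one => simp
    | mul a c _ _ ha hc => exact ((show Commute (b : G) a from ha).mul_right hc).eq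
    | inv a _ ha => exact (show Commute (b : G) a from ha).inv_right.eq
  have := Subgroup.card_le_of_le hle
  rw [Subgroup.card_map_of_injective B.subtype_injective, d.card_Z] at this
  omega

/-- The intersection of `J` and `Q`. -/
def A : Subgroup G := d.J ⊓ d.Q

theorem mem_A {a : G} : a ∈ d.A ↔ a ∈ d.J ∧ a ∈ d.Q := Subgroup.mem_inf

theorem A_le_J : d.A ≤ d.J := inf_le_left

theorem A_le_Q : d.A ≤ d.Q := inf_le_right

theorem card_inf_Q {B : Subgroup G} (hB : B ≤ (d.S : Subgroup G)) (hcard : Nat.card B = 81)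
    (hcomm : ∀ a ∈ B, ∀ b ∈ B, a * b = b * a) : Nat.card (B ⊓ d.Q : Subgroup G) = 27 := by
  have h := card_mul_le hB d.Q_le_S
  rw [hcard, d.Q_card, d.card_S] at h
  have h2 := d.abelian_Q_le (inf_le_right : B ⊓ d.Q ≤ d.Q) fun a ha b hb => hcomm a ha.1 b hb.1
  omega

theorem card_A : Nat.card d.A = 27 := d.card_inf_Q d.J_le d.J_card d.J_comm

theorem mem_A_of_commute {q : G} (hq : q ∈ d.Q) (h : ∀ a ∈ d.A, q * a = a * q) : q ∈ d.A := by
  by_contra hqA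
  set B := d.A ⊔ Subgroup.closure {q} with hB
  have hBQ : B ≤ d.Q := sup_le d.A_le_Q (by rw [Subgroup.closure_le]; simpa using hq)
  have hcomm : ∀ a ∈ B, ∀ b ∈ B, a * b = b * a := by
    have hB' : B = Subgroup.closure (d.A ∪ {q}) := by
      rw [Subgroup.closure_union, Subgroup.closure_eq]
    haveI := Subgroup.isMulCommutative_closure (k := (d.A : Set G) ∪ {q}) (by
      rintro x (hx | rfl) y (hy | rfl)
      · exact d.J_comm x (d.A_le_J hx) y (d.A_le_J hy)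
      · exact (h x hx).symm
      · exact h y hy
      · rfl)
    intro a ha b hb
    rw [hB'] at ha hb
    exact congrArg Subtype.val (mul_comm' (⟨a, ha⟩ : Subgroup.closure ((d.A : Set G) ∪ {q})) ⟨b, hb⟩)
  have h1 := d.abelian_Q_le hBQ hcomm
  have h2 : Nat.card d.A < Nat.card B := by
    refine lt_of_le_of_ne (Subgroup.card_le_of_le le_sup_left) fun e => hqA ?_
    rw [Subgroup.eq_of_le_of_card_ge (le_sup_left : d.A ≤ B) e.symm.le]
    exact (le_sup_right : _ ≤ B) (Subgroup.subset_closure rfl)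
  rw [d.card_A] at h2
  omega

theorem z_mem_A : d.z ∈ d.A :=
  d.mem_A_of_commute d.z_mem_Q fun _ ha => (d.Q_z (d.A_le_Q ha)).symm

theorem z_mem_J : d.z ∈ d.J := d.A_le_J d.z_mem_A

theorem Z_le_A : d.Z ≤ d.A := Subgroup.zpowers_le.2 d.z_mem_A

theorem exists_J_notMem_Q : ∃ j ∈ d.J, j ∉ d.Q := by
  obtain ⟨j, hj, hjA⟩ := exists_notMem_of_card_lt (H := d.J) (K := d.A) (by rw [d.card_A, d.J_card]; norm_num)
  exact ⟨j, hj, fun h => hjA ⟨hj, h⟩⟩

theorem S_A_comm {s a : G} (hs : s ∈ (d.S : Subgroup G)) (ha : a ∈ d.A) : s * a * s⁻¹ * a⁻¹ ∈ d.Z := by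
  obtain ⟨j, hj, hjQ⟩ := d.exists_J_notMem_Q
  have hjc : ∀ i : G, i ∈ d.J → i * a * i⁻¹ = a := fun i hi =>
    conj_eq_of_commute (d.J_comm i hi a (d.A_le_J ha))
  rcases d.S_decomp (d.J_le hj) hjQ hs with h | h | h
  · exact d.Q_comm' h (d.A_le_Q ha)
  · have := d.Q_comm' h (d.A_le_Q ha)
    rwa [show s * j⁻¹ * a * (s * j⁻¹)⁻¹ * a⁻¹ = s * (j⁻¹ * a * j⁻¹⁻¹) * s⁻¹ * a⁻¹ by group,
      hjc _ (d.J.inv_mem hj)] at this
  · have := d.Q_comm' h (d.A_le_Q ha)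
    rwa [show s * j * a * (s * j)⁻¹ * a⁻¹ = s * (j * a * j⁻¹) * s⁻¹ * a⁻¹ by group, hjc _ hj] at this

theorem S_conj_A {s a : G} (hs : s ∈ (d.S : Subgroup G)) (ha : a ∈ d.A) : s * a * s⁻¹ ∈ d.A := by
  have := d.A.mul_mem (d.Z_le_A (d.S_A_comm hs ha)) ha
  rwa [inv_mul_cancel_right] at this

theorem mem_J_of_commute {s : G} (hs : s ∈ (d.S : Subgroup G)) (h : ∀ a ∈ d.A, s * a = a * s) : s ∈ d.J := by
  obtain ⟨j, hj, hjQ⟩ := d.exists_J_notMem_Q
  have hjc : ∀ a ∈ d.A, Commute j a := fun a ha => d.J_comm j hj a (d.A_le_J ha)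
  rcases d.S_decomp (d.J_le hj) hjQ hs with h' | h' | h'
  · exact d.A_le_J (d.mem_A_of_commute h' h)
  · have := d.J.mul_mem (d.A_le_J (d.mem_A_of_commute h' fun a ha =>
      ((show Commute s a from h a ha).mul_left (hjc a ha).inv_left).eq)) hj
    rwa [inv_mul_cancel_right] at this
  · have := d.J.mul_mem (d.A_le_J (d.mem_A_of_commute h' fun a ha =>
      ((show Commute s a from h a ha).mul_left (hjc a ha)).eq)) (d.J.inv_mem hj)
    rwa [mul_inv_cancel_right] at this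

theorem S_conj_J {s j : G} (hs : s ∈ (d.S : Subgroup G)) (hj : j ∈ d.J) : s * j * s⁻¹ ∈ d.J := by
  refine d.mem_J_of_commute (Subgroup.mul_mem _ (Subgroup.mul_mem _ hs (d.J_le hj)) (Subgroup.inv_mem _ hs))
    fun a ha => ?_
  have ha' := d.S_conj_A (Subgroup.inv_mem _ hs) ha
  rw [inv_inv] at ha'
  calc s * j * s⁻¹ * a = s * (j * (s⁻¹ * a * s)) * s⁻¹ := by group
    _ = s * (s⁻¹ * a * s * j) * s⁻¹ := by rw [d.J_comm j hj _ (d.A_le_J ha')]
    _ = a * (s * j * s⁻¹) := by group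

theorem S_le_NJ : (d.S : Subgroup G) ≤ Subgroup.normalizer (d.J : Set G) := fun _ hs =>
  Subgroup.mem_normalizer_fintype fun _ hj => d.S_conj_J hs hj

theorem S_le_M₀ : (d.S : Subgroup G) ≤ d.M₀ := fun s hs => by
  obtain ⟨k, hk⟩ := three_pow_of_mem d.S.isPGroup' hs
  exact d.three_mem_M₀ s (d.S_le_NJ hs) k hk

theorem J_comm_A {s j : G} (hs : s ∈ (d.S : Subgroup G)) (hj : j ∈ d.J) : s * j * s⁻¹ * j⁻¹ ∈ d.A := by
  refine ⟨d.J.mul_mem (d.S_conj_J hs hj) (d.J.inv_mem hj), ?_⟩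
  have hs' := d.S_le_L₀ hs
  have hj' := d.S_le_L₀ (d.J_le hj)
  refine (d.ker₅ _ (d.L₀.mul_mem (d.L₀.mul_mem (d.L₀.mul_mem hs' hj') (d.L₀.inv_mem hs')) (d.L₀.inv_mem hj'))).1 ?_
  rw [d.map₅ _ (d.L₀.mul_mem (d.L₀.mul_mem hs' hj') (d.L₀.inv_mem hs')) _ (d.L₀.inv_mem hj'),
    d.π₅_conj hs' hj', d.π₅_inv hj']
  rcases Classical.em (s ∈ d.Q) with hsQ | hsQ
  · rw [(d.ker₅ s hs').2 hsQ]; group
  · rcases d.π₅_S hs hsQ (d.J_le hj) with e | e | e <;> rw [e] <;> group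

/-- Vectors of `Q / Z` fixed by an element of `S` outside `Q` lie in `A`. -/
theorem fix_le_A {s c : G} (hs : s ∈ (d.S : Subgroup G)) (hsQ : s ∉ d.Q) (hc : c ∈ d.Q)
    (h : s * c * s⁻¹ * c⁻¹ ∈ d.Z) : c ∈ d.A := by
  classical
  by_contra hcA
  have hsL := d.S_le_L₀ hs
  let F : Subgroup G :=
    { carrier := {q | q ∈ d.Q ∧ s * q * s⁻¹ * q⁻¹ ∈ d.Z}
      one_mem' := ⟨d.Q.one_mem, by simp⟩
      mul_mem' := fun {a b} ha hb => ⟨d.Q.mul_mem ha.1 hb.1, by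
        have := d.Z.mul_mem ha.2 hb.2
        rwa [show s * (a * b) * s⁻¹ * (a * b)⁻¹ = s * a * s⁻¹ * a⁻¹ * (s * b * s⁻¹ * b⁻¹) from ?_]
        calc s * (a * b) * s⁻¹ * (a * b)⁻¹
            = (s * a * s⁻¹ * a⁻¹) * (a * (s * b * s⁻¹ * b⁻¹) * a⁻¹) := by group
          _ = _ := by rw [conj_eq_of_commute (d.L₀_Z (d.Q_le_L₀ ha.1) hb.2)]⟩
      inv_mem' := fun {a} ha => ⟨d.Q.inv_mem ha.1, by
        have := d.Z.inv_mem ha.2
        rwa [show s * a⁻¹ * s⁻¹ * (a⁻¹)⁻¹ = (s * a * s⁻¹ * a⁻¹)⁻¹ from ?_]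
        calc s * a⁻¹ * s⁻¹ * (a⁻¹)⁻¹ = a⁻¹ * (s * a * s⁻¹ * a⁻¹)⁻¹ * a⁻¹⁻¹ := by group
          _ = _ := by rw [conj_eq_of_commute (d.L₀_Z (d.Q_le_L₀ (d.Q.inv_mem ha.1)) (d.Z.inv_mem ha.2))]⟩ }
  have hAF : d.A ≤ F := fun a ha => ⟨d.A_le_Q ha, d.S_A_comm hs ha⟩
  obtain ⟨m, -, hm⟩ := card_three_dvd_pow Nat.prime_three
    (show Nat.card d.Q = 3 ^ 5 by rw [d.Q_card]; rfl) (show F ≤ d.Q from fun q hq => hq.1)
  have h27 : 27 < 3 ^ m := by
    rw [← hm, ← d.card_A]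
    refine lt_of_le_of_ne (Subgroup.card_le_of_le hAF) fun e => hcA ?_
    rw [Subgroup.eq_of_le_of_card_ge hAF e.symm.le]
    exact ⟨hc, h⟩
  have hm4 : 4 ≤ m := by
    by_contra h'
    exact absurd h27 (not_lt.2 ((Nat.pow_le_pow_right (by norm_num) (show m ≤ 3 by omega)).trans (by norm_num)))
  exact d.fixed_small hsL (fun e => hsQ ((d.ker₅ s hsL).1 e)) (W := F) (fun q hq => hq.1)
    (d.Z_le_A.trans hAF) (hm ▸ (Nat.pow_le_pow_right (by norm_num) hm4 : 3 ^ 4 ≤ 3 ^ m)) fun w hw => hw.2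

/-- `J` is the only abelian subgroup of order 81 of `S`. -/
theorem eq_J {B : Subgroup G} (hB : B ≤ (d.S : Subgroup G)) (hcard : Nat.card B = 81)
    (hcomm : ∀ a ∈ B, ∀ b ∈ B, a * b = b * a) : B = d.J := by
  have hC := d.card_inf_Q hB hcard hcomm
  obtain ⟨b, hb, hbC⟩ := exists_notMem_of_card_lt (H := B) (K := B ⊓ d.Q) (by rw [hC, hcard]; norm_num)
  have hle : B ⊓ d.Q ≤ d.A := fun c hc =>
    d.fix_le_A (hB hb) (fun h => hbC ⟨hb, h⟩) hc.2 (by
      rw [conj_eq_of_commute (hcomm b hb c hc.1), mul_inv_cancel]; exact d.Z.one_mem)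
  have heq : B ⊓ d.Q = d.A := Subgroup.eq_of_le_of_card_ge hle (by rw [hC, d.card_A])
  refine Subgroup.eq_of_le_of_card_ge (fun x hx => d.mem_J_of_commute (hB hx) fun a ha => ?_)
    (by rw [hcard, d.J_card])
  rw [← heq] at ha
  exact hcomm x hx a ha.1

/-- `J` is weakly closed in `S`. -/
theorem weak_closure {g : G} (h : ∀ j ∈ d.J, g * j * g⁻¹ ∈ (d.S : Subgroup G)) :
    g ∈ Subgroup.normalizer (d.J : Set G) := by
  have := d.eq_J (B := d.J.map (MulAut.conj g).toMonoidHom) (by rintro _ ⟨j, hj, rfl⟩; exact h j hj)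
    (by rw [Subgroup.card_map_of_injective (MulAut.conj g).injective, d.J_card])
    (by
      rintro _ ⟨a, ha, rfl⟩ _ ⟨b, hb, rfl⟩
      show g * a * g⁻¹ * (g * b * g⁻¹) = g * b * g⁻¹ * (g * a * g⁻¹)
      rw [conj_mul, conj_mul, d.J_comm a ha b hb])
  refine Subgroup.mem_normalizer_fintype fun j hj => ?_
  rw [SetLike.mem_coe, ← this]
  exact ⟨j, hj, rfl⟩

/-- A three-subgroup containing `J` lies in a conjugate of `S` by an element of `N(J)`. -/
theorem exists_conj_into_S {T : Subgroup G} (hT : IsPGroup 3 T) (hJT : d.J ≤ T) :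
    ∃ g ∈ Subgroup.normalizer (d.J : Set G), ∀ x ∈ T, g * x * g⁻¹ ∈ (d.S : Subgroup G) := by
  haveI := Fact.mk Nat.prime_three
  obtain ⟨P, hP⟩ := hT.exists_le_sylow
  obtain ⟨g, hg⟩ := MulAction.exists_smul_eq G P d.S
  have h : ∀ x ∈ T, g * x * g⁻¹ ∈ (d.S : Subgroup G) := fun x hx => by
    rw [← hg]
    exact ⟨x, hP hx, rfl⟩
  exact ⟨g, d.weak_closure fun j hj => h j (hJT hj), h⟩

/-- `C(J) = J`. -/
theorem mem_J_of_commute_J {g : G} (h : ∀ j ∈ d.J, g * j = j * g) : g ∈ d.J := by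
  classical
  haveI := Fact.mk Nat.prime_three
  have hNJ : g ∈ Subgroup.normalizer (d.J : Set G) :=
    Subgroup.mem_normalizer_fintype fun j hj => by rw [conj_eq_of_commute (h j hj)]; exact hj
  have hNZ : g ∈ Subgroup.normalizer (Subgroup.zpowers d.z : Set G) := d.mem_NZ_of_commute (h _ d.z_mem_J)
  obtain ⟨k, m, hm, hn⟩ := Nat.exists_eq_pow_mul_and_not_dvd (orderOf_pos g).ne' 3 (by norm_num)
  have hm1 : g ^ 3 ^ k = 1 := by
    set f := g ^ 3 ^ k with hf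
    have hfm : f ^ m = 1 := by rw [hf, ← pow_mul, ← hn, pow_orderOf_eq_one]
    have hfA : ∀ a ∈ d.A, Commute f a := fun a ha =>
      (show Commute g a from h a (d.A_le_J ha)).pow_left _
    have hfQ : ∀ q ∈ d.Q, f * q * f⁻¹ ∈ d.Q := fun q hq => d.Q_conj f (pow_mem hNZ _) q hq
    have hcQ : ∀ q ∈ d.Q, f * q = q * f := by
      intro q hq
      set u := q⁻¹ * (f * q * f⁻¹) with hu
      have huA : u ∈ d.A := by
        refine d.mem_A_of_commute (d.Q.mul_mem (d.Q.inv_mem hq) (hfQ q hq)) fun a ha => ?_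
        refine commute_of_conj_eq ?_
        set ζ := q * a * q⁻¹ * a⁻¹ with hζ
        have hζf : f * ζ * f⁻¹ = ζ :=
          conj_eq_of_commute ((show Commute f ζ from hfA ζ (d.Z_le_A (d.Q_comm' hq (d.A_le_Q ha)))).eq)
        calc q⁻¹ * (f * q * f⁻¹) * a * (q⁻¹ * (f * q * f⁻¹))⁻¹
            = q⁻¹ * (f * (q * (f⁻¹ * a * f) * q⁻¹) * f⁻¹) * q := by group
          _ = q⁻¹ * (f * (q * a * q⁻¹) * f⁻¹) * q := by
              rw [mul_assoc f⁻¹, ← (hfA a ha).eq, inv_mul_cancel_left]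
          _ = q⁻¹ * (f * (ζ * a) * f⁻¹) * q := by rw [hζ]; group
          _ = q⁻¹ * (ζ * (f * a * f⁻¹)) * q := by
              rw [show f * (ζ * a) * f⁻¹ = f * ζ * f⁻¹ * (f * a * f⁻¹) by group, hζf]
          _ = a := by rw [conj_eq_of_commute (hfA a ha).eq, hζ]; group
      exact commute_of_twist (u := u) (n := m) (k := 3) (by rw [hu]; group) (hfA u huA).eq
        (d.J_exp u (d.A_le_J huA)) (by rw [hfm, one_mul, mul_one])
        ((Nat.coprime_comm.1 ((Nat.Prime.coprime_iff_not_dvd Nat.prime_three).2 hm)))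
    have h3 := d.Q_exp f (d.cent_Q f hcQ)
    refine orderOf_eq_one_iff.1 (Nat.dvd_one.1 ?_)
    rw [← ((Nat.Prime.coprime_iff_not_dvd Nat.prime_three).2 hm).gcd_eq_one]
    exact Nat.dvd_gcd (orderOf_dvd_of_pow_eq_one h3) (orderOf_dvd_of_pow_eq_one hfm)
  have hp : IsPGroup 3 (Subgroup.zpowers g) := by
    obtain ⟨i, -, hi⟩ := (Nat.dvd_prime_pow Nat.prime_three).1 (orderOf_dvd_of_pow_eq_one hm1)
    exact IsPGroup.of_card (n := i) (by rw [Nat.card_zpowers, hi])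
  have hT : IsPGroup 3 (d.J ⊔ Subgroup.zpowers g : Subgroup G) :=
    (IsPGroup.of_card (n := 4) (by rw [d.J_card]; rfl)).to_sup_of_normal_left' hp (Subgroup.zpowers_le.2 hNJ)
  obtain ⟨y, hy, hyS⟩ := d.exists_conj_into_S hT le_sup_left
  have := d.mem_J_of_commute (hyS g ((le_sup_right : _ ≤ d.J ⊔ _) (Subgroup.mem_zpowers g))) fun a ha => by
    have ha' : y⁻¹ * a * y ∈ d.J := (Subgroup.mem_normalizer_iff''.1 hy a).1 (d.A_le_J ha)
    calc y * g * y⁻¹ * a = y * (g * (y⁻¹ * a * y)) * y⁻¹ := by group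
      _ = y * (y⁻¹ * a * y * g) * y⁻¹ := by rw [h _ ha']
      _ = a * (y * g * y⁻¹) := by group
  exact (Subgroup.mem_normalizer_iff.1 hy g).2 this

/-- `N(J)` controls fusion in `J`. -/
theorem fusion {a g : G} (ha : a ∈ d.J) (hb : g * a * g⁻¹ ∈ d.J) :
    ∃ n ∈ Subgroup.normalizer (d.J : Set G), n * a * n⁻¹ = g * a * g⁻¹ := by
  haveI := Fact.mk Nat.prime_three
  set b := g * a * g⁻¹ with hbdef
  set C := Subgroup.centralizer ({b} : Set G) with hC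
  have h1 : d.J ≤ C := fun j hj => mem_centralizer_one.2 (d.J_comm j hj b hb)
  set J' := d.J.map (MulAut.conj g).toMonoidHom with hJ'
  have h2 : J' ≤ C := by
    rintro _ ⟨j, hj, rfl⟩
    refine mem_centralizer_one.2 ?_
    show g * j * g⁻¹ * (g * a * g⁻¹) = g * a * g⁻¹ * (g * j * g⁻¹)
    rw [conj_mul, conj_mul, d.J_comm j hj a ha]
  have hpJ : IsPGroup 3 d.J := IsPGroup.of_card (n := 4) (by rw [d.J_card]; rfl)
  obtain ⟨P₁, hP₁⟩ := (hpJ.comap_subtype (K := C)).exists_le_sylow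
  obtain ⟨P₂, hP₂⟩ := ((hpJ.map (MulAut.conj g).toMonoidHom).comap_subtype (K := C)).exists_le_sylow
  obtain ⟨c, hc⟩ := MulAction.exists_smul_eq C P₂ P₁
  have hT : IsPGroup 3 ((P₁ : Subgroup C).map C.subtype) := P₁.isPGroup'.map _
  have hJT : d.J ≤ (P₁ : Subgroup C).map C.subtype := fun j hj => ⟨⟨j, h1 hj⟩, hP₁ hj, rfl⟩
  obtain ⟨y, hy, hyS⟩ := d.exists_conj_into_S hT hJT
  have hcg : y * (c : G) * g ∈ Subgroup.normalizer (d.J : Set G) := by
    refine d.weak_closure fun j hj => ?_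
    have hj' : g * j * g⁻¹ ∈ J' := ⟨j, hj, rfl⟩
    have h3 : c * (⟨g * j * g⁻¹, h2 hj'⟩ : C) * c⁻¹ ∈ (P₁ : Subgroup C) := by
      rw [← hc]; exact ⟨_, hP₂ hj', rfl⟩
    have := hyS _ ⟨_, h3, rfl⟩
    rwa [show y * (c : G) * g * j * (y * c * g)⁻¹
      = y * ((c : G) * (g * j * g⁻¹) * (c : G)⁻¹) * y⁻¹ by group]
  refine ⟨(c : G) * g, ?_, ?_⟩
  · have := Subgroup.mul_mem _ (Subgroup.inv_mem _ hy) hcg
    rwa [show y⁻¹ * (y * c * g) = (c : G) * g by group] at this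
  · calc (c : G) * g * a * ((c : G) * g)⁻¹ = c * b * (c : G)⁻¹ := by rw [hbdef]; group
      _ = b := conj_eq_of_commute (mem_centralizer_one.1 c.2)

end Data

end Cfsg.Agent.McLThree
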