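/-
The conjugates of `z` in `J`, and the choice of the involution `t`.
-/
import Cfsg.Agent.Lib.McLThree.Sylow

set_option autoImplicit false
set_option maxRecDepth 100000
set_option synthInstance.maxSize 4000
set_option linter.style.longLine false
set_option linter.style.haveILetI false

namespace Cfsg.Agent.McLThree

/-- The data with `S / J` mapped onto `P0`. -/
structure Based (G : Type*) [Group G] extends Data G where
  mem_S_iff : ∀ x ∈ M₀, x ∈ (S : Subgroup G) ↔ π₆ x ∈ P0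

namespace Data

variable {G : Type*} [Group G] [Finite G]

/-- The restriction of `π₆` to `M₀`. -/
def hom₆ (d : Data G) : d.M₀ →* A6 := MonoidHom.mk' (fun x => d.π₆ x) fun x y => d.map₆ x x.2 y y.2

theorem nonempty_based (d : Data G) : Nonempty (Based G) := by
  classical
  haveI := Fact.mk Nat.prime_three
  have hsurj : Function.Surjective d.hom₆ := fun a => by
    obtain ⟨x, hx, e⟩ := d.surj₆ a
    exact ⟨⟨x, hx⟩, e⟩
  have hker : d.hom₆.ker ≤ (d.S : Subgroup G).subgroupOf d.M₀ := fun x hx =>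
    Subgroup.mem_subgroupOf.2 (d.J_le ((d.ker₆ x x.2).1 hx))
  let S' : Sylow 3 d.M₀ := d.S.subtype d.S_le_M₀
  let T : Sylow 3 A6 := S'.mapSurjective hsurj
  have h9 : Nat.card P0 = 3 ^ (Nat.card A6).factorization 3 := by
    rw [card_P0, show Nat.card A6 = 360 by rw [Nat.card_eq_fintype_card]; decide +kernel,
      Nat.factorization_def _ Nat.prime_three,
      show (360 : ℕ) = 3 ^ 2 * 40 from rfl, padicValNat.mul (by norm_num) (by norm_num),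
      padicValNat.prime_pow, padicValNat.eq_zero_of_not_dvd (by norm_num : ¬ 3 ∣ 40)]
    rfl
  obtain ⟨a, ha⟩ := MulAction.exists_smul_eq A6 T (Sylow.ofCard P0 h9)
  refine ⟨{ d with
    π₆ := fun x => a * d.π₆ x * a⁻¹
    map₆ := fun x hx y hy => by rw [d.map₆ x hx y hy]; group
    surj₆ := fun b => by
      obtain ⟨x, hx, e⟩ := d.surj₆ (a⁻¹ * b * a)
      exact ⟨x, hx, by rw [e]; group⟩
    ker₆ := fun x hx => by rw [conj_eq_one_iff]; exact d.ker₆ x hx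
    mem_S_iff := fun x hx => ?_ }⟩
  have hP : (P0 : Subgroup A6) = ((a • T : Sylow 3 A6) : Subgroup A6) := by rw [ha]; rfl
  rw [hP]
  constructor
  · intro h
    refine ⟨d.π₆ x, ⟨⟨x, hx⟩, h, rfl⟩, rfl⟩
  · rintro ⟨y, ⟨x', hx', rfl⟩, e⟩
    have e' : d.π₆ (x' : G) = d.π₆ x := mul_left_cancel (mul_right_cancel e)
    have := (d.π₆_eq_iff x'.2 hx).1 e'
    have h2 := (d.S : Subgroup G).mul_mem (Subgroup.mem_subgroupOf.1 hx') (d.J_le this)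
    rwa [mul_inv_cancel_left] at h2

end Data

namespace Based

variable {G : Type*} [Group G] [Finite G] (d : Based G)

theorem π₆_S {s : G} (hs : s ∈ (d.S : Subgroup G)) : d.π₆ s ∈ sylList :=
  (d.mem_S_iff s (d.S_le_M₀ hs)).1 hs

theorem exists_S {p : A6} (hp : p ∈ sylList) : ∃ s ∈ (d.S : Subgroup G), d.π₆ s = p := by
  obtain ⟨x, hx, rfl⟩ := d.surj₆ p
  exact ⟨x, (d.mem_S_iff x hx).2 hp, rfl⟩

theorem mem_S_of_π₆ {x : G} (hx : x ∈ d.M₀) (h : d.π₆ x ∈ sylList) : x ∈ (d.S : Subgroup G) :=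
  (d.mem_S_iff x hx).2 h

theorem mem_NS_of_π₆ {x : G} (hx : x ∈ d.M₀) (h : NormP0 (d.π₆ x)) :
    x ∈ Subgroup.normalizer ((d.S : Subgroup G) : Set G) :=
  Subgroup.mem_normalizer_fintype fun s hs => by
    refine d.mem_S_of_π₆ (d.M₀.mul_mem (d.M₀.mul_mem hx (d.S_le_M₀ hs)) (d.M₀.inv_mem hx)) ?_
    rw [d.π₆_conj hx (d.S_le_M₀ hs)]
    exact normP0_conj _ h _ (d.π₆_S hs)

theorem normP0_of_mem_NS {x : G} (hx : x ∈ d.M₀) (h : x ∈ Subgroup.normalizer ((d.S : Subgroup G) : Set G)) :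
    NormP0 (d.π₆ x) := by
  have key : ∀ p ∈ sylList, d.π₆ x * p * (d.π₆ x)⁻¹ ∈ sylList := by
    intro p hp
    obtain ⟨s, hs, rfl⟩ := d.exists_S hp
    rw [← d.π₆_conj hx (d.S_le_M₀ hs)]
    exact d.π₆_S ((Subgroup.mem_normalizer_iff.1 h s).1 hs)
  exact ⟨key _ (by simp [sylList]), key _ (by simp [sylList])⟩

theorem NS_conj_z {x : G} (h : x ∈ Subgroup.normalizer ((d.S : Subgroup G) : Set G)) :
    x * d.z * x⁻¹ ∈ d.Z := by
  refine (d.center_S _).1 ⟨(Subgroup.mem_normalizer_iff.1 h _).1 d.z_mem_S, fun s hs => ?_⟩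
  have := d.S_z ((Subgroup.mem_normalizer_iff''.1 h s).1 hs)
  calc x * d.z * x⁻¹ * s = x * (d.z * (x⁻¹ * s * x)) * x⁻¹ := by group
    _ = x * (x⁻¹ * s * x * d.z) * x⁻¹ := by rw [this]
    _ = s * (x * d.z * x⁻¹) := by group

theorem NS_mem_NZ {x : G} (h : x ∈ Subgroup.normalizer ((d.S : Subgroup G) : Set G)) :
    x ∈ Subgroup.normalizer (Subgroup.zpowers d.z : Set G) :=
  Subgroup.mem_normalizer_fintype fun k hk => by
    obtain ⟨n, rfl⟩ := Subgroup.mem_zpowers_iff.1 hk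
    rw [← conj_zpow]
    exact zpow_mem (d.NS_conj_z h) n

theorem NJ_NZ_mem_NS {x : G} (h1 : x ∈ Subgroup.normalizer (d.J : Set G))
    (h2 : x ∈ Subgroup.normalizer (Subgroup.zpowers d.z : Set G)) :
    x ∈ Subgroup.normalizer ((d.S : Subgroup G) : Set G) := by
  refine Subgroup.mem_normalizer_fintype fun s hs => ?_
  obtain ⟨j, hj, hjQ⟩ := d.exists_J_notMem_Q
  have hj' := d.J_le ((Subgroup.mem_normalizer_iff.1 h1 j).1 hj)
  rcases d.S_decomp (d.J_le hj) hjQ hs with h | h | h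
  · exact d.Q_le_S (d.Q_conj x h2 s h)
  · have := (d.S : Subgroup G).mul_mem (d.Q_le_S (d.Q_conj x h2 _ h)) hj'
    rwa [conj_mul, inv_mul_cancel_right] at this
  · have := (d.S : Subgroup G).mul_mem (d.Q_le_S (d.Q_conj x h2 _ h)) (Subgroup.inv_mem _ hj')
    rwa [conj_inv, conj_mul, mul_inv_cancel_right] at this

theorem normP0_iff {x : G} (hx : x ∈ d.M₀) : NormP0 (d.π₆ x) ↔ x * d.z * x⁻¹ ∈ d.Z := by
  refine ⟨fun h => d.NS_conj_z (d.mem_NS_of_π₆ hx h),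
    fun h => d.normP0_of_mem_NS hx (d.NJ_NZ_mem_NS (d.M₀_le hx) ?_)⟩
  refine Subgroup.mem_normalizer_fintype fun k hk => ?_
  obtain ⟨n, rfl⟩ := Subgroup.mem_zpowers_iff.1 hk
  rw [← conj_zpow]
  exact zpow_mem h n

/-- `N(J) = M₀ N(S)`. -/
theorem NJ_decomp {g : G} (hg : g ∈ Subgroup.normalizer (d.J : Set G)) :
    ∃ x ∈ d.M₀, x⁻¹ * g ∈ Subgroup.normalizer ((d.S : Subgroup G) : Set G) := by
  classical
  haveI := Fact.mk Nat.prime_three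
  let T : Sylow 3 G := g • d.S
  have hT : (T : Subgroup G) ≤ d.M₀ := by
    rintro _ ⟨s, hs, rfl⟩
    exact d.M₀_conj g hg s (d.S_le_M₀ hs)
  obtain ⟨x, hx⟩ := MulAction.exists_smul_eq d.M₀ (d.S.subtype d.S_le_M₀) (T.subtype hT)
  refine ⟨x, x.2, Subgroup.mem_normalizer_fintype fun s hs => ?_⟩
  have h1 : (⟨g * s * g⁻¹, d.M₀_conj g hg s (d.S_le_M₀ hs)⟩ : d.M₀) ∈ (T.subtype hT : Subgroup d.M₀) :=
    ⟨s, hs, rfl⟩
  rw [← hx] at h1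
  obtain ⟨y, hy, hxy⟩ := h1
  have e : (x : G) * y * (x : G)⁻¹ = g * s * g⁻¹ := congrArg Subtype.val hxy
  rw [SetLike.mem_coe, show (x : G)⁻¹ * g * s * ((x : G)⁻¹ * g)⁻¹ = (x : G)⁻¹ * (g * s * g⁻¹) * x by group, ← e,
    show (x : G)⁻¹ * ((x : G) * y * (x : G)⁻¹) * x = y by group]
  exact hy

/-- A nontrivial element of the conjugate of `⟨z⟩` by an element of `M₀`. -/
def Sg (v : G) : Prop := ∃ g ∈ d.M₀, v = g * d.z * g⁻¹ ∨ v = g * d.z⁻¹ * g⁻¹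

theorem sg_inv {v : G} (h : d.Sg v) : d.Sg v⁻¹ := by
  obtain ⟨g, hg, rfl | rfl⟩ := h
  · exact ⟨g, hg, Or.inr conj_inv⟩
  · exact ⟨g, hg, Or.inl (by rw [← conj_inv, inv_inv])⟩

theorem sg_z : d.Sg d.z := ⟨1, d.M₀.one_mem, Or.inl (by group)⟩

theorem sg_ne_one {v : G} (h : d.Sg v) : v ≠ 1 := by
  obtain ⟨g, -, rfl | rfl⟩ := h <;> rw [Ne, conj_eq_one_iff]
  exacts [d.z_ne, by rw [inv_eq_one]; exact d.z_ne]

theorem sg_mem_J {v : G} (h : d.Sg v) : v ∈ d.J := by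
  obtain ⟨g, hg, rfl | rfl⟩ := h
  · exact (Subgroup.mem_normalizer_iff.1 (d.M₀_le hg) _).1 d.z_mem_J
  · exact (Subgroup.mem_normalizer_iff.1 (d.M₀_le hg) _).1 (d.J.inv_mem d.z_mem_J)

/-- Conjugates of `z` in `J` are singular. -/
theorem sg_of_conj {g : G} (h : g * d.z * g⁻¹ ∈ d.J) : d.Sg (g * d.z * g⁻¹) := by
  obtain ⟨n, hn, hng⟩ := d.fusion d.z_mem_J h
  obtain ⟨x, hx, hxn⟩ := d.NJ_decomp hn
  have e : g * d.z * g⁻¹ = x * (x⁻¹ * n * d.z * (x⁻¹ * n)⁻¹) * x⁻¹ := by rw [← hng]; group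
  rcases three_cases d.z_cube (d.NS_conj_z hxn) with h' | h' | h'
  · exact absurd (conj_eq_one_iff.1 h') d.z_ne
  · exact ⟨x, hx, Or.inl (by rw [e, h'])⟩
  · exact ⟨x, hx, Or.inr (by rw [e, h'])⟩

theorem sg_conj {v g : G} (h : d.Sg v) (hv : g * v * g⁻¹ ∈ d.J) : d.Sg (g * v * g⁻¹) := by
  obtain ⟨x, -, rfl | rfl⟩ := h
  · have e : g * (x * d.z * x⁻¹) * g⁻¹ = g * x * d.z * (g * x)⁻¹ := by group
    rw [e] at hv ⊢
    exact d.sg_of_conj hv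
  · have e : g * (x * d.z⁻¹ * x⁻¹) * g⁻¹ = (g * x * d.z * (g * x)⁻¹)⁻¹ := by group
    rw [e] at hv ⊢
    exact d.sg_inv (d.sg_of_conj (inv_mem_iff.1 hv))

/-- The singular elements of `A` lie in `Z`. -/
theorem sg_A {v : G} (h : d.Sg v) (hA : v ∈ d.A) : v ∈ d.Z := by
  obtain ⟨g, hg, hv⟩ := h
  suffices hmain : NormP0 (d.π₆ g) by
    rcases hv with rfl | rfl
    · exact (d.normP0_iff hg).1 hmain
    · rw [← conj_inv]; exact d.Z.inv_mem ((d.normP0_iff hg).1 hmain)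
  by_contra hn
  choose f hf hfπ using fun p : P0 => d.exists_S (mem_P0.1 p.2)
  let ψ : P0 → d.Z := fun p => ⟨f p * v * (f p)⁻¹ * v⁻¹, d.S_A_comm (hf p) hA⟩
  have hinj : Function.Injective ψ := by
    intro p q e
    have e' : f p * v * (f p)⁻¹ = f q * v * (f q)⁻¹ := mul_right_cancel (congrArg Subtype.val e)
    set r := (f q)⁻¹ * f p with hr
    have hrM : r ∈ d.M₀ := d.M₀.mul_mem (d.M₀.inv_mem (d.S_le_M₀ (hf q))) (d.S_le_M₀ (hf p))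
    have hrv : r * v * r⁻¹ = v := by
      calc r * v * r⁻¹ = (f q)⁻¹ * (f p * v * (f p)⁻¹) * f q := by rw [hr]; group
        _ = v := by rw [e']; group
    have hrg : g⁻¹ * r * g * d.z * (g⁻¹ * r * g)⁻¹ ∈ d.Z := by
      have hrz : g⁻¹ * r * g * d.z * (g⁻¹ * r * g)⁻¹ = d.z := by
        rcases hv with hv | hv <;> rw [hv] at hrv
        · calc _ = g⁻¹ * (r * (g * d.z * g⁻¹) * r⁻¹) * g := by group
            _ = d.z := by rw [hrv]; group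
        · refine inv_injective ?_
          calc _ = g⁻¹ * (r * (g * d.z⁻¹ * g⁻¹) * r⁻¹) * g := by group
            _ = d.z⁻¹ := by rw [hrv]; group
      rw [hrz]; exact d.z_mem_Z
    have hN := (d.normP0_iff (d.M₀.mul_mem (d.M₀.mul_mem (d.M₀.inv_mem hg) hrM) hg)).2 hrg
    rw [d.map₆ _ (d.M₀.mul_mem (d.M₀.inv_mem hg) hrM) _ hg, d.map₆ _ (d.M₀.inv_mem hg) _ hrM,
      d.π₆_inv hg] at hN
    have hπr : d.π₆ r = (q : A6)⁻¹ * p := by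
      rw [hr, d.map₆ _ (d.M₀.inv_mem (d.S_le_M₀ (hf q))) _ (d.S_le_M₀ (hf p)), d.π₆_inv (d.S_le_M₀ (hf q)),
        hfπ, hfπ]
    have hmem : d.π₆ r ∈ sylList := hπr ▸ P0.mul_mem (P0.inv_mem q.2) p.2
    have h3 : ((d.π₆ g)⁻¹ * d.π₆ r * d.π₆ g) ^ 3 = 1 := by
      have hc := (conj_pow (i := 3) (a := (d.π₆ g)⁻¹) (b := d.π₆ r))
      rw [inv_inv] at hc
      rw [hc, (by decide +kernel : ∀ x ∈ sylList, x ^ 3 = 1) _ hmem, mul_one, inv_mul_cancel]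
    have h1 := sylow_disjoint _ hn _ (order_three_normP0 _ hN h3) (by
      rwa [show d.π₆ g * ((d.π₆ g)⁻¹ * d.π₆ r * d.π₆ g) * (d.π₆ g)⁻¹ = d.π₆ r by group])
    have h2 : d.π₆ r = 1 := by
      calc d.π₆ r = d.π₆ g * ((d.π₆ g)⁻¹ * d.π₆ r * d.π₆ g) * (d.π₆ g)⁻¹ := by group
        _ = 1 := by rw [h1, mul_one, mul_inv_cancel]
    rw [hπr, inv_mul_eq_one] at h2
    exact Subtype.ext h2.symm
  have := Nat.card_le_card_of_injective ψ hinj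
  rw [card_P0, d.card_Z] at this
  omega

/-- An involution of `M₀` over `b0`. -/
theorem exists_m : ∃ m ∈ d.M₀, m * m = 1 ∧ d.π₆ m = b0 := by
  obtain ⟨x, hx, hxπ⟩ := d.surj₆ b0
  have h2 : x ^ 2 ∈ d.J := (d.ker₆ _ (d.M₀.pow_mem hx 2)).1 (by rw [d.π₆_pow hx, hxπ, pow_two, g0_normP0.2.2.2.1])
  refine ⟨x ^ 3, d.M₀.pow_mem hx 3, ?_, ?_⟩
  · rw [← pow_two, ← pow_mul, show 3 * 2 = 2 * 3 from rfl, pow_mul, d.J_exp _ h2]
  · rw [d.π₆_pow hx, hxπ, pow_succ, pow_two, g0_normP0.2.2.2.1, one_mul]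

theorem sg_cases {m : G} (hm : m ∈ d.M₀) (hmπ : d.π₆ m = b0) {v : G} (h : d.Sg v) :
    v ∈ d.Z ∨ ∃ s ∈ (d.S : Subgroup G), v = s * (m * d.z * m⁻¹) * s⁻¹ ∨ v = s * (m * d.z * m⁻¹)⁻¹ * s⁻¹ := by
  obtain ⟨g, hg, hv⟩ := h
  rcases Classical.em (NormP0 (d.π₆ g)) with hn | hn
  · left
    rcases hv with rfl | rfl
    · exact (d.normP0_iff hg).1 hn
    · rw [← conj_inv]; exact d.Z.inv_mem ((d.normP0_iff hg).1 hn)
  · right
    obtain ⟨p, hp, hpx⟩ := sylow_transitive _ hn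
    obtain ⟨s, hs, rfl⟩ := d.exists_S hp
    have hsg := d.M₀.mul_mem (d.S_le_M₀ hs) hg
    set n := (s * g)⁻¹ * m with hndef
    have hn' : n * d.z * n⁻¹ ∈ d.Z := by
      refine (d.normP0_iff (d.M₀.mul_mem (d.M₀.inv_mem hsg) hm)).1 ?_
      rwa [d.map₆ _ (d.M₀.inv_mem hsg) _ hm, d.π₆_inv hsg, d.map₆ _ (d.S_le_M₀ hs) _ hg, hmπ]
    refine ⟨s⁻¹, Subgroup.inv_mem _ hs, ?_⟩
    rcases three_cases d.z_cube hn' with e | e | e
    · exact absurd (conj_eq_one_iff.1 e) d.z_ne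
    · have e' : g * d.z * g⁻¹ = s⁻¹ * (m * d.z * m⁻¹) * s⁻¹⁻¹ := by
        calc g * d.z * g⁻¹ = g * (n * d.z * n⁻¹) * g⁻¹ := by rw [e]
          _ = _ := by rw [hndef]; group
      rcases hv with rfl | rfl
      · exact Or.inl e'
      · refine Or.inr ?_
        rw [← conj_inv, e', conj_inv]
    · have e' : g * d.z⁻¹ * g⁻¹ = s⁻¹ * (m * d.z * m⁻¹) * s⁻¹⁻¹ := by
        calc g * d.z⁻¹ * g⁻¹ = g * (n * d.z * n⁻¹) * g⁻¹ := by rw [e]
          _ = _ := by rw [hndef]; group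
      rcases hv with rfl | rfl
      · refine Or.inr ?_
        calc g * d.z * g⁻¹ = (g * d.z⁻¹ * g⁻¹)⁻¹ := by group
          _ = _ := by rw [e', conj_inv]
      · exact Or.inl e'

/-- An involution of `L₀` outside `Q` fixing the conjugate of `z` under `m`. -/
theorem exists_t {m : G} (hm : m ∈ d.M₀) (hmπ : d.π₆ m = b0) :
    ∃ t ∈ d.L₀, t * t = 1 ∧ d.π₅ t = -1 ∧ t ∈ Subgroup.normalizer (d.J : Set G) ∧
      t * (m * d.z * m⁻¹) * t⁻¹ = m * d.z * m⁻¹ := by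
  obtain ⟨y, hy, hyπ⟩ := d.surj₅ (-1)
  obtain ⟨ht2, htπ⟩ := d.exists_involution hy hyπ
  have htL := d.L₀.pow_mem hy 3
  generalize y ^ 3 = t at ht2 htπ htL
  have hQL : ∀ q ∈ d.Q, q ∈ d.L₀ := d.Q_le_L₀
  have hconj : ∀ x ∈ d.L₀, x⁻¹ * (t * x * t⁻¹) ∈ d.Q := by
    intro x hx
    have h' := d.L₀.mul_mem (d.L₀.mul_mem htL hx) (d.L₀.inv_mem htL)
    refine (d.ker₅ _ (d.L₀.mul_mem (d.L₀.inv_mem hx) h')).1 ?_
    rw [d.map₅ _ (d.L₀.inv_mem hx) _ h', d.π₅_inv hx, d.π₅_conj htL hx, htπ, ← SL5_central, mul_inv_cancel_right,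
      inv_mul_cancel]
  have htS : ∀ s ∈ (d.S : Subgroup G), t * s * t⁻¹ ∈ (d.S : Subgroup G) := fun s hs => by
    have := (d.S : Subgroup G).mul_mem hs (d.Q_le_S (hconj s (d.S_le_L₀ hs)))
    rwa [mul_inv_cancel_left] at this
  have htJ : t ∈ Subgroup.normalizer (d.J : Set G) := d.weak_closure fun j hj => htS j (d.J_le hj)
  have htA : ∀ j ∈ d.J, j⁻¹ * (t * j * t⁻¹) ∈ d.A := fun j hj =>
    ⟨d.J.mul_mem (d.J.inv_mem hj) ((Subgroup.mem_normalizer_iff.1 htJ j).1 hj), hconj j (d.S_le_L₀ (d.J_le hj))⟩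
  have hJn : ∀ x ∈ d.M₀, ∀ j ∈ d.J, x * j * x⁻¹ ∈ d.J := fun x hx j hj =>
    (Subgroup.mem_normalizer_iff.1 (d.M₀_le hx) j).1 hj
  have hinv : ∀ s ∈ (d.S : Subgroup G), t * s * t⁻¹ * s ∈ d.J := by
    intro s hs
    obtain ⟨j, hj, hjQ⟩ := d.exists_J_notMem_Q
    have key : ∀ q ∈ d.Q, ∀ i ∈ d.J, t * (q * i) * t⁻¹ * (q * i) ∈ d.J := by
      intro q hq i hi
      have hqM := d.S_le_M₀ (d.Q_le_S hq)
      have h1 : q⁻¹ * (t * i * t⁻¹) * q ∈ d.J := by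
        simpa using hJn q⁻¹ (d.M₀.inv_mem hqM) _ ((Subgroup.mem_normalizer_iff.1 htJ i).1 hi)
      have h2 := d.J.mul_mem (d.J.mul_mem (d.A_le_J (d.Z_le_A (d.involution_inv_Q htL ht2 htπ hq))) h1) hi
      rwa [show t * q * t⁻¹ * q * (q⁻¹ * (t * i * t⁻¹) * q) * i = t * (q * i) * t⁻¹ * (q * i) by group] at h2
    rcases d.S_decomp (d.J_le hj) hjQ hs with h | h | h
    · simpa using key s h 1 d.J.one_mem
    · have := key _ h j hj
      rwa [inv_mul_cancel_right] at this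
    · have := key _ h _ (d.J.inv_mem hj)
      rwa [mul_inv_cancel_right] at this
  set w := m * d.z * m⁻¹ with hw
  have hwJ : w ∈ d.J := hJn m hm _ d.z_mem_J
  have hwZ : w ∉ d.Z := fun h => g0_normP0.2.2.1 (hmπ ▸ (d.normP0_iff hm).2 h)
  have hwA : w ∉ d.A := fun h => hwZ (d.sg_A ⟨m, hm, Or.inl rfl⟩ h)
  have htz : t * d.z = d.z * t := d.L₀_cent t htL
  have hsg : d.Sg (t * w * t⁻¹) := d.sg_conj ⟨m, hm, Or.inl rfl⟩ ((Subgroup.mem_normalizer_iff.1 htJ w).1 hwJ)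
  rcases d.sg_cases hm hmπ hsg with hZ | ⟨s, hs, hse⟩
  · refine absurd ?_ hwZ
    have : t⁻¹ * (t * w * t⁻¹) * t ∈ d.Z := by
      have := conj_eq_of_commute (d.L₀_Z (d.L₀.inv_mem htL) hZ)
      rw [inv_inv] at this
      rw [this]; exact hZ
    simpa [mul_assoc] using this
  set r := s * s with hr
  have hrS : r ∈ (d.S : Subgroup G) := Subgroup.mul_mem _ hs hs
  have hrL := d.S_le_L₀ hrS
  have hJc : ∀ i ∈ d.J, ∀ v ∈ d.J, i * v * i⁻¹ = v := fun i hi v hv => conj_eq_of_commute (d.J_comm i hi v hv)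
  have hswap : ∃ i ∈ d.J, t * r * t⁻¹ * s = r * i := by
    have h1 := hinv r hrS
    have h3 : (r⁻¹ * s) ∈ d.M₀ := d.M₀.mul_mem (d.M₀.inv_mem (d.S_le_M₀ hrS)) (d.S_le_M₀ hs)
    have h4 : r⁻¹ * (r⁻¹ * s) ∈ d.J := by
      refine (d.ker₆ _ (d.M₀.mul_mem (d.M₀.inv_mem (d.S_le_M₀ hrS)) h3)).1 ?_
      rw [d.map₆ _ (d.M₀.inv_mem (d.S_le_M₀ hrS)) _ h3, d.map₆ _ (d.M₀.inv_mem (d.S_le_M₀ hrS)) _ (d.S_le_M₀ hs),
        d.π₆_inv (d.S_le_M₀ hrS), hr, d.map₆ _ (d.S_le_M₀ hs) _ (d.S_le_M₀ hs)]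
      have : ∀ x ∈ sylList, (x * x)⁻¹ * ((x * x)⁻¹ * x) = 1 := by decide +kernel
      exact this _ (d.π₆_S hs)
    refine ⟨r⁻¹ * (t * r * t⁻¹ * r) * r * (r⁻¹ * (r⁻¹ * s)), d.J.mul_mem ?_ h4, by group⟩
    simpa using hJn r⁻¹ (d.M₀.inv_mem (d.S_le_M₀ hrS)) _ h1
  obtain ⟨i, hi, hswap⟩ := hswap
  refine ⟨r⁻¹ * t * r, d.L₀.mul_mem (d.L₀.mul_mem (d.L₀.inv_mem hrL) htL) hrL, ?_, ?_, ?_, ?_⟩
  · calc r⁻¹ * t * r * (r⁻¹ * t * r) = r⁻¹ * (t * t) * r := by group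
      _ = 1 := by rw [ht2, mul_one, inv_mul_cancel]
  · rw [d.map₅ _ (d.L₀.mul_mem (d.L₀.inv_mem hrL) htL) _ hrL, d.map₅ _ (d.L₀.inv_mem hrL) _ htL, d.π₅_inv hrL,
      htπ, SL5_central, mul_assoc, inv_mul_cancel, mul_one]
  · exact Subgroup.mul_mem _ (Subgroup.mul_mem _ (Subgroup.inv_mem _ (d.S_le_NJ hrS)) htJ) (d.S_le_NJ hrS)
  have hv : ∀ u, t * w * t⁻¹ = s * u * s⁻¹ → u ∈ d.J → r⁻¹ * t * r * w * (r⁻¹ * t * r)⁻¹ = u := by
    intro u hu huJ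
    calc r⁻¹ * t * r * w * (r⁻¹ * t * r)⁻¹
        = r⁻¹ * (t * r * t⁻¹) * (t * w * t⁻¹) * (t * r * t⁻¹)⁻¹ * r := by group
      _ = r⁻¹ * (t * r * t⁻¹ * s) * u * (t * r * t⁻¹ * s)⁻¹ * r := by rw [hu]; group
      _ = i * u * i⁻¹ := by rw [hswap]; group
      _ = u := hJc i hi u huJ
  rcases hse with e | e
  · exact hv w e hwJ
  · exfalso
    have e' := hv w⁻¹ e (d.J.inv_mem hwJ)
    have htr : r⁻¹ * t * r ∈ d.L₀ := d.L₀.mul_mem (d.L₀.mul_mem (d.L₀.inv_mem hrL) htL) hrL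
    have hq : w⁻¹ * (r⁻¹ * t * r * w * (r⁻¹ * t * r)⁻¹) ∈ d.Q := by
      have hwL := d.S_le_L₀ (d.J_le hwJ)
      have hπ' : d.π₅ (r⁻¹ * t * r) = -1 := by
        rw [d.map₅ _ (d.L₀.mul_mem (d.L₀.inv_mem hrL) htL) _ hrL, d.map₅ _ (d.L₀.inv_mem hrL) _ htL,
          d.π₅_inv hrL, htπ, SL5_central, mul_assoc, inv_mul_cancel, mul_one]
      have h' := d.L₀.mul_mem (d.L₀.mul_mem htr hwL) (d.L₀.inv_mem htr)
      refine (d.ker₅ _ (d.L₀.mul_mem (d.L₀.inv_mem hwL) h')).1 ?_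
      rw [d.map₅ _ (d.L₀.inv_mem hwL) _ h', d.π₅_inv hwL, d.π₅_conj htr hwL, hπ', ← SL5_central,
        mul_inv_cancel_right, inv_mul_cancel]
    rw [e'] at hq
    refine hwA ⟨hwJ, ?_⟩
    have h3 : w⁻¹ * w⁻¹ = w := by rw [← mul_inv_rev, ← inv_eq_sq (d.J_exp w hwJ), inv_inv]
    rwa [h3] at hq

end Based

end Cfsg.Agent.McLThree
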