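/-
Centralizers of the non-singular elements of `J` normalize `J`.
-/
import Cfsg.Agent.Lib.McLThree.Points

set_option autoImplicit false
set_option maxRecDepth 100000
set_option linter.style.longLine false
set_option linter.style.haveILetI false

namespace Cfsg.Agent.McLThree

namespace Based

variable {G : Type*} [Group G] [Finite G] (d : Based G)

theorem act_eq {x y : G} (hx : x ∈ d.M₀) (hy : y ∈ d.M₀) (h : d.π₆ x = d.π₆ y) {j : G} (hj : j ∈ d.J) :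
    x * j * x⁻¹ = y * j * y⁻¹ := by
  have hi := (d.π₆_eq_iff hx hy).1 h
  calc x * j * x⁻¹ = x * (x⁻¹ * y * j * (x⁻¹ * y)⁻¹) * x⁻¹ := by
        rw [conj_eq_of_commute (d.J_comm _ hi j hj)]
    _ = y * j * y⁻¹ := by group

theorem conj_J {x j : G} (hx : x ∈ d.M₀) (hj : j ∈ d.J) : x * j * x⁻¹ ∈ d.J :=
  (Subgroup.mem_normalizer_iff.1 (d.M₀_le hx) j).1 hj

theorem eq_one_of_sq {v : G} (hv : v ∈ d.J) (h : v * v = 1) : v = 1 := by
  have := d.J_exp v hv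
  rwa [pow_succ, pow_two, h, one_mul] at this

/-- Elements of order three outside `J` do not act quadratically on `J`. -/
theorem not_quadratic {r : G} (hr : r ∈ (d.S : Subgroup G)) (hrJ : r ∉ d.J) :
    ∃ j ∈ d.J, r * (r * j * r⁻¹ * j⁻¹) * r⁻¹ ≠ r * j * r⁻¹ * j⁻¹ := by
  by_contra hall
  push Not at hall
  have hrM := d.S_le_M₀ hr
  have hsum : ∀ j ∈ d.J, r * r * j * (r * r)⁻¹ * (r * j * r⁻¹) * j = 1 := by
    intro j hj
    set u := r * j * r⁻¹ with hu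
    have huJ : u ∈ d.J := d.conj_J hrM hj
    have h' : r * r * j * (r * r)⁻¹ * u⁻¹ = u * j⁻¹ := by
      rw [← hall j hj, ← hu]; rw [hu]; group
    have h'' : r * r * j * (r * r)⁻¹ = u * j⁻¹ * u := by rw [← h', inv_mul_cancel_right]
    rw [h'']
    have h3 := d.J_exp u huJ
    calc u * j⁻¹ * u * u * j = u * (j⁻¹ * (u * u)) * j := by group
      _ = u * ((u * u) * j⁻¹) * j := by
          rw [d.J_comm _ (d.J.inv_mem hj) _ (d.J.mul_mem huJ huJ)]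
      _ = u ^ 3 := by simp only [pow_succ, pow_zero, one_mul, mul_assoc, inv_mul_cancel, mul_one]
      _ = 1 := h3
  have hq3 : d.π₆ r ^ 3 = 1 := (by decide +kernel : ∀ x ∈ sylList, x ^ 3 = 1) _ (d.π₆_S hr)
  obtain ⟨a', ha2', ha1', habc', hab'⟩ := order_three_four _ hq3 fun e => hrJ ((d.ker₆ r hrM).1 e)
  obtain ⟨a, ha, rfl⟩ := d.surj₆ a'
  set b := r * a * r⁻¹ with hbdef
  set c := r * r * a * (r * r)⁻¹ with hcdef
  have hb : b ∈ d.M₀ := d.M₀.mul_mem (d.M₀.mul_mem hrM ha) (d.M₀.inv_mem hrM)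
  have hrr := d.M₀.mul_mem hrM hrM
  have hc : c ∈ d.M₀ := d.M₀.mul_mem (d.M₀.mul_mem hrr ha) (d.M₀.inv_mem hrr)
  have hπb : d.π₆ b = d.π₆ r * d.π₆ a * (d.π₆ r)⁻¹ := d.π₆_conj hrM ha
  have hπc : d.π₆ c = d.π₆ r * d.π₆ r * d.π₆ a * (d.π₆ r * d.π₆ r)⁻¹ := by
    rw [hcdef, d.π₆_conj hrr ha, d.map₆ r hrM r hrM]
  have hsq : ∀ x ∈ d.M₀, d.π₆ x * d.π₆ x = 1 → ∀ j ∈ d.J, x * (x * j * x⁻¹) * x⁻¹ = j := by
    intro x hx h j hj
    calc x * (x * j * x⁻¹) * x⁻¹ = x * x * j * (x * x)⁻¹ := by group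
      _ = j := by
        rw [d.act_eq (d.M₀.mul_mem hx hx) d.M₀.one_mem (by rw [d.map₆ x hx x hx, h, d.π₆_one]) hj,
          one_mul, inv_one, mul_one]
  have ha2 := hsq a ha ha2'
  have hab : ∀ j ∈ d.J, a * (b * j * b⁻¹) * a⁻¹ = b * (a * j * a⁻¹) * b⁻¹ := by
    intro j hj
    calc a * (b * j * b⁻¹) * a⁻¹ = a * b * j * (a * b)⁻¹ := by group
      _ = b * a * j * (b * a)⁻¹ := d.act_eq (d.M₀.mul_mem ha hb) (d.M₀.mul_mem hb ha)
          (by rw [d.map₆ a ha b hb, d.map₆ b hb a ha, hπb, hab']) hj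
      _ = _ := by group
  have habc : ∀ j ∈ d.J, a * (b * (c * j * c⁻¹) * b⁻¹) * a⁻¹ = j := by
    intro j hj
    calc a * (b * (c * j * c⁻¹) * b⁻¹) * a⁻¹ = a * b * c * j * (a * b * c)⁻¹ := by group
      _ = j := by
        rw [d.act_eq (d.M₀.mul_mem (d.M₀.mul_mem ha hb) hc) d.M₀.one_mem
          (by rw [d.map₆ _ (d.M₀.mul_mem ha hb) c hc, d.map₆ a ha b hb, hπb, hπc, habc', d.π₆_one]) hj,
          one_mul, inv_one, mul_one]
  obtain ⟨j₀, hj₀, hmove⟩ : ∃ j ∈ d.J, a * j * a⁻¹ * j⁻¹ ≠ 1 := by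
    by_contra hall'
    push Not at hall'
    refine ha1' ((d.ker₆ a ha).2 (d.mem_J_of_commute_J fun j hj => ?_))
    exact commute_of_conj_eq (mul_inv_eq_one.1 (hall' j hj))
  set v₀ := a * j₀ * a⁻¹ * j₀⁻¹ with hv₀
  have hv₀J : v₀ ∈ d.J := d.J.mul_mem (d.conj_J ha hj₀) (d.J.inv_mem hj₀)
  have hav₀ : a * v₀ * a⁻¹ = v₀⁻¹ := by
    calc a * v₀ * a⁻¹ = a * (a * j₀ * a⁻¹) * a⁻¹ * (a * j₀ * a⁻¹)⁻¹ := by rw [hv₀]; group
      _ = j₀ * (a * j₀ * a⁻¹)⁻¹ := by rw [ha2 j₀ hj₀]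
      _ = v₀⁻¹ := by rw [hv₀]; group
  obtain ⟨v, hvJ, hv1, hav, hbv⟩ : ∃ v ∈ d.J, v ≠ 1 ∧ a * v * a⁻¹ = v⁻¹ ∧
      (b * v * b⁻¹ = v ∨ b * v * b⁻¹ = v⁻¹) := by
    rcases Classical.em (b * v₀ * b⁻¹ = v₀⁻¹) with h | h
    · exact ⟨v₀, hv₀J, hmove, hav₀, Or.inr h⟩
    refine ⟨v₀ * (b * v₀ * b⁻¹), d.J.mul_mem hv₀J (d.conj_J hb hv₀J), fun e => h ?_, ?_, Or.inl ?_⟩
    · exact eq_inv_of_mul_eq_one_right e
    · rw [← conj_mul, hav₀, hab v₀ hv₀J, hav₀, ← conj_inv, mul_inv_rev v₀,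
        d.J_comm _ (d.J.inv_mem hv₀J) _ (d.J.inv_mem (d.conj_J hb hv₀J))]
    · rw [← conj_mul, hsq b hb (by rw [hπb, conj_mul, ha2', mul_one, mul_inv_cancel]) v₀ hv₀J,
        d.J_comm _ (d.conj_J hb hv₀J) _ hv₀J]
  have hcv : c * v * c⁻¹ = b * (a * v * a⁻¹) * b⁻¹ := by
    have h' := habc v hvJ
    have hu := d.conj_J hb (d.conj_J hc hvJ)
    have h2 : b * (c * v * c⁻¹) * b⁻¹ = a * v * a⁻¹ := by rw [← ha2 _ hu, h']
    rw [← hsq b hb (by rw [hπb, conj_mul, ha2', mul_one, mul_inv_cancel]) _ (d.conj_J hc hvJ), h2]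
  set v₁ := r * v * r⁻¹ with hv₁
  set v₂ := r * r * v * (r * r)⁻¹ with hv₂
  have hv₁J : v₁ ∈ d.J := d.conj_J hrM hvJ
  have hv₂J : v₂ ∈ d.J := d.conj_J hrr hvJ
  have hav₁ : a * v₁ * a⁻¹ = r * (c * v * c⁻¹) * r⁻¹ := by
    calc a * v₁ * a⁻¹ = a * r * v * (a * r)⁻¹ := by rw [hv₁]; group
      _ = r * c * v * (r * c)⁻¹ := d.act_eq (d.M₀.mul_mem ha hrM) (d.M₀.mul_mem hrM hc) (by
          rw [d.map₆ a ha r hrM, d.map₆ r hrM c hc, hπc]
          calc d.π₆ a * d.π₆ r = (d.π₆ r ^ 3) * (d.π₆ a * ((d.π₆ r ^ 3)⁻¹) * d.π₆ r) := by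
                rw [hq3]; group
            _ = _ := by simp only [pow_succ, pow_zero, one_mul]; group) hvJ
      _ = _ := by group
  have hav₂ : a * v₂ * a⁻¹ = r * r * (b * v * b⁻¹) * (r * r)⁻¹ := by
    calc a * v₂ * a⁻¹ = a * (r * r) * v * (a * (r * r))⁻¹ := by rw [hv₂]; group
      _ = r * r * b * v * (r * r * b)⁻¹ := d.act_eq (d.M₀.mul_mem ha hrr) (d.M₀.mul_mem hrr hb) (by
          rw [d.map₆ a ha _ hrr, d.map₆ _ hrr b hb, d.map₆ r hrM r hrM, hπb]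
          calc d.π₆ a * (d.π₆ r * d.π₆ r) = (d.π₆ r ^ 3) * (d.π₆ a * (d.π₆ r ^ 3)⁻¹ * (d.π₆ r * d.π₆ r)) := by
                rw [hq3]; group
            _ = _ := by simp only [pow_succ, pow_zero, one_mul]; group) hvJ
      _ = _ := by group
  have hs := hsum v hvJ
  rw [← hv₁, ← hv₂] at hs
  have hs' : a * (v₂ * v₁ * v) * a⁻¹ = 1 := by rw [hs, mul_one, mul_inv_cancel]
  rw [← conj_mul, ← conj_mul, hav, hav₁, hav₂] at hs'
  have hrr1 : r * r * v⁻¹ * (r * r)⁻¹ = v₂⁻¹ := by rw [hv₂, conj_inv]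
  have hr1 : r * v⁻¹ * r⁻¹ = v₁⁻¹ := by rw [hv₁, conj_inv]
  rcases hbv with hb' | hb'
  · rw [hav] at hcv
    have : c * v * c⁻¹ = v⁻¹ := by rw [hcv, ← conj_inv, hb']
    rw [this, hb', hr1, ← hv₂, mul_assoc, ← mul_inv_rev, mul_inv_eq_one] at hs'
    rw [mul_assoc, d.J_comm v₁ hv₁J v hvJ, ← hs'] at hs
    have h2 : v₂ = 1 := d.eq_one_of_sq hv₂J hs
    refine hv1 ?_
    calc v = (r * r)⁻¹ * v₂ * (r * r) := by rw [hv₂]; group
      _ = 1 := by rw [h2]; group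
  · rw [hav] at hcv
    have : c * v * c⁻¹ = v := by rw [hcv, ← conj_inv, hb', inv_inv]
    rw [this, hb', hrr1, ← hv₁, mul_inv_eq_one, inv_mul_eq_iff_eq_mul] at hs'
    rw [d.J_comm v₂ hv₂J v₁ hv₁J, mul_assoc, ← hs'] at hs
    refine hv1 ?_
    have h2 : v₁ = 1 := d.eq_one_of_sq hv₁J hs
    calc v = r⁻¹ * v₁ * r := by rw [hv₁]; group
      _ = 1 := by rw [h2]; group

/-- An element commuting with some `x` in `J` outside `Z` and normalizing `⟨z⟩` normalizes `J`. -/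
theorem norm_of_commute {x g : G} (hxJ : x ∈ d.J) (hxZ : x ∉ d.Z)
    (hg : g ∈ Subgroup.normalizer (Subgroup.zpowers d.z : Set G)) (hgx : g * x = x * g) :
    g ∈ Subgroup.normalizer (d.J : Set G) := by
  have hLS : ∀ u ∈ d.L₀, u ^ 3 = 1 → u * x = x * u → u ∈ (d.S : Subgroup G) := by
    intro u hu hu3 hux
    by_cases hxA : x ∈ d.A
    · obtain ⟨j, hj, hjQ⟩ := d.exists_J_notMem_Q
      have hst : ∀ p ∈ d.L₀, p * x = x * p → p ∈ d.stab x := fun p hp hpx => ⟨hp, by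
        rw [conj_eq_of_commute hpx, mul_inv_cancel]; exact d.Z.one_mem⟩
      have hjL := d.S_le_L₀ (d.J_le hj)
      rcases d.stab_cyclic hxA.2 hxZ (hst j hjL (d.J_comm j hj x hxJ)) (hst u hu hux)
        (fun e => hjQ ((d.ker₅ j hjL).1 e)) with e | e | e
      · exact d.Q_le_S ((d.ker₅ u hu).1 e)
      · have := (d.S : Subgroup G).mul_mem (d.J_le hj) (d.Q_le_S ((d.π₅_eq_iff hjL hu).1 e.symm))
        rwa [mul_inv_cancel_left] at this
      · rw [← d.π₅_inv hjL] at e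
        have := (d.S : Subgroup G).mul_mem (Subgroup.inv_mem _ (d.J_le hj))
          (d.Q_le_S ((d.π₅_eq_iff (d.L₀.inv_mem hjL) hu).1 e.symm))
        rwa [mul_inv_cancel_left] at this
    · have hxL := d.S_le_L₀ (d.J_le hxJ)
      have hx3 : d.π₅ x ^ 3 = 1 := d.π₅_S_cube (d.J_le hxJ)
      have hu5 : d.π₅ u ^ 3 = 1 := by rw [← d.π₅_pow hu, hu3, d.π₅_one]
      have hc : Commute (d.π₅ x) (d.π₅ u) := by
        show d.π₅ x * d.π₅ u = d.π₅ u * d.π₅ x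
        rw [← d.map₅ x hxL u hu, ← d.map₅ u hu x hxL, hux]
      rcases SL5_three _ hx3 (fun e => hxA ⟨hxJ, (d.ker₅ x hxL).1 e⟩) _ hu5
        (by rw [hc.mul_pow, hx3, hu5, one_mul]) (by rw [hc.inv_right.mul_pow, hx3, inv_pow, hu5, inv_one, one_mul])
        with e | e | e
      · exact d.Q_le_S ((d.ker₅ u hu).1 e)
      · have := (d.S : Subgroup G).mul_mem (d.J_le hxJ) (d.Q_le_S ((d.π₅_eq_iff hxL hu).1 e.symm))
        rwa [mul_inv_cancel_left] at this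
      · rw [← d.π₅_inv hxL] at e
        have := (d.S : Subgroup G).mul_mem (Subgroup.inv_mem _ (d.J_le hxJ))
          (d.Q_le_S ((d.π₅_eq_iff (d.L₀.inv_mem hxL) hu).1 e.symm))
        rwa [mul_inv_cancel_left] at this
  refine d.weak_closure fun j hj => hLS _ (d.L₀_conj g hg j (d.S_le_L₀ (d.J_le hj)))
    (by rw [conj_pow, d.J_exp j hj, mul_one, mul_inv_cancel]) ?_
  calc g * j * g⁻¹ * x = g * (j * (g⁻¹ * x * g)) * g⁻¹ := by group
    _ = g * (g⁻¹ * x * g * j) * g⁻¹ := by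
        rw [show g⁻¹ * x * g = x by rw [mul_assoc, ← hgx, inv_mul_cancel_left], d.J_comm j hj x hxJ]
    _ = x * (g * j * g⁻¹) := by group

theorem cent_le_of_R {x : G} (hxJ : x ∈ d.J) (hx1 : x ≠ 1) (hns : ¬ d.Sg x) {R : Subgroup G}
    (hR : R ≤ (d.S : Subgroup G)) (hRx : ∀ r ∈ R, r * x = x * r)
    (hRn : ∀ g, g * x = x * g → ∀ r ∈ R, g * r * g⁻¹ ∈ R)
    (hRc : ∀ g, (∀ r ∈ R, g * r = r * g) → g ∈ R) {g : G} (hg : g * x = x * g) :
    g ∈ Subgroup.normalizer (d.J : Set G) := by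
  classical
  by_cases hJR : d.J ≤ R
  · exact d.weak_closure fun j hj => hR (hRn g hg j (hJR hj))
  have hxR : x ∈ R := hRc x fun r hr => (hRx r hr).symm
  have hxZ : x ∉ d.Z := by
    intro h
    rcases three_cases d.z_cube h with e | e | e
    · exact hx1 e
    · exact hns (e ▸ d.sg_z)
    · exact hns (e ▸ d.sg_inv d.sg_z)
  obtain ⟨r, hrR, hrJ⟩ : ∃ r ∈ R, r ∉ d.J := by
    by_contra hall
    push Not at hall
    exact hJR fun j hj => hRc j fun r hr => d.J_comm j hj r (hall r hr)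
  have hrS := hR hrR
  have hcomR : ∀ j ∈ d.J, r * j * r⁻¹ * j⁻¹ ∈ R := fun j hj => by
    have := R.mul_mem hrR (hRn j (d.J_comm j hj x hxJ) r⁻¹ (R.inv_mem hrR))
    rwa [show r * (j * r⁻¹ * j⁻¹) = r * j * r⁻¹ * j⁻¹ by group] at this
  obtain ⟨j₀, hj₀, hk⟩ := d.not_quadratic hrS hrJ
  set a₀ := r * j₀ * r⁻¹ * j₀⁻¹ with ha₀
  have ha₀A : a₀ ∈ d.A := d.J_comm_A hrS hj₀
  set k₀ := r * a₀ * r⁻¹ * a₀⁻¹ with hk₀
  have hk₀Z : k₀ ∈ d.Z := d.S_A_comm hrS ha₀A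
  have hk₀1 : k₀ ≠ 1 := fun e => hk (mul_inv_eq_one.1 e)
  have hk₀R : k₀ ∈ R := R.mul_mem (R.mul_mem (R.mul_mem hrR (hcomR j₀ hj₀)) (R.inv_mem hrR)) (R.inv_mem (hcomR j₀ hj₀))
  have hzR : d.z ∈ R := by
    rcases three_cases d.z_cube hk₀Z with e | e | e
    · exact absurd e hk₀1
    · exact e ▸ hk₀R
    · exact inv_mem_iff.1 (e ▸ hk₀R)
  have hZk : ∀ u ∈ d.Z, u = 1 ∨ u = k₀ ∨ u = k₀⁻¹ := fun u hu => by
    rcases three_cases d.z_cube hk₀Z with e | e | e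
    · exact absurd e hk₀1
    · rw [e]; exact three_cases d.z_cube hu
    · rw [e, inv_inv]
      exact (three_cases d.z_cube hu).imp id fun h => h.symm
  set T : Subgroup G := (d.S : Subgroup G) ⊓ Subgroup.centralizer ({x} : Set G) with hTdef
  have hmemT : ∀ u, u ∈ T ↔ u ∈ (d.S : Subgroup G) ∧ u * x = x * u := fun u => by
    rw [hTdef, Subgroup.mem_inf, mem_centralizer_one]
  have hJT : d.J ≤ T := fun j hj => (hmemT j).2 ⟨d.J_le hj, d.J_comm j hj x hxJ⟩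
  have hrT : r ∈ T := (hmemT r).2 ⟨hrS, hRx r hrR⟩
  have hTne : T ≠ (d.S : Subgroup G) := fun e => hxZ ((d.center_S x).1
    ⟨d.J_le hxJ, fun s hs => ((hmemT s).1 (e.symm ▸ hs)).2.symm⟩)
  set U := d.J ⊔ Subgroup.zpowers r with hUdef
  have hrzJ : Subgroup.zpowers r ≤ Subgroup.normalizer (d.J : Set G) := Subgroup.zpowers_le.2 (d.S_le_NJ hrS)
  have hTU : T ≤ U := by
    obtain ⟨m, hm6, hm⟩ := card_three_dvd_pow Nat.prime_three
      (show Nat.card (d.S : Subgroup G) = 3 ^ 6 by rw [d.card_S]; rfl) (inf_le_left : T ≤ (d.S : Subgroup G))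
    have hmne : m ≠ 6 := fun e => hTne (Subgroup.eq_of_le_of_card_ge inf_le_left (by rw [hm, e, d.card_S]; rfl))
    have hUT : U ≤ T := sup_le hJT (Subgroup.zpowers_le.2 hrT)
    obtain ⟨i, hi6, hi⟩ := card_three_dvd_pow Nat.prime_three (show Nat.card T = 3 ^ m from hm) hUT
    have h4 : 4 < i := by
      by_contra h
      have hJU : d.J = U := Subgroup.eq_of_le_of_card_ge le_sup_left (by
        rw [hi, d.J_card]; exact (Nat.pow_le_pow_right (by norm_num) (show i ≤ 4 by omega)).trans (by norm_num))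
      exact hrJ (hJU ▸ (le_sup_right : _ ≤ U) (Subgroup.mem_zpowers r))
    exact (Subgroup.eq_of_le_of_card_ge hUT (by rw [hm, hi]; exact Nat.pow_le_pow_right (by norm_num) (by omega))).ge
  -- commutators of `R` lie in `Z`
  set D := R ⊓ d.J with hD
  have hψ : ∀ b ∈ D, r * b * r⁻¹ * b⁻¹ ∈ d.Z := by
    have h27 : Nat.card D ≤ 27 := by
      obtain ⟨m, hm4, hm⟩ := card_three_dvd_pow Nat.prime_three
        (show Nat.card d.J = 3 ^ 4 by rw [d.J_card]; rfl) (inf_le_right : D ≤ d.J)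
      rw [hm]
      rcases Nat.eq_or_lt_of_le hm4 with e | e
      · refine absurd (fun j hj => ?_) hJR
        rw [← Subgroup.eq_of_le_of_card_ge (inf_le_right : D ≤ d.J) (by rw [hm, e, d.J_card]; rfl)] at hj
        exact hj.1
      · exact (Nat.pow_le_pow_right (by norm_num) (show m ≤ 3 by omega)).trans (by norm_num)
    let f : D →* G := MonoidHom.mk' (fun b => r * (b : G) * r⁻¹ * (b : G)⁻¹) fun a b => by
      have ha := a.2.2
      have hb : r * (b : G) * r⁻¹ ∈ d.J := d.conj_J (d.S_le_M₀ hrS) b.2.2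
      show r * ((a : G) * b) * r⁻¹ * ((a : G) * b)⁻¹ = r * a * r⁻¹ * (a : G)⁻¹ * (r * b * r⁻¹ * (b : G)⁻¹)
      calc r * ((a : G) * b) * r⁻¹ * ((a : G) * b)⁻¹
          = r * a * r⁻¹ * ((r * b * r⁻¹ * (b : G)⁻¹) * (a : G)⁻¹) := by group
        _ = r * a * r⁻¹ * ((a : G)⁻¹ * (r * b * r⁻¹ * (b : G)⁻¹)) := by
            rw [d.J_comm _ (d.J.mul_mem hb (d.J.inv_mem b.2.2)) _ (d.J.inv_mem ha)]
        _ = _ := by group
    set K := Subgroup.closure {d.z, x} with hK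
    have hKD : K ≤ D := by
      rw [hK, Subgroup.closure_le]
      rintro u (rfl | rfl)
      exacts [⟨hzR, d.z_mem_J⟩, ⟨hxR, hxJ⟩]
    have hKker : K.subgroupOf D ≤ f.ker := by
      intro b hb
      have hb' : (b : G) ∈ Subgroup.closure {d.z, x} := hb
      suffices hall : ∀ v ∈ Subgroup.closure {d.z, x}, r * v = v * r by
        show r * (b : G) * r⁻¹ * (b : G)⁻¹ = 1
        rw [conj_eq_of_commute (hall _ hb'), mul_inv_cancel]
      intro v hv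
      induction hv using Subgroup.closure_induction with
      | mem v hv =>
        rcases hv with rfl | rfl
        · exact d.S_z hrS
        · exact hRx r hrR
      | one => simp
      | mul p q _ _ hp hq => exact ((show Commute r p from hp).mul_right hq).eq
      | inv p _ hp => exact (show Commute r p from hp).inv_right.eq
    have h9 : 9 ≤ Nat.card K := by
      obtain ⟨m, -, hm⟩ := card_three_dvd_pow Nat.prime_three
        (show Nat.card d.J = 3 ^ 4 by rw [d.J_card]; rfl) (hKD.trans inf_le_right)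
      rw [hm]
      by_contra h
      have hm1 : m ≤ 1 := by
        by_contra hm2
        exact h ((show 9 = 3 ^ 2 from rfl).le.trans (Nat.pow_le_pow_right (by norm_num) (by omega)))
      refine hxZ ?_
      have hZK : d.Z ≤ K := Subgroup.zpowers_le.2 (Subgroup.subset_closure (by simp))
      rw [Subgroup.eq_of_le_of_card_ge hZK (by rw [hm, d.card_Z]; exact (Nat.pow_le_pow_right (by norm_num) hm1).trans (by norm_num))]
      exact Subgroup.subset_closure (by simp)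
    have hker : 9 ≤ Nat.card f.ker :=
      h9.trans ((Nat.card_congr (Subgroup.subgroupOfEquivOfLe hKD).toEquiv).symm.le.trans (Subgroup.card_le_of_le hKker))
    have hrange : Nat.card f.range ≤ 3 := by
      have h := Subgroup.card_eq_card_quotient_mul_card_subgroup f.ker
      rw [Nat.card_congr (QuotientGroup.quotientKerEquivRange f).toEquiv] at h
      nlinarith
    have hZle : d.Z ≤ f.range := by
      have hk₀f : k₀ ∈ f.range := ⟨⟨a₀, hcomR j₀ hj₀, d.A_le_J ha₀A⟩, rfl⟩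
      intro u hu
      rcases hZk u hu with rfl | rfl | rfl
      exacts [one_mem _, hk₀f, inv_mem hk₀f]
    have heq : d.Z = f.range := Subgroup.eq_of_le_of_card_ge hZle (by rw [d.card_Z]; exact hrange)
    intro b hb
    rw [heq]
    exact ⟨⟨b, hb⟩, rfl⟩
  have hRform : ∀ u ∈ R, ∃ b ∈ D, ∃ n : ℤ, u = b * r ^ n := by
    intro u hu
    have hu' : u ∈ d.J ⊔ Subgroup.zpowers r := hTU ((hmemT u).2 ⟨hR hu, hRx u hu⟩)
    rw [← SetLike.mem_coe, Subgroup.coe_mul_of_right_le_normalizer_left _ _ hrzJ] at hu'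
    obtain ⟨b, hb, p, hp, rfl⟩ := hu'
    obtain ⟨n, rfl⟩ := Subgroup.mem_zpowers_iff.1 hp
    refine ⟨b, ⟨?_, hb⟩, n, rfl⟩
    have := R.mul_mem hu (R.zpow_mem hrR (-n))
    rwa [zpow_neg, mul_inv_cancel_right] at this
  have hcomm : ∀ u ∈ R, ∀ v ∈ R, u * v * u⁻¹ * v⁻¹ ∈ d.Z := by
    intro u hu v hv
    have hcR : ∀ b ∈ D, ∀ v ∈ R, b * v * b⁻¹ * v⁻¹ ∈ d.Z := by
      intro b hb v hv
      let C : Subgroup G :=
        { carrier := {p | p ∈ (d.S : Subgroup G) ∧ b * p * b⁻¹ * p⁻¹ ∈ d.Z}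
          one_mem' := ⟨Subgroup.one_mem _, by simp⟩
          mul_mem' := fun {p q} hp hq => ⟨Subgroup.mul_mem _ hp.1 hq.1, by
            have := d.Z.mul_mem hp.2 hq.2
            rwa [show b * (p * q) * b⁻¹ * (p * q)⁻¹ = b * p * b⁻¹ * p⁻¹ * (b * q * b⁻¹ * q⁻¹) from ?_]
            calc b * (p * q) * b⁻¹ * (p * q)⁻¹ = b * p * b⁻¹ * p⁻¹ * (p * (b * q * b⁻¹ * q⁻¹) * p⁻¹) := by group
              _ = _ := by rw [conj_eq_of_commute (d.L₀_Z (d.S_le_L₀ hp.1) hq.2)]⟩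
          inv_mem' := fun {p} hp => ⟨Subgroup.inv_mem _ hp.1, by
            have := d.Z.inv_mem hp.2
            rwa [show b * p⁻¹ * b⁻¹ * (p⁻¹)⁻¹ = (b * p * b⁻¹ * p⁻¹)⁻¹ from ?_]
            calc b * p⁻¹ * b⁻¹ * (p⁻¹)⁻¹ = p⁻¹ * (b * p * b⁻¹ * p⁻¹)⁻¹ * p⁻¹⁻¹ := by group
              _ = _ := by
                rw [conj_eq_of_commute (d.L₀_Z (d.S_le_L₀ (Subgroup.inv_mem _ hp.1)) (d.Z.inv_mem hp.2))]⟩ }
      obtain ⟨b', hb', n, rfl⟩ := hRform v hv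
      have hrC : r ∈ C := ⟨hrS, by
        have := d.Z.inv_mem (hψ b hb)
        rwa [show (r * b * r⁻¹ * b⁻¹)⁻¹ = b * r * b⁻¹ * r⁻¹ by group] at this⟩
      have hbC : b' ∈ C := ⟨d.J_le hb'.2, by
        rw [conj_eq_of_commute (d.J_comm b hb.2 b' hb'.2), mul_inv_cancel]; exact d.Z.one_mem⟩
      exact (C.mul_mem hbC (C.zpow_mem hrC n)).2
    obtain ⟨b, hb, n, rfl⟩ := hRform u hu
    obtain ⟨b', hb', n', rfl⟩ := hRform v hv
    have hbb : ∀ p ∈ D, ∀ q ∈ R, q * p * q⁻¹ * p⁻¹ ∈ d.Z := fun p hp q hq => by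
      have := d.Z.inv_mem (hcR p hp q hq)
      rwa [show (p * q * p⁻¹ * q⁻¹)⁻¹ = q * p * q⁻¹ * p⁻¹ by group] at this
    have hnR := R.zpow_mem hrR n
    have h1 := hbb b' hb' _ hnR
    have h2 := hcR b hb _ hv
    rw [show b * r ^ n * (b' * r ^ n') * (b * r ^ n)⁻¹ * (b' * r ^ n')⁻¹
      = b * (r ^ n * b' * (r ^ n)⁻¹ * b'⁻¹) * b⁻¹ * (b * (b' * r ^ n') * b⁻¹ * (b' * r ^ n')⁻¹) by group,
      conj_eq_of_commute (d.L₀_Z (d.S_le_L₀ (d.J_le hb.2)) h1)]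
    exact d.Z.mul_mem h1 h2
  have hgN : ∀ g : G, g * x = x * g → g ∈ Subgroup.normalizer (Subgroup.zpowers d.z : Set G) := by
    intro g hg
    have hk' : g * k₀ * g⁻¹ ∈ d.Z := by
      have := hcomm _ (hRn g hg r hrR) _ (hRn g hg a₀ (hcomR j₀ hj₀))
      rwa [show g * r * g⁻¹ * (g * a₀ * g⁻¹) * (g * r * g⁻¹)⁻¹ * (g * a₀ * g⁻¹)⁻¹
        = g * (r * a₀ * r⁻¹ * a₀⁻¹) * g⁻¹ by group] at this
    refine Subgroup.mem_normalizer_fintype fun u hu => ?_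
    rcases hZk u hu with rfl | rfl | rfl
    · simp
    · exact hk'
    · rw [← conj_inv]; exact d.Z.inv_mem hk'
  exact d.norm_of_commute hxJ hxZ (hgN g hg) hg

/-- Centralizers of non-singular elements of `J` normalize `J`. -/
theorem cent_le_NJ {x : G} (hxJ : x ∈ d.J) (hx1 : x ≠ 1) (hns : ¬ d.Sg x)
    (hcon : ∃ R : Subgroup G, IsPGroup 3 R ∧ (∀ r ∈ R, r * x = x * r) ∧
      (∀ g, g * x = x * g → ∀ r ∈ R, g * r * g⁻¹ ∈ R) ∧ ∀ g, (∀ r ∈ R, g * r = r * g) → g ∈ R)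
    {g : G} (hg : g * x = x * g) : g ∈ Subgroup.normalizer (d.J : Set G) := by
  classical
  obtain ⟨R, hRp, hRx, hRn, hRc⟩ := hcon
  have hJN : d.J ≤ Subgroup.normalizer (R : Set G) := fun j hj =>
    Subgroup.mem_normalizer_fintype fun r hr => hRn j (d.J_comm j hj x hxJ) r hr
  have hT : IsPGroup 3 (d.J ⊔ R : Subgroup G) :=
    (IsPGroup.of_card (n := 4) (by rw [d.J_card]; rfl)).to_sup_of_normal_right' hRp hJN
  obtain ⟨y, hy, hyS⟩ := d.exists_conj_into_S hT le_sup_left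
  set R' := R.map (MulAut.conj y).toMonoidHom with hR'
  have key : ∀ {u}, u * (y * x * y⁻¹) = y * x * y⁻¹ * u → y⁻¹ * u * y * x = x * (y⁻¹ * u * y) := by
    intro u hu
    calc y⁻¹ * u * y * x = y⁻¹ * (u * (y * x * y⁻¹)) * y := by group
      _ = y⁻¹ * (y * x * y⁻¹ * u) * y := by rw [hu]
      _ = x * (y⁻¹ * u * y) := by group
  have h := d.cent_le_of_R (R := R') (x := y * x * y⁻¹) ((Subgroup.mem_normalizer_iff.1 hy x).1 hxJ)
    (fun e => hx1 (conj_eq_one_iff.1 e))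
    (fun hs => hns (by
      have := d.sg_conj (g := y⁻¹) hs (by
        rw [show y⁻¹ * (y * x * y⁻¹) * y⁻¹⁻¹ = x by group]; exact hxJ)
      rwa [show y⁻¹ * (y * x * y⁻¹) * y⁻¹⁻¹ = x by group] at this))
    (by rintro _ ⟨r, hr, rfl⟩; exact hyS r ((le_sup_right : R ≤ _) hr))
    (by
      rintro _ ⟨r, hr, rfl⟩
      show y * r * y⁻¹ * (y * x * y⁻¹) = y * x * y⁻¹ * (y * r * y⁻¹)
      rw [conj_mul, conj_mul, hRx r hr])
    (by
      rintro u hu _ ⟨r, hr, rfl⟩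
      refine ⟨_, hRn _ (key hu) r hr, ?_⟩
      show y * (y⁻¹ * u * y * r * (y⁻¹ * u * y)⁻¹) * y⁻¹ = u * (y * r * y⁻¹) * u⁻¹
      group)
    (fun u hu => by
      refine ⟨y⁻¹ * u * y, hRc _ fun r hr => ?_, ?_⟩
      · have := hu (y * r * y⁻¹) ⟨r, hr, rfl⟩
        calc y⁻¹ * u * y * r = y⁻¹ * (u * (y * r * y⁻¹)) * y := by group
          _ = y⁻¹ * (y * r * y⁻¹ * u) * y := by rw [this]
          _ = r * (y⁻¹ * u * y) := by group
      · show y * (y⁻¹ * u * y) * y⁻¹ = u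
        group)
    (g := y * g * y⁻¹) (by rw [conj_mul, conj_mul, hg])
  have := Subgroup.mul_mem _ (Subgroup.mul_mem _ (Subgroup.inv_mem _ hy) h) hy
  rwa [show y⁻¹ * (y * g * y⁻¹) * y = g by group] at this

end Based

end Cfsg.Agent.McLThree
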