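/-
The decomposition `J = P × E` attached to the involution `t`.
-/
import Cfsg.Agent.Lib.McLThree.CentX

set_option autoImplicit false
set_option maxRecDepth 100000
set_option linter.style.longLine false
set_option linter.style.haveILetI false

namespace Cfsg.Agent.McLThree

/-- The data with an involution `t` of `L₀` fixing a second conjugate of `z` in `J`. -/
structure Frame (G : Type*) [Group G] extends Based G where
  m : G
  t : G
  m_mem : m ∈ M₀
  m_sq : m * m = 1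
  π_m : π₆ m = b0
  t_mem : t ∈ L₀
  t_sq : t * t = 1
  π_t : π₅ t = -1
  t_NJ : t ∈ Subgroup.normalizer (J : Set G)
  t_w : t * (m * z * m⁻¹) * t⁻¹ = m * z * m⁻¹

theorem Based.nonempty_frame {G : Type*} [Group G] [Finite G] (d : Based G) : Nonempty (Frame G) := by
  obtain ⟨m, hm, hm2, hmπ⟩ := d.exists_m
  obtain ⟨t, ht, ht2, htπ, htJ, htw⟩ := d.exists_t hm hmπ
  exact ⟨{ d with m := m, t := t, m_mem := hm, m_sq := hm2, π_m := hmπ, t_mem := ht, t_sq := ht2,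
                  π_t := htπ, t_NJ := htJ, t_w := htw }⟩

namespace Frame

variable {G : Type*} [Group G] [Finite G] (d : Frame G)

/-- The second conjugate of `z`. -/
def w : G := d.m * d.z * d.m⁻¹

/-- The centralizer of `t` in `J`. -/
def P : Subgroup G := d.J ⊓ Subgroup.centralizer ({d.t} : Set G)

/-- The intersection of `A` with its conjugate under `m`. -/
def E : Subgroup G := d.A ⊓ d.A.map (MulAut.conj d.m).toMonoidHom

theorem m_inv : d.m⁻¹ = d.m := inv_eq_of_mul_eq_one_right d.m_sq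

theorem t_inv : d.t⁻¹ = d.t := inv_eq_of_mul_eq_one_right d.t_sq

theorem t_z : d.t * d.z = d.z * d.t := d.L₀_cent d.t d.t_mem

theorem t_w' : d.t * d.w = d.w * d.t := commute_of_conj_eq d.t_w

theorem w_mem_J : d.w ∈ d.J := d.conj_J d.m_mem d.z_mem_J

theorem sg_w : d.Sg d.w := ⟨d.m, d.m_mem, Or.inl rfl⟩

theorem m_w : d.m * d.w * d.m⁻¹ = d.z := by
  calc d.m * (d.m * d.z * d.m⁻¹) * d.m⁻¹ = d.m * d.m * d.z * (d.m * d.m)⁻¹ := by group
    _ = d.z := by rw [d.m_sq, one_mul, inv_one, mul_one]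

theorem m_z : d.m * d.z * d.m⁻¹ = d.w := rfl

theorem w_notMem_Z : d.w ∉ d.Z := fun h => g0_normP0.2.2.1 (d.π_m ▸ (d.normP0_iff d.m_mem).2 h)

theorem w_notMem_A : d.w ∉ d.A := fun h => d.w_notMem_Z (d.sg_A d.sg_w h)

theorem mem_P {j : G} : j ∈ d.P ↔ j ∈ d.J ∧ j * d.t = d.t * j := by
  rw [P, Subgroup.mem_inf, mem_centralizer_one]

theorem z_mem_P : d.z ∈ d.P := d.mem_P.2 ⟨d.z_mem_J, d.t_z.symm⟩

theorem w_mem_P : d.w ∈ d.P := d.mem_P.2 ⟨d.w_mem_J, d.t_w'.symm⟩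

theorem P_le_J : d.P ≤ d.J := inf_le_left

theorem mem_E {e : G} : e ∈ d.E ↔ e ∈ d.A ∧ d.m * e * d.m⁻¹ ∈ d.A := by
  rw [E, Subgroup.mem_inf]
  refine and_congr_right fun _ => ⟨?_, fun h => ⟨_, h, ?_⟩⟩
  · rintro ⟨a, ha, rfl⟩
    show d.m * (d.m * a * d.m⁻¹) * d.m⁻¹ ∈ d.A
    rwa [show d.m * (d.m * a * d.m⁻¹) * d.m⁻¹ = d.m * d.m * a * (d.m * d.m)⁻¹ by group, d.m_sq, one_mul,
      inv_one, mul_one]
  · show d.m * (d.m * e * d.m⁻¹) * d.m⁻¹ = e
    rw [show d.m * (d.m * e * d.m⁻¹) * d.m⁻¹ = d.m * d.m * e * (d.m * d.m)⁻¹ by group, d.m_sq, one_mul,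
      inv_one, mul_one]

theorem E_le_J : d.E ≤ d.J := fun _ he => d.A_le_J (d.mem_E.1 he).1

theorem z_notMem_E : d.z ∉ d.E := fun h => d.w_notMem_A (d.mem_E.1 h).2

theorem card_E : Nat.card d.E = 9 := by
  have hA' : d.A.map (MulAut.conj d.m).toMonoidHom ≤ d.J := by
    rintro _ ⟨a, ha, rfl⟩
    exact d.conj_J d.m_mem (d.A_le_J ha)
  have h := card_mul_le d.A_le_J hA'
  rw [Subgroup.card_map_of_injective (MulAut.conj d.m).injective, d.card_A, d.J_card] at h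
  have hlt : Nat.card d.E < 27 := by
    rw [← d.card_A]
    refine lt_of_le_of_ne (Subgroup.card_le_of_le inf_le_left) fun e => d.z_notMem_E ?_
    rw [E, Subgroup.eq_of_le_of_card_ge (inf_le_left : _ ≤ d.A) e.symm.le]
    exact d.z_mem_A
  obtain ⟨i, -, hi⟩ := card_three_dvd_pow Nat.prime_three
    (show Nat.card d.J = 3 ^ 4 by rw [d.J_card]; rfl) d.E_le_J
  change 27 * 27 ≤ 81 * Nat.card d.E at h
  rw [hi] at h hlt ⊢
  have : i < 3 := by
    by_contra h'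
    exact absurd hlt (not_lt.2 ((show 27 = 3 ^ 3 from rfl).le.trans (Nat.pow_le_pow_right (by norm_num) (by omega))))
  interval_cases i <;> omega

theorem conj_A {x : G} (h1 : x ∈ Subgroup.normalizer (d.J : Set G))
    (h2 : x ∈ Subgroup.normalizer (Subgroup.zpowers d.z : Set G)) {a : G} (ha : a ∈ d.A) : x * a * x⁻¹ ∈ d.A :=
  ⟨(Subgroup.mem_normalizer_iff.1 h1 a).1 (d.A_le_J ha), d.Q_conj x h2 a (d.A_le_Q ha)⟩

/-- Elements fixing the pair of lines `⟨z⟩, ⟨w⟩` normalize `E`. -/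
theorem conj_E {x : G} (h1 : x ∈ Subgroup.normalizer (d.J : Set G))
    (hz : x * d.z * x⁻¹ = d.z ∨ x * d.z * x⁻¹ = d.z⁻¹) (hw : x * d.w * x⁻¹ = d.w ∨ x * d.w * x⁻¹ = d.w⁻¹)
    {e : G} (he : e ∈ d.E) : x * e * x⁻¹ ∈ d.E := by
  have hN : ∀ u, (u * d.z * u⁻¹ = d.z ∨ u * d.z * u⁻¹ = d.z⁻¹) →
      u ∈ Subgroup.normalizer (Subgroup.zpowers d.z : Set G) := by
    intro u hu
    refine Subgroup.mem_normalizer_fintype fun k hk => ?_
    obtain ⟨n, rfl⟩ := Subgroup.mem_zpowers_iff.1 hk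
    rw [← conj_zpow]
    rcases hu with h | h <;> rw [h]
    exacts [zpow_mem (Subgroup.mem_zpowers _) n, zpow_mem (inv_mem (Subgroup.mem_zpowers _)) n]
  refine d.mem_E.2 ⟨d.conj_A h1 (hN x hz) (d.mem_E.1 he).1, ?_⟩
  set y := d.m * x * d.m⁻¹ with hy
  have hy1 : y ∈ Subgroup.normalizer (d.J : Set G) :=
    Subgroup.mul_mem _ (Subgroup.mul_mem _ (d.M₀_le d.m_mem) h1) (Subgroup.inv_mem _ (d.M₀_le d.m_mem))
  have hy2 : y * d.z * y⁻¹ = d.z ∨ y * d.z * y⁻¹ = d.z⁻¹ := by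
    have e' : y * d.z * y⁻¹ = d.m * (x * d.w * x⁻¹) * d.m⁻¹ := by
      calc y * d.z * y⁻¹ = d.m * x * (d.m⁻¹ * d.z * d.m) * (d.m * x)⁻¹ := by rw [hy]; group
        _ = d.m * x * d.w * (d.m * x)⁻¹ := by
            rw [show d.m⁻¹ * d.z * d.m = d.m * d.z * d.m⁻¹ by rw [d.m_inv], d.m_z]
        _ = _ := by group
    rcases hw with h | h
    · exact Or.inl (by rw [e', h, d.m_w])
    · exact Or.inr (by rw [e', h, ← conj_inv, d.m_w])
  have := d.conj_A hy1 (hN y hy2) (d.mem_E.1 he).2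
  rwa [show y * (d.m * e * d.m⁻¹) * y⁻¹ = d.m * (x * e * x⁻¹) * d.m⁻¹ by rw [hy]; group] at this

/-- `t` inverts `E`. -/
theorem t_conj_E {e : G} (he : e ∈ d.E) : d.t * e * d.t⁻¹ = e⁻¹ := by
  have h1 := d.involution_inv_Q d.t_mem d.t_sq d.π_t (d.A_le_Q (d.mem_E.1 he).1)
  have h2 : d.t * e * d.t⁻¹ * e ∈ d.E :=
    d.E.mul_mem (d.conj_E d.t_NJ (Or.inl (conj_eq_of_commute d.t_z)) (Or.inl d.t_w) he) he
  refine eq_inv_of_mul_eq_one_left ?_
  rcases three_cases d.z_cube h1 with h | h | h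
  · exact h
  · exact absurd (h ▸ h2) d.z_notMem_E
  · exact absurd (inv_mem_iff.1 (h ▸ h2)) d.z_notMem_E

theorem eq_one_of_P_E {j : G} (h1 : j ∈ d.P) (h2 : j ∈ d.E) : j = 1 := by
  refine d.eq_one_of_sq (d.P_le_J h1) (mul_eq_one_iff_eq_inv.2 ?_)
  rw [← d.t_conj_E h2, conj_eq_of_commute (d.mem_P.1 h1).2.symm]

theorem card_P : Nat.card d.P = 9 := by
  have h := card_mul_le d.P_le_J d.E_le_J
  have hbot : Nat.card (d.P ⊓ d.E : Subgroup G) = 1 := by
    rw [Subgroup.card_eq_one, eq_bot_iff]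
    exact fun j hj => Subgroup.mem_bot.2 (d.eq_one_of_P_E hj.1 hj.2)
  rw [hbot, d.card_E, d.J_card] at h
  obtain ⟨i, -, hi⟩ := card_three_dvd_pow Nat.prime_three
    (show Nat.card d.J = 3 ^ 4 by rw [d.J_card]; rfl) d.P_le_J
  have h3 : 3 < Nat.card d.P := by
    rw [← d.card_Z]
    have hZP : d.Z ≤ d.P := Subgroup.zpowers_le.2 d.z_mem_P
    refine lt_of_le_of_ne (Subgroup.card_le_of_le hZP) fun e => d.w_notMem_Z ?_
    rw [Subgroup.eq_of_le_of_card_ge hZP e.symm.le]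
    exact d.w_mem_P
  rw [hi] at h h3 ⊢
  have : i < 3 := by
    by_contra h'
    have := Nat.pow_le_pow_right (show 3 > 0 by norm_num) (show 3 ≤ i by omega)
    omega
  interval_cases i <;> omega

/-- `P` is generated by `z` and `w`. -/
theorem P_closure : Subgroup.closure {d.z, d.w} = d.P := by
  have hle : Subgroup.closure {d.z, d.w} ≤ d.P := by
    rw [Subgroup.closure_le]
    rintro v (rfl | rfl)
    exacts [d.z_mem_P, d.w_mem_P]
  obtain ⟨i, -, hi⟩ := card_three_dvd_pow Nat.prime_three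
    (show Nat.card d.P = 3 ^ 2 by rw [d.card_P]; rfl) hle
  have hZle : d.Z ≤ Subgroup.closure {d.z, d.w} := Subgroup.zpowers_le.2 (Subgroup.subset_closure (by simp))
  have h2 : 2 ≤ i := by
    by_contra h
    refine d.w_notMem_Z ?_
    rw [Subgroup.eq_of_le_of_card_ge hZle (by
      rw [hi, d.card_Z]; exact (Nat.pow_le_pow_right (by norm_num) (show i ≤ 1 by omega)).trans (by norm_num))]
    exact Subgroup.subset_closure (by simp)
  exact Subgroup.eq_of_le_of_card_ge hle (by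
    rw [hi, d.card_P]; exact (show 9 = 3 ^ 2 from rfl).le.trans (Nat.pow_le_pow_right (by norm_num) h2))

/-- Commuting with `z` and `w` is commuting with `P`. -/
theorem commute_P {g : G} (hz : g * d.z = d.z * g) (hw : g * d.w = d.w * g) {p : G} (hp : p ∈ d.P) :
    g * p = p * g := by
  rw [← d.P_closure] at hp
  induction hp using Subgroup.closure_induction with
  | mem v hv =>
    rcases hv with rfl | rfl
    exacts [hz, hw]
  | one => simp
  | mul a b _ _ ha hb => exact ((show Commute g a from ha).mul_right hb).eq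
  | inv a _ ha => exact (show Commute g a from ha).inv_right.eq

theorem exists_decomp {j : G} (hj : j ∈ d.J) : ∃ p ∈ d.P, ∃ e ∈ d.E, j = p * e := by
  let f : d.P × d.E → d.J := fun x => ⟨x.1 * x.2, d.J.mul_mem (d.P_le_J x.1.2) (d.E_le_J x.2.2)⟩
  have hf : Function.Injective f := by
    rintro ⟨p, e⟩ ⟨p', e'⟩ h
    have h1 : (p : G) * e = p' * e' := congrArg Subtype.val h
    have h2 : (p' : G)⁻¹ * p = e' * (e : G)⁻¹ := by
      rw [inv_mul_eq_iff_eq_mul, ← mul_assoc, ← h1, mul_inv_cancel_right]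
    have h3 := d.eq_one_of_P_E (d.P.mul_mem (d.P.inv_mem p'.2) p.2) (h2 ▸ d.E.mul_mem e'.2 (d.E.inv_mem e.2))
    have hp : p' = p := Subtype.ext (inv_mul_eq_one.1 h3)
    subst hp
    exact Prod.ext rfl (Subtype.ext (mul_left_cancel h1))
  obtain ⟨⟨p, e⟩, h⟩ := (hf.bijective_of_nat_card_le (by
    rw [Nat.card_prod, d.card_P, d.card_E, d.J_card])).2 ⟨j, hj⟩
  exact ⟨p, p.2, e, e.2, (congrArg Subtype.val h).symm⟩

/-- Actions on `J` are determined on `z`, `w` and `E`. -/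
theorem eq_of_action {x : G} (hz : x * d.z = d.z * x) (hw : x * d.w = d.w * x)
    (he : ∀ e ∈ d.E, x * e = e * x) : x ∈ d.J := by
  refine d.mem_J_of_commute_J fun j hj => ?_
  obtain ⟨p, hp, e, hee, rfl⟩ := d.exists_decomp hj
  exact ((show Commute x p from d.commute_P hz hw hp).mul_right (show Commute x e from he e hee)).eq

/-- `C_S(t) = P`. -/
theorem mem_P_of_commute {s : G} (hs : s ∈ (d.S : Subgroup G)) (ht : s * d.t = d.t * s) : s ∈ d.P := by
  refine d.mem_P.2 ⟨?_, ht⟩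
  obtain ⟨j, hj, hjQ⟩ := d.exists_J_notMem_Q
  have key : ∀ q ∈ d.Q, ∀ i ∈ d.J, q * i * d.t = d.t * (q * i) → q * i ∈ d.J := by
    intro q hq i hi hc
    have hqM := d.S_le_M₀ (d.Q_le_S hq)
    set u := d.t * q * d.t⁻¹ * q with hu
    have huJ : u ∈ d.J := d.A_le_J (d.Z_le_A (d.involution_inv_Q d.t_mem d.t_sq d.π_t hq))
    set i' := d.t * i * d.t⁻¹ with hi'
    have hi'J : i' ∈ d.J := (Subgroup.mem_normalizer_iff.1 d.t_NJ i).1 hi
    have e : q * i = u * q⁻¹ * i' := by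
      calc q * i = d.t * (q * i) * d.t⁻¹ := by rw [← hc, mul_inv_cancel_right]
        _ = u * q⁻¹ * i' := by rw [hu, hi']; group
    have hq2 : q * q ∈ d.J := by
      have h1 : q * u * q⁻¹ ∈ d.J := d.conj_J hqM huJ
      have h2 : q * (q * i) * i⁻¹ = q * u * q⁻¹ * i' * i⁻¹ := by rw [e]; group
      rw [show q * q = q * (q * i) * i⁻¹ by group, h2]
      exact d.J.mul_mem (d.J.mul_mem h1 hi'J) (d.J.inv_mem hi)
    have := d.J.mul_mem (d.J.inv_mem hq2) hi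
    rwa [show (q * q)⁻¹ = q by rw [← inv_eq_sq (d.Q_exp q hq), inv_inv]] at this
  rcases d.S_decomp (d.J_le hj) hjQ hs with h | h | h
  · have := key s h 1 d.J.one_mem (by rwa [mul_one])
    rwa [mul_one] at this
  · have e : s * j⁻¹ * j = s := by group
    have := key _ h j hj (by rw [e]; exact ht)
    rwa [e] at this
  · have e : s * j * j⁻¹ = s := by group
    have := key _ h _ (d.J.inv_mem hj) (by rw [e]; exact ht)
    rwa [e] at this

/-- The singular elements of `P`. -/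
theorem sg_P {v : G} (hv : d.Sg v) (hP : v ∈ d.P) : v = d.z ∨ v = d.z⁻¹ ∨ v = d.w ∨ v = d.w⁻¹ := by
  have hv1 := d.sg_ne_one hv
  rcases d.sg_cases d.m_mem d.π_m hv with h | ⟨s, hs, hse⟩
  · rcases three_cases d.z_cube h with e | e | e
    exacts [absurd e hv1, Or.inl e, Or.inr (Or.inl e)]
  suffices hsJ : s ∈ d.J by
    have hw : s * d.w * s⁻¹ = d.w := conj_eq_of_commute (d.J_comm s hsJ _ d.w_mem_J)
    rcases hse with e | e
    · exact Or.inr (Or.inr (Or.inl (e.trans hw)))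
    · exact Or.inr (Or.inr (Or.inr (e.trans (by rw [← conj_inv]; exact congrArg Inv.inv hw))))
  set s' := d.t * s * d.t⁻¹ with hs'
  have h1 : s' * d.w * s'⁻¹ = s * d.w * s⁻¹ := by
    have hvt : d.t * (s * d.w * s⁻¹) * d.t⁻¹ = s * d.w * s⁻¹ := by
      have hvP := (d.mem_P.1 hP).2
      rcases hse with e | e
      · change v = s * d.w * s⁻¹ at e
        rw [← e]
        exact conj_eq_of_commute hvP.symm
      · change v = s * d.w⁻¹ * s⁻¹ at e
        rw [← inv_inv (s * d.w * s⁻¹), conj_inv, ← e]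
        exact conj_eq_of_commute (show Commute d.t v⁻¹ from (show Commute d.t v from hvP.symm).inv_right).eq
    calc s' * d.w * s'⁻¹ = d.t * (s * (d.t⁻¹ * d.w * d.t⁻¹⁻¹) * s⁻¹) * d.t⁻¹ := by rw [hs']; group
      _ = s * d.w * s⁻¹ := by
          rw [conj_eq_of_commute (show Commute d.t⁻¹ d.w from (show Commute d.t d.w from d.t_w').inv_left).eq, hvt]
  have htS : d.t * s * d.t⁻¹ * s ∈ d.J := by
    obtain ⟨j, hj, hjQ⟩ := d.exists_J_notMem_Q
    have key : ∀ q ∈ d.Q, ∀ i ∈ d.J, d.t * (q * i) * d.t⁻¹ * (q * i) ∈ d.J := by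
      intro q hq i hi
      have hqM := d.S_le_M₀ (d.Q_le_S hq)
      have h1 : q⁻¹ * (d.t * i * d.t⁻¹) * q ∈ d.J := by
        simpa using d.conj_J (x := q⁻¹) (d.M₀.inv_mem hqM) ((Subgroup.mem_normalizer_iff.1 d.t_NJ i).1 hi)
      have h2 := d.J.mul_mem (d.J.mul_mem (d.A_le_J (d.Z_le_A (d.involution_inv_Q d.t_mem d.t_sq d.π_t hq))) h1) hi
      rwa [show d.t * q * d.t⁻¹ * q * (q⁻¹ * (d.t * i * d.t⁻¹) * q) * i
        = d.t * (q * i) * d.t⁻¹ * (q * i) by group] at h2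
    rcases d.S_decomp (d.J_le hj) hjQ hs with h | h | h
    · simpa using key s h 1 d.J.one_mem
    · have := key _ h j hj
      rwa [inv_mul_cancel_right] at this
    · have := key _ h _ (d.J.inv_mem hj)
      rwa [mul_inv_cancel_right] at this
  set i := s' * s with hi
  have h2 : s * s * d.w * (s * s)⁻¹ = d.w := by
    have h3 : s⁻¹ * d.w * s⁻¹⁻¹ = s * d.w * s⁻¹ := by
      calc s⁻¹ * d.w * s⁻¹⁻¹ = i⁻¹ * (i * (s⁻¹ * d.w * s⁻¹⁻¹) * i⁻¹) * i := by group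
        _ = i⁻¹ * (s * d.w * s⁻¹) * i := by rw [← h1, hi]; group
        _ = s * d.w * s⁻¹ := by
            have := conj_eq_of_commute (d.J_comm _ (d.J.inv_mem htS) _
              (d.S_conj_J hs d.w_mem_J))
            rw [inv_inv] at this
            exact this
    calc s * s * d.w * (s * s)⁻¹ = s * (s * d.w * s⁻¹) * s⁻¹ := by group
      _ = d.w := by rw [← h3]; group
  set y := d.m⁻¹ * (s * s) * d.m with hy
  have hssM : s * s ∈ d.M₀ := d.M₀.mul_mem (d.S_le_M₀ hs) (d.S_le_M₀ hs)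
  have hyz : y * d.z * y⁻¹ ∈ d.Z := by
    have e : y * d.z * y⁻¹ = d.z := by
      calc y * d.z * y⁻¹ = d.m⁻¹ * (s * s * d.w * (s * s)⁻¹) * d.m := by rw [hy, ← d.m_z]; group
        _ = d.z := by rw [h2, ← d.m_z]; group
    rw [e]; exact d.z_mem_Z
  have hN := (d.normP0_iff (d.M₀.mul_mem (d.M₀.mul_mem (d.M₀.inv_mem d.m_mem) hssM) d.m_mem)).2 hyz
  rw [d.map₆ _ (d.M₀.mul_mem (d.M₀.inv_mem d.m_mem) hssM) _ d.m_mem, d.map₆ _ (d.M₀.inv_mem d.m_mem) _ hssM,
    d.π₆_inv d.m_mem, d.map₆ _ (d.S_le_M₀ hs) _ (d.S_le_M₀ hs), d.π_m] at hN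
  refine (d.ker₆ s (d.S_le_M₀ hs)).1 ?_
  exact (by decide +kernel : ∀ p ∈ sylList, NormP0 (b0⁻¹ * (p * p) * b0) → p = 1) _ (d.π₆_S hs) hN

theorem not_sg_zw : ¬ d.Sg (d.z * d.w) := by
  intro h
  have key : ∀ u ∈ d.Z, d.w ≠ u := fun u hu e => d.w_notMem_Z (e ▸ hu)
  rcases d.sg_P h (d.P.mul_mem d.z_mem_P d.w_mem_P) with e | e | e | e
  · rw [mul_eq_left] at e
    exact key 1 d.Z.one_mem e
  · exact key _ (d.Z.mul_mem (d.Z.inv_mem d.z_mem_Z) (d.Z.inv_mem d.z_mem_Z)) (eq_inv_mul_of_mul_eq e)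
  · rw [mul_eq_right] at e
    exact d.z_ne e
  · refine key _ d.z_mem_Z ?_
    rw [← eq_mul_inv_iff_mul_eq, ← mul_inv_rev, inv_eq_sq (d.J_exp _ (d.J.mul_mem d.w_mem_J d.w_mem_J)),
      ← mul_assoc] at e
    rw [e, show d.w * d.w * d.w = d.w ^ 3 by simp only [pow_succ, pow_zero, one_mul], d.J_exp _ d.w_mem_J, one_mul]

theorem zw_ne_one : d.z * d.w ≠ 1 := fun e =>
  d.w_notMem_Z (by rw [← inv_eq_of_mul_eq_one_right e]; exact d.Z.inv_mem d.z_mem_Z)

/-- The centralizer of `zw` normalizes `J`. -/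
def ZW : Prop := ∀ g : G, g * (d.z * d.w) = d.z * d.w * g → g ∈ Subgroup.normalizer (d.J : Set G)

/-- `C(zw) ≤ N(J)` when `C(zw)` is constrained. -/
theorem zw_of_constrained (hcon : ∃ R : Subgroup G, IsPGroup 3 R ∧ (∀ r ∈ R, r * (d.z * d.w) = d.z * d.w * r) ∧
    (∀ g, g * (d.z * d.w) = d.z * d.w * g → ∀ r ∈ R, g * r * g⁻¹ ∈ R) ∧
    ∀ g, (∀ r ∈ R, g * r = r * g) → g ∈ R) : d.ZW :=
  fun _ h => d.cent_le_NJ (d.J.mul_mem d.z_mem_J d.w_mem_J) d.zw_ne_one d.not_sg_zw hcon h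

theorem cent_P_le {g : G} (hz : g * d.z = d.z * g) (hw : g * d.w = d.w * g) :
    g ∈ Subgroup.normalizer (d.J : Set G) :=
  d.norm_of_commute d.w_mem_J d.w_notMem_Z (d.mem_NZ_of_commute hz) hw

end Frame

end Cfsg.Agent.McLThree
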