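/-
The subgroup `L ≅ SL(2,5)` of `C(t) ∩ C(z)` and the element `c` of order four inverting `w`.
-/
import Cfsg.Agent.Lib.McLThree.Frame
import Cfsg.Agent.Lib.McLThree.FactsTwo

set_option autoImplicit false
set_option maxRecDepth 100000
set_option linter.style.longLine false
set_option linter.style.haveILetI false

namespace Cfsg.Agent.McLThree

/-- The data with an element `c` of order four of `C(t) ∩ L₀` inverting `w` and a complement `L`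
of `Z` in `C(t) ∩ L₀`. -/
structure Level (G : Type*) [Group G] extends Frame G where
  c : G
  L : Subgroup G
  c_mem : c ∈ L
  c_sq : c * c = t
  c_w : c * (m * z * m⁻¹) * c⁻¹ = (m * z * m⁻¹)⁻¹
  c_NJ : c ∈ Subgroup.normalizer (J : Set G)
  w_mem_L : m * z * m⁻¹ ∈ L
  t_mem_L : t ∈ L
  L_le : L ≤ L₀
  L_t : ∀ x ∈ L, x * t = t * x
  L_surj : ∀ a : SL5, ∃ x ∈ L, π₅ x = a
  L_inj : ∀ x ∈ L, π₅ x = 1 → x = 1
  L_cubes : ∀ x ∈ L₀, x * t = t * x → x ^ 3 ∈ L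

namespace Frame

variable {G : Type*} [Group G] [Finite G] (d : Frame G)

/-- The centralizer of `t` in `L₀`. -/
def L₁ : Subgroup G := d.L₀ ⊓ Subgroup.centralizer ({d.t} : Set G)

theorem mem_L₁ {x : G} : x ∈ d.L₁ ↔ x ∈ d.L₀ ∧ x * d.t = d.t * x := by
  rw [L₁, Subgroup.mem_inf, mem_centralizer_one]

theorem exists_L₁ (a : SL5) : ∃ x ∈ d.L₁, d.π₅ x = a := by
  obtain ⟨y, hy, rfl⟩ := d.surj₅ a
  obtain ⟨y', hy', hπ, hc⟩ := d.involution_adjust d.t_mem d.t_sq d.π_t hy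
  exact ⟨y', d.mem_L₁.2 ⟨hy', hc⟩, hπ⟩

theorem ker_L₁ {x : G} (hx : x ∈ d.L₁) (h : d.π₅ x = 1) : x ∈ d.Z :=
  d.involution_cent_Q d.t_mem d.t_sq d.π_t ((d.ker₅ x (d.mem_L₁.1 hx).1).1 h) (d.mem_L₁.1 hx).2.symm

theorem P_le_L₁ : d.P ≤ d.L₁ := fun p hp =>
  d.mem_L₁.2 ⟨d.S_le_L₀ (d.J_le (d.P_le_J hp)), (d.mem_P.1 hp).2⟩

theorem π₅_w_ne : d.π₅ d.w ≠ 1 := fun h =>
  d.w_notMem_A ⟨d.w_mem_J, (d.ker₅ _ (d.S_le_L₀ (d.J_le d.w_mem_J))).1 h⟩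

theorem card_L₁ : Nat.card d.L₁ = 360 := by
  have hZL : d.Z ≤ d.L₁ := fun u hu => d.P_le_L₁ (Subgroup.zpowers_le.2 d.z_mem_P hu)
  let f : d.L₁ →* SL5 := MonoidHom.mk' (fun x => d.π₅ x) fun x y =>
    d.map₅ x (d.mem_L₁.1 x.2).1 y (d.mem_L₁.1 y.2).1
  have hf : Function.Surjective f := fun a => by
    obtain ⟨x, hx, e⟩ := d.exists_L₁ a
    exact ⟨⟨x, hx⟩, e⟩
  have hker : f.ker = d.Z.subgroupOf d.L₁ := by
    ext x
    exact ⟨fun h => d.ker_L₁ x.2 h, fun h => (d.ker₅ x (d.mem_L₁.1 x.2).1).2 (d.Z_le_Q h)⟩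
  rw [Subgroup.card_eq_card_quotient_mul_card_subgroup f.ker,
    Nat.card_congr (QuotientGroup.quotientKerEquivOfSurjective f hf).toEquiv, hker,
    Nat.card_congr (Subgroup.subgroupOfEquivOfLe hZL).toEquiv,
    d.card_Z, Nat.card_eq_fintype_card, card_SL5]

theorem exists_c : ∃ c ∈ d.L₁, c * c = d.t ∧ c * d.w * c⁻¹ = d.w⁻¹ ∧
    c ∈ Subgroup.normalizer (d.J : Set G) := by
  have hwS := d.J_le d.w_mem_J
  have hwL := d.S_le_L₀ hwS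
  obtain ⟨a, haw, ha2, -⟩ := SL5_invert _ (d.π₅_S_cube hwS) d.π₅_w_ne
  obtain ⟨c', hc', rfl⟩ := d.exists_L₁ a
  obtain ⟨hc'L, hc't⟩ := d.mem_L₁.1 hc'
  have hcmem := d.L₁.pow_mem hc' 3
  obtain ⟨hcL, hct⟩ := d.mem_L₁.1 hcmem
  have hπc : d.π₅ (c' ^ 3) = -1 * d.π₅ c' := by
    rw [d.π₅_pow hc'L, pow_succ, pow_two, ha2]
  have hinv : d.π₅ (c' ^ 3) * d.π₅ d.w * (d.π₅ (c' ^ 3))⁻¹ = (d.π₅ d.w)⁻¹ := by
    rw [hπc]
    calc -1 * d.π₅ c' * d.π₅ d.w * (-1 * d.π₅ c')⁻¹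
        = -1 * (d.π₅ c' * d.π₅ d.w * (d.π₅ c')⁻¹) * (-1 : SL5)⁻¹ := by group
      _ = (d.π₅ d.w)⁻¹ := by rw [haw, ← SL5_central, mul_inv_cancel_right]
  have hcS : ∀ s ∈ (d.S : Subgroup G), c' ^ 3 * s * (c' ^ 3)⁻¹ ∈ (d.S : Subgroup G) := by
    intro s hs
    have hx := d.L₀_conj _ (d.L₀_le hcL) s (d.S_le_L₀ hs)
    have hwQ : d.w ∉ d.Q := fun h => d.w_notMem_A ⟨d.w_mem_J, h⟩
    have hπs : d.π₅ (c' ^ 3 * s * (c' ^ 3)⁻¹) = 1 ∨ d.π₅ (c' ^ 3 * s * (c' ^ 3)⁻¹) = d.π₅ d.w⁻¹ ∨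
        d.π₅ (c' ^ 3 * s * (c' ^ 3)⁻¹) = d.π₅ d.w := by
      rw [d.π₅_conj hcL (d.S_le_L₀ hs), d.π₅_inv hwL]
      rcases d.π₅_S hwS hwQ hs with e | e | e <;> rw [e]
      · exact Or.inl (by group)
      · exact Or.inr (Or.inl hinv)
      · exact Or.inr (Or.inr (by rw [← conj_inv, hinv, inv_inv]))
    rcases hπs with e | e | e
    · exact d.Q_le_S ((d.ker₅ _ hx).1 e)
    · have := (d.S : Subgroup G).mul_mem (Subgroup.inv_mem _ hwS)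
        (d.Q_le_S ((d.π₅_eq_iff (d.L₀.inv_mem hwL) hx).1 e.symm))
      rwa [mul_inv_cancel_left] at this
    · have := (d.S : Subgroup G).mul_mem hwS (d.Q_le_S ((d.π₅_eq_iff hwL hx).1 e.symm))
      rwa [mul_inv_cancel_left] at this
  have hcJ : c' ^ 3 ∈ Subgroup.normalizer (d.J : Set G) := d.weak_closure fun j hj => hcS j (d.J_le hj)
  refine ⟨c' ^ 3, hcmem, ?_, ?_, hcJ⟩
  · have hu : c' ^ 2 * d.t ∈ d.Z := by
      refine d.ker_L₁ (d.L₁.mul_mem (d.L₁.pow_mem hc' 2) (d.mem_L₁.2 ⟨d.t_mem, rfl⟩)) ?_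
      rw [d.map₅ _ (d.L₀.pow_mem hc'L 2) _ d.t_mem, d.π₅_pow hc'L, pow_two, ha2, d.π_t, SL5_neg_one.1]
    set u := c' ^ 2 * d.t with hudef
    have e : c' ^ 2 = u * d.t := by rw [hudef, mul_assoc, d.t_sq, mul_one]
    have hut : Commute u d.t := (d.L₀_Z d.t_mem hu).symm
    calc c' ^ 3 * c' ^ 3 = (c' ^ 2) ^ 3 := by rw [← pow_add, ← pow_mul]
      _ = u ^ 3 * d.t ^ 3 := by rw [e, hut.mul_pow]
      _ = d.t := by rw [d.Q_exp u (d.Z_le_Q hu), one_mul, pow_succ, pow_two, d.t_sq, one_mul]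
  · have hP : c' ^ 3 * d.w * (c' ^ 3)⁻¹ ∈ d.P := by
      refine d.mem_P.2 ⟨(Subgroup.mem_normalizer_iff.1 hcJ _).1 d.w_mem_J, ?_⟩
      exact (((show Commute (c' ^ 3) d.t from hct).mul_left d.t_w'.symm).mul_left
        (show Commute (c' ^ 3) d.t from hct).inv_left).eq
    rcases d.sg_P (d.sg_conj d.sg_w (d.P_le_J hP)) hP with e | e | e | e
    · refine absurd ?_ d.π₅_w_ne
      rw [← inv_eq_one, ← hinv, ← d.π₅_conj hcL hwL, e]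
      exact (d.ker₅ _ (d.Q_le_L₀ d.z_mem_Q)).2 d.z_mem_Q
    · refine absurd ?_ d.π₅_w_ne
      rw [← inv_eq_one, ← hinv, ← d.π₅_conj hcL hwL, e]
      exact (d.ker₅ _ (d.Q_le_L₀ (d.Q.inv_mem d.z_mem_Q))).2 (d.Q.inv_mem d.z_mem_Q)
    · refine absurd ?_ d.π₅_w_ne
      have h1 : (d.π₅ d.w)⁻¹ = d.π₅ d.w := by rw [← hinv, ← d.π₅_conj hcL hwL, e]
      have h3 := d.π₅_S_cube hwS
      rw [pow_succ, pow_two] at h3
      nth_rw 1 [← h1] at h3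
      rwa [inv_mul_cancel, one_mul] at h3
    · exact e

include d in
theorem nonempty_level : Nonempty (Level G) := by
  classical
  obtain ⟨c, hc, hc2, hcw, hcJ⟩ := d.exists_c
  obtain ⟨hcL, -⟩ := d.mem_L₁.1 hc
  -- the retraction of `P` onto `Z`
  have hcz : c * d.z * c⁻¹ = d.z := conj_eq_of_commute (d.L₀_cent c hcL)
  have hφZ : ∀ p ∈ d.P, (p * (c * p * c⁻¹)) ^ 2 ∈ d.Z := by
    intro p hp
    refine d.Z.pow_mem ?_ 2
    rw [← d.P_closure] at hp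
    induction hp using Subgroup.closure_induction with
    | mem v hv =>
      rcases hv with rfl | rfl
      · rw [hcz]; exact d.Z.mul_mem d.z_mem_Z d.z_mem_Z
      · rw [hcw, mul_inv_cancel]; exact d.Z.one_mem
    | one => simp
    | mul a b ha hb iha ihb =>
      have ha' : a ∈ d.J := d.P_le_J (d.P_closure ▸ ha)
      have hb' : b ∈ d.J := d.P_le_J (d.P_closure ▸ hb)
      have := d.Z.mul_mem iha ihb
      rwa [show a * b * (c * (a * b) * c⁻¹) = a * (c * a * c⁻¹) * (b * (c * b * c⁻¹)) from ?_]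
      rw [← conj_mul]
      have hca : c * a * c⁻¹ ∈ d.J := (Subgroup.mem_normalizer_iff.1 hcJ a).1 ha'
      calc a * b * (c * a * c⁻¹ * (c * b * c⁻¹)) = a * (b * (c * a * c⁻¹)) * (c * b * c⁻¹) := by group
        _ = _ := by rw [d.J_comm b hb' _ hca]; group
    | inv a ha iha =>
      have ha' : a ∈ d.J := d.P_le_J (d.P_closure ▸ ha)
      have hca : c * a * c⁻¹ ∈ d.J := (Subgroup.mem_normalizer_iff.1 hcJ a).1 ha'
      have := d.Z.inv_mem iha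
      rwa [mul_inv_rev, d.J_comm _ (d.J.inv_mem hca) _ (d.J.inv_mem ha'), conj_inv] at this
  set H : Subgroup d.L₁ := d.P.subgroupOf d.L₁ with hH
  haveI : IsMulCommutative d.Z := inferInstanceAs (IsMulCommutative (Subgroup.zpowers d.z))
  letI : CommGroup d.Z := { (inferInstance : Group d.Z) with mul_comm := fun a b => mul_comm' a b }
  let φ : H →* d.Z := MonoidHom.mk' (fun p => ⟨_, hφZ ((p : d.L₁) : G) p.2⟩) fun p q => Subtype.ext (by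
    have hp : ((p : d.L₁) : G) ∈ d.J := d.P_le_J p.2
    have hq : ((q : d.L₁) : G) ∈ d.J := d.P_le_J q.2
    have hcp : c * ((p : d.L₁) : G) * c⁻¹ ∈ d.J := (Subgroup.mem_normalizer_iff.1 hcJ _).1 hp
    have hcq : c * ((q : d.L₁) : G) * c⁻¹ ∈ d.J := (Subgroup.mem_normalizer_iff.1 hcJ _).1 hq
    show ((((p : d.L₁) : G) * ((q : d.L₁) : G)) * (c * (((p : d.L₁) : G) * ((q : d.L₁) : G)) * c⁻¹)) ^ 2 = _
    set a := ((p : d.L₁) : G)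
    set b := ((q : d.L₁) : G)
    show _ = (a * (c * a * c⁻¹)) ^ 2 * (b * (c * b * c⁻¹)) ^ 2
    rw [← conj_mul, show a * b * (c * a * c⁻¹ * (c * b * c⁻¹)) = a * (c * a * c⁻¹) * (b * (c * b * c⁻¹)) from ?_]
    · exact (show Commute (a * (c * a * c⁻¹)) (b * (c * b * c⁻¹)) from
        d.J_comm _ (d.J.mul_mem hp hcp) _ (d.J.mul_mem hq hcq)).mul_pow 2
    calc a * b * (c * a * c⁻¹ * (c * b * c⁻¹)) = a * (b * (c * a * c⁻¹)) * (c * b * c⁻¹) := by group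
      _ = _ := by rw [d.J_comm b hq _ hcp]; group)
  let χ : d.L₁ →* d.Z := MonoidHom.transfer φ
  have hidx : H.index = 40 := by
    have h := H.card_mul_index
    rw [Nat.card_congr (Subgroup.subgroupOfEquivOfLe d.P_le_L₁).toEquiv, d.card_P, d.card_L₁] at h
    omega
  have hχcube : ∀ x : d.L₁, χ (x ^ 3) = 1 := fun x => by
    rw [map_pow]
    exact Subtype.ext (d.Q_exp _ (d.Z_le_Q (χ x).2))
  have hχZ : ∀ x : d.L₁, (x : G) ∈ d.Z → ((χ x : d.Z) : G) = x := by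
    intro x hx
    have key : ∀ (k : ℕ) (g₀ : d.L₁), g₀⁻¹ * x ^ k * g₀ ∈ H → g₀⁻¹ * x ^ k * g₀ = x ^ k := by
      intro k g₀ _
      refine Subtype.ext ?_
      show (g₀ : G)⁻¹ * (x : G) ^ k * g₀ = (x : G) ^ k
      rw [mul_assoc, ← d.L₀_Z (d.mem_L₁.1 g₀.2).1 (d.Z.pow_mem hx k), inv_mul_cancel_left]
    rw [show χ x = φ ⟨x ^ H.index, MonoidHom.transfer_eq_pow_aux x key⟩ from MonoidHom.transfer_eq_pow φ x key]
    show ((x : G) ^ H.index * (c * (x : G) ^ H.index * c⁻¹)) ^ 2 = x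
    rw [hidx, conj_eq_of_commute (d.L₀_Z hcL (d.Z.pow_mem hx 40))]
    have h3 : (x : G) ^ 3 = 1 := d.Q_exp _ (d.Z_le_Q hx)
    rw [← pow_add, ← pow_mul, show (40 + 40) * 2 = 3 * 53 + 1 from rfl, pow_succ, pow_mul, h3, one_pow, one_mul]
  set L : Subgroup G := χ.ker.map d.L₁.subtype with hL
  have hLmem : ∀ {x : G}, x ∈ L ↔ ∃ h : x ∈ d.L₁, χ ⟨x, h⟩ = 1 := fun {x} =>
    ⟨by rintro ⟨y, hy, rfl⟩; exact ⟨y.2, hy⟩, fun ⟨h, hh⟩ => ⟨⟨x, h⟩, hh, rfl⟩⟩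
  have hcubes : ∀ x ∈ d.L₁, x ^ 3 ∈ L := fun x hx =>
    hLmem.2 ⟨d.L₁.pow_mem hx 3, hχcube ⟨x, hx⟩⟩
  have hinj : ∀ x ∈ L, d.π₅ x = 1 → x = 1 := by
    intro x hx h
    obtain ⟨hx1, hχ⟩ := hLmem.1 hx
    have := hχZ ⟨x, hx1⟩ (d.ker_L₁ hx1 h)
    rw [hχ] at this
    exact this.symm
  have hsurj : ∀ a : SL5, ∃ x ∈ L, d.π₅ x = a := by
    intro a
    obtain ⟨y, y', rfl⟩ := SL5_cubes a
    obtain ⟨x, hx, rfl⟩ := d.exists_L₁ y
    obtain ⟨x', hx', rfl⟩ := d.exists_L₁ y'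
    refine ⟨x ^ 3 * x' ^ 3, L.mul_mem (hcubes x hx) (hcubes x' hx'), ?_⟩
    rw [d.map₅ _ (d.L₀.pow_mem (d.mem_L₁.1 hx).1 3) _ (d.L₀.pow_mem (d.mem_L₁.1 hx').1 3),
      d.π₅_pow (d.mem_L₁.1 hx).1, d.π₅_pow (d.mem_L₁.1 hx').1]
  have hLle : L ≤ d.L₁ := fun x hx => (hLmem.1 hx).1
  have htL : d.t ∈ L := by
    have := hcubes d.t (d.mem_L₁.2 ⟨d.t_mem, rfl⟩)
    rwa [pow_succ, pow_two, d.t_sq, one_mul] at this
  have hcmem : c ∈ L := by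
    have h4 : c ^ 4 = 1 := by rw [show 4 = 2 * 2 from rfl, pow_mul, pow_two c, hc2, pow_two, d.t_sq]
    have := hcubes _ (d.L₁.pow_mem hc 3)
    rwa [← pow_mul, show 3 * 3 = 4 * 2 + 1 from rfl, pow_succ, pow_mul, h4, one_pow, one_mul] at this
  have hwL : d.w ∈ L := by
    obtain ⟨l, hl, hlw⟩ := hsurj (d.π₅ d.w)
    have hwL₀ := d.S_le_L₀ (d.J_le d.w_mem_J)
    have hl1 := hLle hl
    have hlL₀ := (d.mem_L₁.1 hl1).1
    set u := d.w⁻¹ * l with hu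
    have huZ : u ∈ d.Z := by
      refine d.ker_L₁ (d.L₁.mul_mem (d.L₁.inv_mem (d.P_le_L₁ d.w_mem_P)) hl1) ?_
      rw [d.map₅ _ (d.L₀.inv_mem hwL₀) _ hlL₀, d.π₅_inv hwL₀, hlw, inv_mul_cancel]
    have hcl : c * l * c⁻¹ * l ∈ L := L.mul_mem (L.mul_mem (L.mul_mem hcmem hl) (L.inv_mem hcmem)) hl
    have h1 : c * l * c⁻¹ * l = 1 := by
      refine hinj _ hcl ?_
      rw [d.map₅ _ (d.L₀.mul_mem (d.L₀.mul_mem hcL hlL₀) (d.L₀.inv_mem hcL)) _ hlL₀, d.π₅_conj hcL hlL₀, hlw,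
        ← d.π₅_conj hcL hwL₀, hcw, d.π₅_inv hwL₀, inv_mul_cancel]
    have hcu : c * u * c⁻¹ = u := conj_eq_of_commute (d.L₀_Z hcL huZ)
    have hlu : l = d.w * u := by rw [hu, mul_inv_cancel_left]
    have huw : u * d.w = d.w * u := (d.L₀_Z hwL₀ huZ).symm
    have e : u * u = 1 := by
      calc u * u = d.w⁻¹ * (d.w * u) * u := by rw [inv_mul_cancel_left]
        _ = d.w⁻¹ * (u * d.w) * u := by rw [huw]
        _ = d.w⁻¹ * (u * (d.w * u)) := by group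
        _ = c * l * c⁻¹ * l := by rw [hlu, ← conj_mul, hcw, hcu]; group
        _ = 1 := h1
    have h3 : u ^ 3 = 1 := d.Q_exp _ (d.Z_le_Q huZ)
    rw [pow_succ, pow_two, e, one_mul] at h3
    rw [hlu, h3, mul_one] at hl
    exact hl
  exact ⟨{ d with
    c := c, L := L, c_mem := hcmem, c_sq := hc2, c_w := hcw, c_NJ := hcJ, w_mem_L := hwL, t_mem_L := htL
    L_le := fun x hx => (d.mem_L₁.1 (hLle hx)).1
    L_t := fun x hx => (d.mem_L₁.1 (hLle hx)).2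
    L_surj := hsurj, L_inj := hinj
    L_cubes := fun x hx hxt => hcubes x (d.mem_L₁.2 ⟨hx, hxt⟩) }⟩

end Frame

end Cfsg.Agent.McLThree
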