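/-
The elements `g` of order four and `n` exchanging `z` and `w` in `C(t) ∩ M₀`.
-/
import Cfsg.Agent.Lib.McLThree.LevelL

set_option autoImplicit false
set_option maxRecDepth 100000
set_option synthInstance.maxSize 4000
set_option linter.style.longLine false
set_option linter.style.haveILetI false

namespace Cfsg.Agent.McLThree

/-- The data with elements `g`, `n` of `C(t) ∩ M₀`. -/
structure Pair (G : Type*) [Group G] extends Level G where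
  g : G
  n : G
  g_mem : g ∈ M₀
  n_mem : n ∈ M₀
  π_g : π₆ g = g0
  π_n : π₆ n = b0
  g_t : g * t = t * g
  n_t : n * t = t * n
  g_sq : g * g = t
  n_sq : n * n = 1

namespace Level

variable {G : Type*} [Group G] [Finite G] (d : Level G)

theorem exists_P_pow {p : G} (hp : p ∈ d.P) : ∃ i < 3, ∃ j < 3, p = d.z ^ i * d.w ^ j := by
  have hpow : ∀ (x : G), x ^ 3 = 1 → ∀ i : ℕ, x ^ i = x ^ (i % 3) := fun x h i => pow_eq_pow_mod i h
  rw [← d.P_closure] at hp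
  induction hp using Subgroup.closure_induction with
  | mem v hv =>
    rcases hv with rfl | rfl
    · exact ⟨1, by norm_num, 0, by norm_num, by simp⟩
    · exact ⟨0, by norm_num, 1, by norm_num, by simp⟩
  | one => exact ⟨0, by norm_num, 0, by norm_num, by simp⟩
  | mul a b _ _ iha ihb =>
    obtain ⟨i, -, j, -, rfl⟩ := iha
    obtain ⟨i', -, j', -, rfl⟩ := ihb
    refine ⟨(i + i') % 3, Nat.mod_lt _ (by norm_num), (j + j') % 3, Nat.mod_lt _ (by norm_num), ?_⟩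
    rw [← hpow _ d.z_cube, ← hpow _ (d.J_exp _ d.w_mem_J), pow_add, pow_add]
    have hc : Commute (d.w ^ j) (d.z ^ i') :=
      ((show Commute d.w d.z from d.J_comm _ d.w_mem_J _ d.z_mem_J).pow_pow j i')
    calc d.z ^ i * d.w ^ j * (d.z ^ i' * d.w ^ j') = d.z ^ i * (d.w ^ j * d.z ^ i') * d.w ^ j' := by group
      _ = _ := by rw [hc.eq]; group
  | inv a _ iha =>
    obtain ⟨i, -, j, -, rfl⟩ := iha
    refine ⟨(i * 2) % 3, Nat.mod_lt _ (by norm_num), (j * 2) % 3, Nat.mod_lt _ (by norm_num), ?_⟩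
    have hc : Commute (d.z ^ i) (d.w ^ j) :=
      ((show Commute d.z d.w from d.J_comm _ d.z_mem_J _ d.w_mem_J).pow_pow i j)
    rw [← hpow _ d.z_cube, ← hpow _ (d.J_exp _ d.w_mem_J), pow_mul, pow_mul, ← hc.mul_pow, pow_two,
      inv_eq_sq (d.J_exp _ (d.J.mul_mem (d.J.pow_mem d.z_mem_J i) (d.J.pow_mem d.w_mem_J j)))]

theorem P_inf_A {p : G} (hp : p ∈ d.P) (hA : p ∈ d.A) : p ∈ d.Z := by
  obtain ⟨i, hi, j, hj, rfl⟩ := d.exists_P_pow hp
  have hw : d.w ^ j ∈ d.A := by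
    have := d.A.mul_mem (d.A.inv_mem (d.A.pow_mem d.z_mem_A i)) hA
    rwa [inv_mul_cancel_left] at this
  interval_cases j
  · rw [pow_zero, mul_one]; exact d.Z.pow_mem d.z_mem_Z i
  · rw [pow_one] at hw; exact absurd hw d.w_notMem_A
  · refine absurd ?_ d.w_notMem_A
    rw [pow_two, ← inv_eq_sq (d.J_exp _ d.w_mem_J)] at hw
    exact inv_mem_iff.1 hw

theorem exists_A_decomp {a : G} (ha : a ∈ d.A) : ∃ u ∈ d.Z, ∃ e ∈ d.E, a = u * e := by
  obtain ⟨p, hp, e, he, rfl⟩ := d.exists_decomp (d.A_le_J ha)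
  refine ⟨p, d.P_inf_A hp ?_, e, he, rfl⟩
  have := d.A.mul_mem ha (d.A.inv_mem (d.mem_E.1 he).1)
  rwa [mul_inv_cancel_right] at this

/-- Centralizing a non-singular element of `J` outside `A` forces membership in `J`. -/
theorem mem_A_of_fix {s x : G} (hs : s ∈ (d.S : Subgroup G)) (hsJ : s ∉ d.J) (hx : x ∈ d.J)
    (h : s * x = x * s) : x ∈ d.A := by
  by_contra hxA
  have hxQ : x ∉ d.Q := fun h' => hxA ⟨hx, h'⟩
  refine hsJ ?_
  rcases d.S_decomp (d.J_le hx) hxQ hs with h' | h' | h'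
  · refine d.A_le_J (d.fix_le_A (d.J_le hx) hxQ h' ?_)
    rw [conj_eq_of_commute h.symm, mul_inv_cancel]; exact d.Z.one_mem
  · have hm := d.fix_le_A (d.J_le hx) hxQ h' (by
      rw [conj_eq_of_commute ((show Commute x s from h.symm).mul_right (Commute.refl x).inv_right).eq,
        mul_inv_cancel]
      exact d.Z.one_mem)
    have := d.J.mul_mem (d.A_le_J hm) hx
    rwa [inv_mul_cancel_right] at this
  · have hm := d.fix_le_A (d.J_le hx) hxQ h' (by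
      rw [conj_eq_of_commute ((show Commute x s from h.symm).mul_right (Commute.refl x)).eq, mul_inv_cancel]
      exact d.Z.one_mem)
    have := d.J.mul_mem (d.A_le_J hm) (d.J.inv_mem hx)
    rwa [mul_inv_cancel_right] at this

include d in
theorem exists_pair : Nonempty (Pair G) := by
  classical
  obtain ⟨x, hx, hxπ⟩ := d.surj₆ g0
  obtain ⟨hg1, hg2, -, hb2, hbg, -⟩ := g0_normP0
  have hm := d.m_mem
  have hxz : x * d.z * x⁻¹ ∈ d.Z := (d.normP0_iff hx).1 (hxπ ▸ hg1)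
  have hxw : x * d.w * x⁻¹ = d.w ∨ x * d.w * x⁻¹ = d.w⁻¹ := by
    have hy : d.m * x * d.m ∈ d.M₀ := d.M₀.mul_mem (d.M₀.mul_mem hm hx) hm
    have hyz := (d.normP0_iff hy).1 (by
      rw [d.map₆ _ (d.M₀.mul_mem hm hx) _ hm, d.map₆ _ hm _ hx, d.π_m, hxπ]; exact hg2)
    have e : x * d.w * x⁻¹ = d.m * (d.m * x * d.m * d.z * (d.m * x * d.m)⁻¹) * d.m⁻¹ := by
      rw [← d.m_z]
      calc x * (d.m * d.z * d.m⁻¹) * x⁻¹
          = (d.m * d.m) * x * d.m * d.z * d.m⁻¹ * x⁻¹ * (d.m * d.m)⁻¹ := by rw [d.m_sq]; group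
        _ = _ := by group
    rcases three_cases d.z_cube hyz with h | h | h
    · exact absurd (conj_eq_one_iff.1 h) d.z_ne
    · exact Or.inl (by rw [e, h, d.m_z])
    · exact Or.inr (by rw [e, h, ← conj_inv, d.m_z])
  have hxz' : x * d.z * x⁻¹ = d.z ∨ x * d.z * x⁻¹ = d.z⁻¹ := by
    rcases three_cases d.z_cube hxz with h | h | h
    exacts [absurd (conj_eq_one_iff.1 h) d.z_ne, Or.inl h, Or.inr h]
  have hxx := d.M₀.mul_mem hx hx
  have haz : x * x * d.z * (x * x)⁻¹ = d.z := by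
    calc x * x * d.z * (x * x)⁻¹ = x * (x * d.z * x⁻¹) * x⁻¹ := by group
      _ = d.z := by
        rcases hxz' with h | h
        · rw [h, h]
        · rw [h, ← conj_inv, h, inv_inv]
  have haw : x * x * d.w * (x * x)⁻¹ = d.w := by
    calc x * x * d.w * (x * x)⁻¹ = x * (x * d.w * x⁻¹) * x⁻¹ := by group
      _ = d.w := by
        rcases hxw with h | h
        · rw [h, h]
        · rw [h, ← conj_inv, h, inv_inv]
  have hwS := d.J_le d.w_mem_J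
  choose f hf hfπ using fun p : P0 => d.exists_S (mem_P0.1 p.2)
  choose fu hfu fe hfe hff using fun p : P0 => d.exists_A_decomp (d.J_comm_A (hf p) d.w_mem_J)
  have hinj : Function.Injective (fun p : P0 => (⟨fe p, hfe p⟩ : d.E)) := by
    intro p q h
    have h' : fe p = fe q := congrArg Subtype.val h
    set u := (f q)⁻¹ * f p with hu
    have huS : u ∈ (d.S : Subgroup G) := Subgroup.mul_mem _ (Subgroup.inv_mem _ (hf q)) (hf p)
    have hζ : d.w * u * d.w⁻¹ * u⁻¹ ∈ d.Z := by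
      have hr : (fu q)⁻¹ * fu p ∈ d.Z := d.Z.mul_mem (d.Z.inv_mem (hfu q)) (hfu p)
      have e : u * d.w * u⁻¹ * d.w⁻¹ = (fu q)⁻¹ * fu p := by
        set ζ := (fu q)⁻¹ * fu p
        have e1 : f p * d.w * (f p)⁻¹ * d.w⁻¹ = ζ * (f q * d.w * (f q)⁻¹ * d.w⁻¹) := by
          rw [hff p, hff q, h']
          calc fu p * fe q = (fu q * ((fu q)⁻¹ * fu p)) * fe q := by group
            _ = _ := by
              rw [d.L₀_Z (d.Q_le_L₀ (d.Z_le_Q (hfu q))) hr]; group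
        calc u * d.w * u⁻¹ * d.w⁻¹ = (f q)⁻¹ * (f p * d.w * (f p)⁻¹ * d.w⁻¹ * d.w) * f q * d.w⁻¹ := by
              rw [hu]; group
          _ = (f q)⁻¹ * ζ * f q := by rw [e1]; group
          _ = ζ := by
              have := conj_eq_of_commute (d.L₀_Z (d.L₀.inv_mem (d.S_le_L₀ (hf q))) hr)
              rwa [inv_inv] at this
      have := d.Z.inv_mem (e ▸ hr)
      rwa [show (u * d.w * u⁻¹ * d.w⁻¹)⁻¹ = d.w * u * d.w⁻¹ * u⁻¹ by group] at this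
    have huJ : u ∈ d.J := by
      have hwQ : d.w ∉ d.Q := fun h => d.w_notMem_A ⟨d.w_mem_J, h⟩
      rcases d.S_decomp hwS hwQ huS with h0 | h0 | h0
      · exact d.A_le_J (d.fix_le_A hwS hwQ h0 hζ)
      · have := d.J.mul_mem (d.A_le_J (d.fix_le_A hwS hwQ h0 (by
          rwa [show d.w * (u * d.w⁻¹) * d.w⁻¹ * (u * d.w⁻¹)⁻¹ = d.w * u * d.w⁻¹ * u⁻¹ by group]))) d.w_mem_J
        rwa [inv_mul_cancel_right] at this
      · have := d.J.mul_mem (d.A_le_J (d.fix_le_A hwS hwQ h0 (by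
          rwa [show d.w * (u * d.w) * d.w⁻¹ * (u * d.w)⁻¹ = d.w * u * d.w⁻¹ * u⁻¹ by group]))) (d.J.inv_mem d.w_mem_J)
        rwa [mul_inv_cancel_right] at this
    have := (d.π₆_eq_iff (d.S_le_M₀ (hf q)) (d.S_le_M₀ (hf p))).2 huJ
    rw [hfπ, hfπ] at this
    exact Subtype.ext this.symm
  have haE : ∀ e ∈ d.E, x * x * e * (x * x)⁻¹ = e⁻¹ := by
    intro e he
    obtain ⟨p, hp⟩ := (hinj.bijective_of_nat_card_le (by rw [card_P0, d.card_E])).2 ⟨e, he⟩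
    have hpe : fe p = e := congrArg Subtype.val hp
    set s := f p
    set v := s * d.w * s⁻¹ * d.w⁻¹ with hv
    have hs := hf p
    have hsM := d.S_le_M₀ hs
    have hav : x * x * v * (x * x)⁻¹ = s⁻¹ * v⁻¹ * s⁻¹⁻¹ := by
      calc x * x * v * (x * x)⁻¹
          = x * x * s * (x * x)⁻¹ * (x * x * d.w * (x * x)⁻¹) * (x * x * s * (x * x)⁻¹)⁻¹
            * (x * x * d.w * (x * x)⁻¹)⁻¹ := by rw [hv]; group
        _ = (x * x * s * (x * x)⁻¹) * d.w * (x * x * s * (x * x)⁻¹)⁻¹ * d.w⁻¹ := by rw [haw]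
        _ = s⁻¹ * d.w * s⁻¹⁻¹ * d.w⁻¹ := by
          rw [d.act_eq (d.M₀.mul_mem (d.M₀.mul_mem hxx hsM) (d.M₀.inv_mem hxx)) (d.M₀.inv_mem hsM) (by
            rw [d.π₆_conj hxx hsM, d.map₆ x hx x hx, hxπ, hfπ, d.π₆_inv hsM, hfπ]
            exact sq_g0_invert _ (mem_P0.1 p.2)) d.w_mem_J]
        _ = _ := by rw [hv]; group
    have hvA : v ∈ d.A := d.J_comm_A hs d.w_mem_J
    have h1 : s⁻¹ * v⁻¹ * s⁻¹⁻¹ * v⁻¹⁻¹ ∈ d.Z := d.S_A_comm (Subgroup.inv_mem _ hs) (d.A.inv_mem hvA)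
    rw [← hav, inv_inv] at h1
    have hu := hfu p
    have hvd : v = fu p * e := by rw [hv, hff p, hpe]
    have hau : x * x * fu p * (x * x)⁻¹ = fu p := by
      obtain ⟨k, hk⟩ := Subgroup.mem_zpowers_iff.1 hu
      rw [← hk, ← conj_zpow, haz]
    have hyE : x * x * e * (x * x)⁻¹ ∈ d.E :=
      d.conj_E (Subgroup.mul_mem _ (d.M₀_le hx) (d.M₀_le hx)) (Or.inl haz) (Or.inl haw) he
    have h2 : x * x * e * (x * x)⁻¹ * e ∈ d.Z := by
      rw [hvd, ← conj_mul, hau] at h1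
      have := d.Z.mul_mem (d.Z.inv_mem (d.Z.mul_mem hu hu)) h1
      rwa [show (fu p * fu p)⁻¹ * (fu p * (x * x * e * (x * x)⁻¹) * (fu p * e)) = x * x * e * (x * x)⁻¹ * e from ?_] at this
      set y := x * x * e * (x * x)⁻¹
      have hyc : y * fu p = fu p * y := d.L₀_Z (d.S_le_L₀ (d.J_le (d.E_le_J hyE))) hu
      calc (fu p * fu p)⁻¹ * (fu p * y * (fu p * e)) = (fu p)⁻¹ * (y * fu p) * e := by group
        _ = y * e := by rw [hyc]; group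
    refine eq_inv_of_mul_eq_one_left ?_
    have h3 := d.E.mul_mem hyE he
    rcases three_cases d.z_cube h2 with h | h | h
    · exact h
    · exact absurd (h ▸ h3) d.z_notMem_E
    · exact absurd (inv_mem_iff.1 (h ▸ h3)) d.z_notMem_E
  -- `t` lies in `M₀`
  have hat : x * x * d.t ∈ d.J := by
    refine d.eq_of_action ?_ ?_ fun e he => ?_
    · exact ((show Commute (x * x) d.z from commute_of_conj_eq haz).mul_left d.t_z).eq
    · exact ((show Commute (x * x) d.w from commute_of_conj_eq haw).mul_left d.t_w').eq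
    · refine commute_of_conj_eq ?_
      calc x * x * d.t * e * (x * x * d.t)⁻¹ = x * x * (d.t * e * d.t⁻¹) * (x * x)⁻¹ := by group
        _ = e := by rw [d.t_conj_E he, ← conj_inv, haE e he, inv_inv]
  have htM : d.t ∈ d.M₀ := by
    have := d.M₀.mul_mem (d.M₀.inv_mem hxx) (d.J_le_M₀ hat)
    rwa [inv_mul_cancel_left] at this
  have hπt : d.π₆ d.t = g0 * g0 := by
    have h := (d.ker₆ _ (d.M₀.mul_mem hxx htM)).2 hat
    rw [d.map₆ _ hxx _ htM, d.map₆ _ hx _ hx, hxπ, mul_eq_one_iff_inv_eq] at h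
    rw [← h]
    exact (by decide +kernel : (g0 * g0)⁻¹ = g0 * g0)
  -- adjusting to commute with `t`
  have adjust : ∀ y ∈ d.M₀, d.π₆ y * (g0 * g0) * (d.π₆ y)⁻¹ = g0 * g0 →
      ∃ y' ∈ d.M₀, d.π₆ y' = d.π₆ y ∧ y' * d.t = d.t * y' := by
    intro y hy hyπ
    have hy2 : y * d.t * y⁻¹ * (y * d.t * y⁻¹) = 1 := by
      calc y * d.t * y⁻¹ * (y * d.t * y⁻¹) = y * (d.t * d.t) * y⁻¹ := by group
        _ = 1 := by rw [d.t_sq, mul_one, mul_inv_cancel]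
    set k := d.t * (y * d.t * y⁻¹) with hk
    have hkJ : k ∈ d.J := by
      refine (d.ker₆ _ (d.M₀.mul_mem htM (d.M₀.mul_mem (d.M₀.mul_mem hy htM) (d.M₀.inv_mem hy)))).1 ?_
      rw [d.map₆ _ htM _ (d.M₀.mul_mem (d.M₀.mul_mem hy htM) (d.M₀.inv_mem hy)), d.π₆_conj hy htM, hπt, hyπ]
      decide +kernel
    have hc := involution_conj d.t_sq hy2 (d.J_exp _ hkJ)
    rw [← hk] at hc
    refine ⟨k⁻¹ * y, d.M₀.mul_mem (d.M₀.inv_mem (d.J_le_M₀ hkJ)) hy, ?_, ?_⟩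
    · rw [d.map₆ _ (d.M₀.inv_mem (d.J_le_M₀ hkJ)) _ hy, d.π₆_inv (d.J_le_M₀ hkJ),
        (d.ker₆ _ (d.J_le_M₀ hkJ)).2 hkJ, inv_one, one_mul]
    · calc k⁻¹ * y * d.t = k⁻¹ * (y * d.t * y⁻¹) * y := by group
        _ = k⁻¹ * (k * d.t * k⁻¹) * y := by rw [hc]
        _ = d.t * (k⁻¹ * y) := by group
  obtain ⟨g₁, hg₁, hg₁π, hg₁t⟩ := adjust x hx (by rw [hxπ]; decide +kernel)
  obtain ⟨n₁, hn₁, hn₁π, hn₁t⟩ := adjust d.m hm (by rw [d.π_m]; decide +kernel)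
  have hg4 : g₁ ^ 4 ∈ d.J := (d.ker₆ _ (d.M₀.pow_mem hg₁ 4)).1 (by
    rw [d.π₆_pow hg₁, hg₁π, hxπ]; exact g0_normP0.2.2.2.2.2)
  obtain ⟨hg9, -⟩ := two_part d.J_exp hg4
  have hgt : g₁ ^ 9 * d.t = d.t * g₁ ^ 9 := ((show Commute g₁ d.t from hg₁t).pow_left 9).eq
  have hgπ : d.π₆ (g₁ ^ 9) = g0 := by rw [d.π₆_pow hg₁, hg₁π, hxπ]; decide +kernel
  have hn2 : n₁ ^ 2 ∈ d.J := (d.ker₆ _ (d.M₀.pow_mem hn₁ 2)).1 (by rw [d.π₆_pow hn₁, hn₁π, d.π_m, pow_two, hb2])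
  refine ⟨{ d with
    g := g₁ ^ 9, n := n₁ ^ 3, g_mem := d.M₀.pow_mem hg₁ 9, n_mem := d.M₀.pow_mem hn₁ 3, π_g := hgπ
    π_n := by rw [d.π₆_pow hn₁, hn₁π, d.π_m, pow_succ, pow_two, hb2, one_mul]
    g_t := hgt, n_t := ((show Commute n₁ d.t from hn₁t).pow_left 3).eq
    g_sq := ?_
    n_sq := by rw [← pow_two, ← pow_mul, show 3 * 2 = 2 * 3 from rfl, pow_mul, d.J_exp _ hn2] }⟩
  set g := g₁ ^ 9
  have hgM := d.M₀.pow_mem hg₁ 9
  set i := g * g * d.t with hi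
  have hiJ : i ∈ d.J := by
    refine (d.ker₆ _ (d.M₀.mul_mem (d.M₀.mul_mem hgM hgM) htM)).1 ?_
    rw [d.map₆ _ (d.M₀.mul_mem hgM hgM) _ htM, d.map₆ _ hgM _ hgM, hgπ, hπt]
    decide +kernel
  have hi2 : i * i = 1 := by
    have hc : Commute (g * g) d.t := (show Commute g d.t from hgt).mul_left hgt
    calc i * i = (g * g) * (d.t * (g * g)) * d.t := by rw [hi]; group
      _ = (g ^ 4) * (d.t * d.t) := by rw [← hc.eq]; simp only [pow_succ, pow_zero, one_mul, mul_assoc]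
      _ = 1 := by rw [hg9, d.t_sq, one_mul]
  have h1 := d.eq_one_of_sq hiJ hi2
  rw [hi, mul_eq_one_iff_eq_inv, d.t_inv] at h1
  exact h1

end Level

namespace Pair

variable {G : Type*} [Group G] [Finite G] (d : Pair G)

theorem t_mem_M₀ : d.t ∈ d.M₀ := d.g_sq ▸ d.M₀.mul_mem d.g_mem d.g_mem

theorem π_t₆ : d.π₆ d.t = g0 * g0 := by
  rw [show d.t = d.g * d.g from d.g_sq.symm, d.map₆ _ d.g_mem _ d.g_mem, d.π_g]

theorem n_inv : d.n⁻¹ = d.n := inv_eq_of_mul_eq_one_right d.n_sq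

theorem n_z : d.n * d.z * d.n⁻¹ = d.w := by
  rw [d.act_eq d.n_mem d.m_mem (by rw [d.π_n, d.π_m]) d.z_mem_J, d.m_z]

theorem n_w : d.n * d.w * d.n⁻¹ = d.z := by
  rw [d.act_eq d.n_mem d.m_mem (by rw [d.π_n, d.π_m]) d.w_mem_J, d.m_w]

theorem n_zw : d.n * (d.z * d.w) * d.n⁻¹ = d.z * d.w := by
  rw [← conj_mul, d.n_z, d.n_w, d.J_comm _ d.w_mem_J _ d.z_mem_J]

/-- `g` inverts `z` and `w`. -/
theorem g_z_w : d.g * d.z * d.g⁻¹ = d.z⁻¹ ∧ d.g * d.w * d.g⁻¹ = d.w⁻¹ := by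
  classical
  obtain ⟨hg1, -, -, -, hbg, -⟩ := g0_normP0
  have hgM := d.g_mem
  have hnM := d.n_mem
  have hgz : d.g * d.z * d.g⁻¹ = d.z ∨ d.g * d.z * d.g⁻¹ = d.z⁻¹ := by
    rcases three_cases d.z_cube ((d.normP0_iff hgM).1 (d.π_g ▸ hg1)) with h | h | h
    exacts [absurd (conj_eq_one_iff.1 h) d.z_ne, Or.inl h, Or.inr h]
  have hgw : d.g * d.w * d.g⁻¹ = d.n * (d.g⁻¹ * d.z * d.g⁻¹⁻¹) * d.n⁻¹ := by
    calc d.g * d.w * d.g⁻¹ = d.n * d.g⁻¹ * d.n * d.w * (d.n * d.g⁻¹ * d.n)⁻¹ :=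
          d.act_eq hgM (d.M₀.mul_mem (d.M₀.mul_mem hnM (d.M₀.inv_mem hgM)) hnM) (by
            rw [d.map₆ _ (d.M₀.mul_mem hnM (d.M₀.inv_mem hgM)) _ hnM, d.map₆ _ hnM _ (d.M₀.inv_mem hgM),
              d.π₆_inv hgM, d.π_n, d.π_g]
            decide +kernel) d.w_mem_J
      _ = d.n * (d.g⁻¹ * (d.n * d.w * d.n⁻¹) * d.g⁻¹⁻¹) * d.n⁻¹ := by group
      _ = _ := by rw [d.n_w]
  rcases hgz with h | h
  swap
  · refine ⟨h, ?_⟩
    have h' : d.g⁻¹ * d.z * d.g⁻¹⁻¹ = d.z⁻¹ := by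
      calc d.g⁻¹ * d.z * d.g⁻¹⁻¹ = (d.g⁻¹ * d.z⁻¹ * d.g⁻¹⁻¹)⁻¹ := by rw [← conj_inv, inv_inv]; simp
        _ = (d.g⁻¹ * (d.g * d.z * d.g⁻¹) * d.g⁻¹⁻¹)⁻¹ := by rw [h]
        _ = d.z⁻¹ := by group
    rw [hgw, h', ← conj_inv, d.n_z]
  exfalso
  have h' : d.g⁻¹ * d.z * d.g⁻¹⁻¹ = d.z :=
    conj_eq_of_commute (show Commute d.g⁻¹ d.z from (show Commute d.g d.z from commute_of_conj_eq h).inv_left).eq
  rw [h', d.n_z] at hgw
  set x := d.z * d.w with hx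
  have hxJ : x ∈ d.J := d.J.mul_mem d.z_mem_J d.w_mem_J
  have hxP : x ∈ d.P := d.P.mul_mem d.z_mem_P d.w_mem_P
  have hgx : d.g * x * d.g⁻¹ = x := by rw [hx, ← conj_mul, h, hgw]
  have hsM := d.M₀.mul_mem hgM hnM
  obtain ⟨hq3, hq1, -, -, -⟩ := q0_facts
  obtain ⟨q, hq, hqπ⟩ := d.surj₆ q0
  have hqM := hq
  -- `q` fixes `zw`
  have hfix : ∀ u ∈ d.M₀, d.π₆ u ∈ [g0 * g0, b0, g0 * g0 * b0] → u * x * u⁻¹ = x := by
    intro u hu hu'
    simp only [List.mem_cons, List.not_mem_nil, or_false] at hu'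
    have htx : d.t * x * d.t⁻¹ = x := conj_eq_of_commute (d.mem_P.1 hxP).2.symm
    rcases hu' with e | e | e
    · rw [d.act_eq hu d.t_mem_M₀ (by rw [e, d.π_t₆]) hxJ]; exact htx
    · rw [d.act_eq hu hnM (by rw [e, d.π_n]) hxJ]; exact d.n_zw
    · rw [d.act_eq hu (d.M₀.mul_mem d.t_mem_M₀ hnM) (by rw [e, d.map₆ _ d.t_mem_M₀ _ hnM, d.π_t₆, d.π_n]) hxJ]
      calc d.t * d.n * x * (d.t * d.n)⁻¹ = d.t * (d.n * x * d.n⁻¹) * d.t⁻¹ := by group
        _ = x := by rw [d.n_zw, htx]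
  set v := q * x * q⁻¹ with hv
  have hvfix : ∀ u ∈ d.M₀, (q0⁻¹ * d.π₆ u * q0) ∈ [g0 * g0, b0, g0 * g0 * b0] → u * v * u⁻¹ = v := by
    intro u hu hu'
    have := hfix (q⁻¹ * u * q) (d.M₀.mul_mem (d.M₀.mul_mem (d.M₀.inv_mem hq) hu) hq)
      (by rw [d.map₆ _ (d.M₀.mul_mem (d.M₀.inv_mem hq) hu) _ hq, d.map₆ _ (d.M₀.inv_mem hq) _ hu,
        d.π₆_inv hq, hqπ]; exact hu')
    calc u * v * u⁻¹ = q * (q⁻¹ * u * q * x * (q⁻¹ * u * q)⁻¹) * q⁻¹ := by rw [hv]; group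
      _ = v := by rw [this]
  have hvJ : v ∈ d.J := d.conj_J hq hxJ
  have hvP : v ∈ d.P :=
    d.mem_P.2 ⟨hvJ, (commute_of_conj_eq (hvfix _ d.t_mem_M₀ (by rw [d.π_t₆]; decide +kernel))).symm⟩
  have hnv : d.n * v * d.n⁻¹ = v := hvfix _ hnM (by rw [d.π_n]; decide +kernel)
  have hvns : ¬ d.Sg v := fun hs => d.not_sg_zw (by
    have := d.sg_conj (g := q⁻¹) hs (by rw [hv, show q⁻¹ * (q * x * q⁻¹) * q⁻¹⁻¹ = x by group]; exact hxJ)
    rwa [hv, show q⁻¹ * (q * x * q⁻¹) * q⁻¹⁻¹ = x by group] at this)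
  have hvx : v = x := by
    obtain ⟨i, hi, j, hj, hij⟩ := d.exists_P_pow hvP
    have hnij : d.n * v * d.n⁻¹ = d.z ^ j * d.w ^ i := by
      rw [hij, ← conj_mul, ← conj_pow, ← conj_pow, d.n_z, d.n_w]
      exact ((show Commute d.w d.z from d.J_comm _ d.w_mem_J _ d.z_mem_J).pow_pow i j).eq
    rw [hnv, hij] at hnij
    have hij' : i = j := by
      by_contra hne
      have hP : ∀ a b : ℕ, d.z ^ a * d.w ^ b = 1 → d.w ^ b ∈ d.Z := fun a b h => by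
        rw [eq_inv_of_mul_eq_one_right h]; exact d.Z.inv_mem (d.Z.pow_mem d.z_mem_Z a)
      have hwb : ∀ b, d.w ^ b ∈ d.Z → 3 ∣ b := by
        intro b hb
        by_contra hb3
        refine d.w_notMem_Z ?_
        have h3 : d.w ^ 3 = 1 := d.J_exp _ d.w_mem_J
        rcases (show b % 3 = 1 ∨ b % 3 = 2 by omega) with e | e
        · rwa [pow_eq_pow_mod b h3, e, pow_one] at hb
        · rw [pow_eq_pow_mod b h3, e, pow_two, ← inv_eq_sq h3] at hb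
          exact inv_mem_iff.1 hb
      have e : d.z ^ (i + 2 * j) * d.w ^ (j + 2 * i) = 1 := by
        have h3z : ∀ a, (d.z ^ a) ^ 3 = 1 := fun a => by rw [← pow_mul, mul_comm, pow_mul, d.z_cube, one_pow]
        have h3w : ∀ a, (d.w ^ a) ^ 3 = 1 := fun a => by
          rw [← pow_mul, mul_comm, pow_mul, d.J_exp _ d.w_mem_J, one_pow]
        have hc : Commute (d.z ^ (2 * j)) (d.w ^ j) :=
          (show Commute d.z d.w from d.J_comm _ d.z_mem_J _ d.w_mem_J).pow_pow _ _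
        rw [show d.z ^ (i + 2 * j) * d.w ^ (j + 2 * i) = d.z ^ (2 * j) * (d.z ^ i * d.w ^ j) * d.w ^ (2 * i) by
          rw [add_comm i, pow_add, pow_add]; group, hnij,
          show d.z ^ (2 * j) * (d.z ^ j * d.w ^ i) * d.w ^ (2 * i) = (d.z ^ j) ^ 3 * (d.w ^ i) ^ 3 by
          rw [← mul_assoc, ← pow_add, mul_assoc, ← pow_add, ← pow_mul, ← pow_mul]
          congr 2 <;> omega, h3z, h3w, one_mul]
      have := hwb _ (hP _ _ e)
      omega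
    subst hij'
    have hc : d.z ^ i * d.w ^ i = x ^ i :=
      ((show Commute d.z d.w from d.J_comm _ d.z_mem_J _ d.w_mem_J).mul_pow i).symm
    rw [hc] at hij
    interval_cases i
    · rw [pow_zero] at hij
      exact absurd (hij ▸ hv) (fun h => d.zw_ne_one (conj_eq_one_iff.1 h.symm))
    · rw [hij, pow_one]
    · exfalso
      rw [pow_two, ← inv_eq_sq (d.J_exp _ hxJ)] at hij
      have h3 : q * q * q * x * (q * q * q)⁻¹ = x := by
        rw [d.act_eq (d.M₀.mul_mem (d.M₀.mul_mem hq hq) hq) d.M₀.one_mem (by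
          rw [d.map₆ _ (d.M₀.mul_mem hq hq) _ hq, d.map₆ _ hq _ hq, hqπ, d.π₆_one,
            show q0 * q0 * q0 = q0 ^ 3 by simp only [pow_succ, pow_zero, one_mul], hq3]) hxJ]
        group
      have hq1' : q * x * q⁻¹ = x⁻¹ := hij
      have : q * q * q * x * (q * q * q)⁻¹ = x⁻¹ := by
        calc q * q * q * x * (q * q * q)⁻¹ = q * (q * (q * x * q⁻¹) * q⁻¹) * q⁻¹ := by group
          _ = x⁻¹ := by rw [hq1', ← conj_inv, hq1', inv_inv, hq1']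
      rw [h3] at this
      exact d.zw_ne_one (d.eq_one_of_sq hxJ (mul_eq_one_iff_eq_inv.2 this))
  -- coordinates at the point of `q`
  obtain ⟨k0, hk0, y0, hy0, hy02⟩ := q0_sylow
  obtain ⟨k, hk, rfl⟩ := d.surj₆ k0
  obtain ⟨y, hy, rfl⟩ := d.surj₆ y0
  set q' := k⁻¹ * q * k with hq'
  have hq'M : q' ∈ d.M₀ := d.M₀.mul_mem (d.M₀.mul_mem (d.M₀.inv_mem hk) hq) hk
  have hq'π : d.π₆ q' = (d.π₆ k)⁻¹ * q0 * d.π₆ k := by
    rw [hq', d.map₆ _ (d.M₀.mul_mem (d.M₀.inv_mem hk) hq) _ hk, d.map₆ _ (d.M₀.inv_mem hk) _ hq, d.π₆_inv hk, hqπ]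
  have hq'S : q' ∈ (d.S : Subgroup G) := d.mem_S_of_π₆ hq'M (hq'π ▸ hk0)
  have hq'J : q' ∉ d.J := by
    intro h
    have := (d.ker₆ _ hq'M).2 h
    rw [hq'π] at this
    refine hq1 ?_
    calc q0 = d.π₆ k * ((d.π₆ k)⁻¹ * q0 * d.π₆ k) * (d.π₆ k)⁻¹ := by group
      _ = 1 := by rw [this]; group
  set x' := k⁻¹ * x * k with hx'
  have hx'J : x' ∈ d.J := by
    have := d.conj_J (d.M₀.inv_mem hk) hxJ
    rwa [inv_inv] at this
  have hx'A : x' ∈ d.A := by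
    refine d.mem_A_of_fix hq'S hq'J hx'J (commute_of_conj_eq ?_)
    calc q' * x' * q'⁻¹ = k⁻¹ * (q * x * q⁻¹) * k := by rw [hq', hx']; group
      _ = x' := by rw [← hv, hvx]
  set s' := k⁻¹ * (d.g * d.n) * k with hs'
  have hs'M : s' ∈ d.M₀ := d.M₀.mul_mem (d.M₀.mul_mem (d.M₀.inv_mem hk) hsM) hk
  have hsx : s' * x' * s'⁻¹ = x' := by
    calc s' * x' * s'⁻¹ = k⁻¹ * (d.g * (d.n * x * d.n⁻¹) * d.g⁻¹) * k := by rw [hs', hx']; group
      _ = x' := by rw [d.n_zw, hgx]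
  have hsz : s' * d.z * s'⁻¹ = d.z := by
    set y' := k⁻¹ * y * k with hy'
    have hy'M : y' ∈ d.M₀ := d.M₀.mul_mem (d.M₀.mul_mem (d.M₀.inv_mem hk) hy) hk
    have hy'z := (d.normP0_iff hy'M).1 (by
      rw [hy', d.map₆ _ (d.M₀.mul_mem (d.M₀.inv_mem hk) hy) _ hk, d.map₆ _ (d.M₀.inv_mem hk) _ hy,
        d.π₆_inv hk]; exact hy0)
    calc s' * d.z * s'⁻¹ = y' * y' * d.z * (y' * y')⁻¹ := d.act_eq hs'M (d.M₀.mul_mem hy'M hy'M) (by
          rw [hs', hy', d.map₆ _ (d.M₀.mul_mem (d.M₀.inv_mem hk) hsM) _ hk, d.map₆ _ (d.M₀.inv_mem hk) _ hsM,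
            d.π₆_inv hk, d.map₆ _ hgM _ hnM, d.π_g, d.π_n, ← hy02,
            d.map₆ _ (d.M₀.mul_mem (d.M₀.mul_mem (d.M₀.inv_mem hk) hy) hk) _
              (d.M₀.mul_mem (d.M₀.mul_mem (d.M₀.inv_mem hk) hy) hk),
            d.map₆ _ (d.M₀.mul_mem (d.M₀.inv_mem hk) hy) _ hk, d.map₆ _ (d.M₀.inv_mem hk) _ hy, d.π₆_inv hk]
          group) d.z_mem_J
      _ = y' * (y' * d.z * y'⁻¹) * y'⁻¹ := by group
      _ = d.z := by
          rcases three_cases d.z_cube hy'z with e | e | e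
          · exact absurd (conj_eq_one_iff.1 e) d.z_ne
          · rw [e, e]
          · rw [e, ← conj_inv, e, inv_inv]
  -- `C_J(s')` is a conjugate of `P`
  obtain ⟨h0, hh0⟩ := involutions_conj (d.π₆ s') (by
      have hs'2 : d.π₆ s' = (d.π₆ k)⁻¹ * (g0 * b0) * d.π₆ k := by
        rw [hs', d.map₆ _ (d.M₀.mul_mem (d.M₀.inv_mem hk) hsM) _ hk, d.map₆ _ (d.M₀.inv_mem hk) _ hsM,
          d.π₆_inv hk, d.map₆ _ hgM _ hnM, d.π_g, d.π_n]
      rw [hs'2]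
      calc (d.π₆ k)⁻¹ * (g0 * b0) * d.π₆ k * ((d.π₆ k)⁻¹ * (g0 * b0) * d.π₆ k)
          = (d.π₆ k)⁻¹ * (g0 * b0 * (g0 * b0)) * d.π₆ k := by group
        _ = 1 := by rw [show g0 * b0 * (g0 * b0) = 1 by decide +kernel]; group)
    (by
      intro e
      have : d.π₆ s' = (d.π₆ k)⁻¹ * (g0 * b0) * d.π₆ k := by
        rw [hs', d.map₆ _ (d.M₀.mul_mem (d.M₀.inv_mem hk) hsM) _ hk, d.map₆ _ (d.M₀.inv_mem hk) _ hsM,
          d.π₆_inv hk, d.map₆ _ hgM _ hnM, d.π_g, d.π_n]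
      rw [this] at e
      refine (by decide +kernel : g0 * b0 ≠ 1) ?_
      calc g0 * b0 = d.π₆ k * ((d.π₆ k)⁻¹ * (g0 * b0) * d.π₆ k) * (d.π₆ k)⁻¹ := by group
        _ = 1 := by rw [e]; group)
  obtain ⟨l, hl, rfl⟩ := d.surj₆ h0
  have hP' : ∀ u ∈ d.J, s' * u * s'⁻¹ = u → l⁻¹ * u * l ∈ d.P := by
    intro u hu hsu
    have hu' : l⁻¹ * u * l ∈ d.J := by
      have := d.conj_J (d.M₀.inv_mem hl) hu
      rwa [inv_inv] at this
    refine d.mem_P.2 ⟨hu', (commute_of_conj_eq ?_).symm⟩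
    have e : s' * u * s'⁻¹ = l * d.t * l⁻¹ * u * (l * d.t * l⁻¹)⁻¹ :=
      d.act_eq hs'M (d.M₀.mul_mem (d.M₀.mul_mem hl d.t_mem_M₀) (d.M₀.inv_mem hl))
        (by rw [← hh0, d.π₆_conj hl d.t_mem_M₀, d.π_t₆]) hu
    calc d.t * (l⁻¹ * u * l) * d.t⁻¹ = l⁻¹ * (l * d.t * l⁻¹ * u * (l * d.t * l⁻¹)⁻¹) * l := by group
      _ = _ := by rw [← e, hsu]
  set U := Subgroup.closure {d.z, x'} with hU
  have hUA : U ≤ d.A := by
    rw [hU, Subgroup.closure_le]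
    rintro u (rfl | rfl)
    exacts [d.z_mem_A, hx'A]
  have hUP : U.map (MulAut.conj l⁻¹).toMonoidHom ≤ d.P := by
    rw [hU, MonoidHom.map_closure, Subgroup.closure_le]
    rintro _ ⟨u, (rfl | rfl), rfl⟩
    · show l⁻¹ * d.z * l⁻¹⁻¹ ∈ d.P
      rw [inv_inv]
      exact hP' _ d.z_mem_J hsz
    · show l⁻¹ * x' * l⁻¹⁻¹ ∈ d.P
      rw [inv_inv]
      exact hP' _ hx'J hsx
  have h9 : 9 ≤ Nat.card U := by
    obtain ⟨i, -, hi⟩ := card_three_dvd_pow Nat.prime_three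
      (show Nat.card d.J = 3 ^ 4 by rw [d.J_card]; rfl) (hUA.trans d.A_le_J)
    rw [hi]
    by_contra hlt
    have hi1 : i ≤ 1 := by
      by_contra h2
      exact hlt ((show 9 = 3 ^ 2 from rfl).le.trans (Nat.pow_le_pow_right (by norm_num) (by omega)))
    have hZU : d.Z ≤ U := Subgroup.zpowers_le.2 (Subgroup.subset_closure (by simp))
    have hx'Z : x' ∈ d.Z := by
      rw [Subgroup.eq_of_le_of_card_ge hZU
        (by rw [hi, d.card_Z]; exact (Nat.pow_le_pow_right (by norm_num) hi1).trans (by norm_num))]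
      exact Subgroup.subset_closure (by simp)
    refine d.not_sg_zw ?_
    have hsx' : d.Sg x' := by
      rcases three_cases d.z_cube hx'Z with e | e | e
      · refine absurd ?_ d.zw_ne_one
        show x = 1
        calc x = k * x' * k⁻¹ := by rw [hx']; group
          _ = 1 := by rw [e]; group
      · exact e ▸ d.sg_z
      · exact e ▸ d.sg_inv d.sg_z
    have := d.sg_conj (g := k) hsx' (by rw [hx', show k * (k⁻¹ * x * k) * k⁻¹ = x by group]; exact hxJ)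
    rwa [hx', show k * (k⁻¹ * x * k) * k⁻¹ = x by group] at this
  have hUeq : U.map (MulAut.conj l⁻¹).toMonoidHom = d.P := Subgroup.eq_of_le_of_card_ge hUP (by
    rw [Subgroup.card_map_of_injective (MulAut.conj l⁻¹).injective, d.card_P]; exact h9)
  have hback : ∀ p ∈ d.P, l * p * l⁻¹ ∈ U := by
    intro p hp
    rw [← hUeq] at hp
    obtain ⟨u, hu, rfl⟩ := hp
    show l * (l⁻¹ * u * l⁻¹⁻¹) * l⁻¹ ∈ U
    rwa [show l * (l⁻¹ * u * l⁻¹⁻¹) * l⁻¹ = u by group]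
  have hZ1 : ∀ p, d.Sg p → p ∈ d.P → l * p * l⁻¹ ∈ d.Z := fun p hp hpP =>
    d.sg_A (d.sg_conj hp (d.A_le_J (hUA (hback p hpP)))) (hUA (hback p hpP))
  refine d.w_notMem_Z ?_
  have h1 := hZ1 _ d.sg_z d.z_mem_P
  have h2 := hZ1 _ d.sg_w d.w_mem_P
  rcases three_cases d.z_cube h1 with e | e | e
  · exact absurd (conj_eq_one_iff.1 e) d.z_ne
  · have e' : l⁻¹ * d.z * l = d.z := by
      calc l⁻¹ * d.z * l = l⁻¹ * (l * d.z * l⁻¹) * l := by rw [e]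
        _ = d.z := by group
    obtain ⟨a, ha⟩ := Subgroup.mem_zpowers_iff.1 h2
    have : d.w = d.z ^ a := by
      calc d.w = l⁻¹ * (l * d.w * l⁻¹) * l⁻¹⁻¹ := by group
        _ = d.z ^ a := by rw [← ha, ← conj_zpow, inv_inv, e']
    rw [this]
    exact d.Z.zpow_mem d.z_mem_Z a
  · have e' : l⁻¹ * d.z * l = d.z⁻¹ := by
      calc l⁻¹ * d.z * l = l⁻¹ * (l * d.z * l⁻¹)⁻¹ * l := by rw [e, inv_inv]
        _ = d.z⁻¹ := by group
    obtain ⟨a, ha⟩ := Subgroup.mem_zpowers_iff.1 h2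
    have : d.w = d.z⁻¹ ^ a := by
      calc d.w = l⁻¹ * (l * d.w * l⁻¹) * l⁻¹⁻¹ := by group
        _ = d.z⁻¹ ^ a := by rw [← ha, ← conj_zpow, inv_inv, e']
    rw [this]
    exact d.Z.zpow_mem (d.Z.inv_mem d.z_mem_Z) a

end Pair

end Cfsg.Agent.McLThree
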