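/-
The action on `E` of the stabiliser of the lines `⟨z⟩`, `⟨w⟩`, and the centralizer of `P`.
-/
import Cfsg.Agent.Lib.McLThree.Stab

set_option autoImplicit false
set_option maxRecDepth 100000
set_option linter.style.longLine false
set_option linter.style.haveILetI false

namespace Cfsg.Agent.McLThree

namespace Pair

variable {G : Type*} [Group G] [Finite G] (d : Pair G)

/-- The elements of `N(J)` fixing the lines `⟨z⟩` and `⟨w⟩`. -/
def T2 : Subgroup G where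
  carrier := {x | x ∈ Subgroup.normalizer (d.J : Set G) ∧ (x * d.z * x⁻¹ = d.z ∨ x * d.z * x⁻¹ = d.z⁻¹) ∧
    (x * d.w * x⁻¹ = d.w ∨ x * d.w * x⁻¹ = d.w⁻¹)}
  one_mem' := ⟨Subgroup.one_mem _, Or.inl (by group), Or.inl (by group)⟩
  mul_mem' := fun {x y} hx hy => by
    have key : ∀ v : G, (x * v * x⁻¹ = v ∨ x * v * x⁻¹ = v⁻¹) → (y * v * y⁻¹ = v ∨ y * v * y⁻¹ = v⁻¹) →
        x * y * v * (x * y)⁻¹ = v ∨ x * y * v * (x * y)⁻¹ = v⁻¹ := by
      intro v h1 h2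
      rw [show x * y * v * (x * y)⁻¹ = x * (y * v * y⁻¹) * x⁻¹ by group]
      rcases h2 with e | e <;> rw [e]
      · exact h1
      · rw [← conj_inv]
        rcases h1 with e' | e' <;> rw [e']
        exacts [Or.inr rfl, Or.inl (inv_inv v)]
    exact ⟨Subgroup.mul_mem _ hx.1 hy.1, key _ hx.2.1 hy.2.1, key _ hx.2.2 hy.2.2⟩
  inv_mem' := fun {x} hx => by
    have key : ∀ v : G, (x * v * x⁻¹ = v ∨ x * v * x⁻¹ = v⁻¹) →
        x⁻¹ * v * x⁻¹⁻¹ = v ∨ x⁻¹ * v * x⁻¹⁻¹ = v⁻¹ := by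
      intro v h
      rcases h with e | e
      · refine Or.inl ?_
        calc x⁻¹ * v * x⁻¹⁻¹ = x⁻¹ * (x * v * x⁻¹) * x⁻¹⁻¹ := by rw [e]
          _ = v := by group
      · refine Or.inr ?_
        calc x⁻¹ * v * x⁻¹⁻¹ = (x⁻¹ * v⁻¹ * x⁻¹⁻¹)⁻¹ := by group
          _ = (x⁻¹ * (x * v * x⁻¹) * x⁻¹⁻¹)⁻¹ := by rw [e]
          _ = v⁻¹ := by group
    exact ⟨Subgroup.inv_mem _ hx.1, key _ hx.2.1, key _ hx.2.2⟩

theorem conj_E' {x e : G} (hx : x ∈ d.T2) (he : e ∈ d.E) : x * e * x⁻¹ ∈ d.E :=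
  d.conj_E hx.1 hx.2.1 hx.2.2 he

theorem g_mem_T2 : d.g ∈ d.T2 := ⟨d.M₀_le d.g_mem, Or.inr d.g_z_w.1, Or.inr d.g_z_w.2⟩

theorem c_z : d.c * d.z * d.c⁻¹ = d.z := conj_eq_of_commute (d.L₀_cent _ (d.L_le d.c_mem))

theorem c_mem_T2 : d.c ∈ d.T2 := ⟨d.c_NJ, Or.inl d.c_z, Or.inr d.c_w⟩

theorem t_mem_T2 : d.t ∈ d.T2 :=
  ⟨d.t_NJ, Or.inl (conj_eq_of_commute d.t_z), Or.inl d.t_w⟩

theorem J_le_T2 : d.J ≤ d.T2 := fun j hj =>
  ⟨Subgroup.le_normalizer hj, Or.inl (conj_eq_of_commute (d.J_comm j hj _ d.z_mem_J)),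
    Or.inl (conj_eq_of_commute (d.J_comm j hj _ d.w_mem_J))⟩

theorem exists_E_ne_one : ∃ e ∈ d.E, e ≠ 1 := by
  obtain ⟨e, he, he'⟩ := exists_notMem_of_card_lt (H := d.E) (K := (⊥ : Subgroup G)) (by
    rw [Subgroup.card_bot, d.card_E]; norm_num)
  exact ⟨e, he, fun h => he' (Subgroup.mem_bot.2 h)⟩

/-- A nontrivial element of `E`. -/
noncomputable def e₀ : G := d.exists_E_ne_one.choose

/-- The image of `e₀` under `g`. -/
noncomputable def f₀ : G := d.g * d.e₀ * d.g⁻¹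

theorem e₀_mem : d.e₀ ∈ d.E := d.exists_E_ne_one.choose_spec.1

theorem e₀_ne : d.e₀ ≠ 1 := d.exists_E_ne_one.choose_spec.2

theorem f₀_mem : d.f₀ ∈ d.E := d.conj_E' d.g_mem_T2 d.e₀_mem

theorem g_f₀ : d.g * d.f₀ * d.g⁻¹ = d.e₀⁻¹ := by
  rw [← d.t_conj_E d.e₀_mem, ← d.g_sq, f₀]; group

/-- The parametrisation of `E`. -/
noncomputable def ι (v : Fin 2 → ZMod 3) : G := d.e₀ ^ (v 0).val * d.f₀ ^ (v 1).val

theorem ι_mem (v : Fin 2 → ZMod 3) : d.ι v ∈ d.E :=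
  d.E.mul_mem (d.E.pow_mem d.e₀_mem _) (d.E.pow_mem d.f₀_mem _)

theorem ι_add (u v : Fin 2 → ZMod 3) : d.ι (u + v) = d.ι u * d.ι v := by
  have key : ∀ x ∈ d.E, ∀ a b : ZMod 3, x ^ (a + b).val = x ^ a.val * x ^ b.val := by
    intro x hx a b
    rw [← pow_add, ZMod.val_add, ← pow_eq_pow_mod _ (d.J_exp x (d.E_le_J hx))]
  rw [ι, ι, ι, Pi.add_apply, Pi.add_apply, key _ d.e₀_mem, key _ d.f₀_mem]
  have hc : Commute (d.e₀ ^ (v 0).val) (d.f₀ ^ (u 1).val) :=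
    (show Commute d.e₀ d.f₀ from d.J_comm _ (d.E_le_J d.e₀_mem) _ (d.E_le_J d.f₀_mem)).pow_pow _ _
  calc d.e₀ ^ (u 0).val * d.e₀ ^ (v 0).val * (d.f₀ ^ (u 1).val * d.f₀ ^ (v 1).val)
      = d.e₀ ^ (u 0).val * (d.e₀ ^ (v 0).val * d.f₀ ^ (u 1).val) * d.f₀ ^ (v 1).val := by group
    _ = _ := by rw [hc.eq]; group

theorem ι_zero : d.ι 0 = 1 := by simp [ι]

theorem ι_nsmul (n : ℕ) (v : Fin 2 → ZMod 3) : d.ι (n • v) = d.ι v ^ n := by
  induction n with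
  | zero => rw [zero_smul, pow_zero, d.ι_zero]
  | succ n ih => rw [succ_nsmul, d.ι_add, ih, pow_succ]

theorem ι_smul (a : ZMod 3) (v : Fin 2 → ZMod 3) : d.ι (a • v) = d.ι v ^ a.val := by
  rw [← d.ι_nsmul, ← Nat.cast_smul_eq_nsmul (ZMod 3) a.val v, ZMod.natCast_zmod_val]

theorem ι_inj {u v : Fin 2 → ZMod 3} (h : d.ι u = d.ι v) : u = v := by
  suffices hz : ∀ x, d.ι x = 1 → x = 0 by
    refine sub_eq_zero.1 (hz (u - v) ?_)
    have := d.ι_add (u - v) v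
    rw [sub_add_cancel, h] at this
    exact mul_eq_right.1 this.symm
  intro x hx
  by_contra hx0
  have hfe : ∀ k : ℕ, d.f₀ ≠ d.e₀ ^ k := by
    intro k hk
    have h2 : d.e₀⁻¹ = (d.e₀ ^ k) ^ k := by
      rw [← d.g_f₀, hk, ← conj_pow]
      exact congrArg (· ^ k) hk
    rw [← pow_mul] at h2
    have h3 : d.e₀ ^ (k * k + 1) = 1 := by rw [pow_succ, ← h2, inv_mul_cancel]
    have he3 : d.e₀ ^ 3 = 1 := d.J_exp _ (d.E_le_J d.e₀_mem)
    have hm : ∀ k : ℕ, (k * k + 1) % 3 ≠ 0 := by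
      intro k
      rw [Nat.add_mod, Nat.mul_mod]
      have : k % 3 < 3 := Nat.mod_lt _ (by norm_num)
      interval_cases k % 3 <;> norm_num
    refine d.e₀_ne ?_
    rw [pow_eq_pow_mod _ he3] at h3
    rcases (show (k * k + 1) % 3 = 1 ∨ (k * k + 1) % 3 = 2 by have := hm k; omega) with e | e <;> rw [e] at h3
    · rwa [pow_one] at h3
    · exact d.eq_one_of_sq (d.E_le_J d.e₀_mem) (by rw [← pow_two]; exact h3)
  by_cases h1 : x 1 = 0
  · have h0 : x 0 ≠ 0 := fun h0 => hx0 (funext fun i => by fin_cases i <;> assumption)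
    refine d.e₀_ne ?_
    have := d.ι_smul (x 0)⁻¹ x
    rw [hx, one_pow, ι] at this
    simp only [Pi.smul_apply, smul_eq_mul, h1, mul_zero, ZMod.val_zero, pow_zero, mul_one,
      inv_mul_cancel₀ h0] at this
    simpa [ZMod.val_one] using this
  · have := d.ι_smul (x 1)⁻¹ x
    rw [hx, one_pow, ι] at this
    simp only [Pi.smul_apply, smul_eq_mul, inv_mul_cancel₀ h1, ZMod.val_one, pow_one] at this
    set k := ((x 1)⁻¹ * x 0).val
    refine hfe (2 * k) ?_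
    rw [eq_inv_of_mul_eq_one_right this, inv_eq_sq (d.J_exp _ (d.J.pow_mem (d.E_le_J d.e₀_mem) k)), ← pow_add]
    congr 1
    omega

theorem exists_coord {e : G} (he : e ∈ d.E) : ∃ v, d.ι v = e := by
  have hf : Function.Injective (fun v => (⟨d.ι v, d.ι_mem v⟩ : d.E)) := fun u v h =>
    d.ι_inj (congrArg Subtype.val h)
  obtain ⟨v, hv⟩ := (hf.bijective_of_nat_card_le (by simp [d.card_E])).2 ⟨e, he⟩
  exact ⟨v, congrArg Subtype.val hv⟩

/-- The coordinates of an element of `E`. -/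
noncomputable def coord (e : G) : Fin 2 → ZMod 3 :=
  haveI := Classical.propDecidable (∃ v, d.ι v = e)
  if h : ∃ v, d.ι v = e then h.choose else 0

theorem ι_coord {e : G} (he : e ∈ d.E) : d.ι (d.coord e) = e := by
  rw [coord, dif_pos (d.exists_coord he)]
  exact (d.exists_coord he).choose_spec

/-- The matrix of the action on `E`. -/
noncomputable def mat (x : G) : Mat3 :=
  Matrix.of fun i j => d.coord (x * (if j = 0 then d.e₀ else d.f₀) * x⁻¹) i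

theorem mat_apply {x : G} (hx : x ∈ d.T2) (v : Fin 2 → ZMod 3) :
    x * d.ι v * x⁻¹ = d.ι ((d.mat x).mulVec v) := by
  set c0 : Fin 2 → ZMod 3 := d.coord (x * d.e₀ * x⁻¹) with hc0
  set c1 : Fin 2 → ZMod 3 := d.coord (x * d.f₀ * x⁻¹) with hc1
  have e : (d.mat x).mulVec v = v 0 • c0 + v 1 • c1 := by
    funext i
    simp [mat, Matrix.mulVec, dotProduct, Fin.sum_univ_two, hc0, hc1, mul_comm]
  rw [e, d.ι_add, d.ι_smul, d.ι_smul, hc0, hc1, d.ι_coord (d.conj_E' hx d.e₀_mem),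
    d.ι_coord (d.conj_E' hx d.f₀_mem), conj_pow, conj_pow, conj_mul]
  rfl

theorem mat_ext {x : G} (hx : x ∈ d.T2) {M : Mat3} (h : ∀ v, x * d.ι v * x⁻¹ = d.ι (M.mulVec v)) :
    d.mat x = M :=
  Matrix.ext_of_mulVec_single fun j => d.ι_inj (by rw [← d.mat_apply hx, h])

theorem mat_mul {x y : G} (hx : x ∈ d.T2) (hy : y ∈ d.T2) : d.mat (x * y) = d.mat x * d.mat y :=
  d.mat_ext (d.T2.mul_mem hx hy) fun v => by
    rw [← Matrix.mulVec_mulVec, ← d.mat_apply hx, ← d.mat_apply hy]; group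

theorem mat_one : d.mat 1 = 1 :=
  d.mat_ext d.T2.one_mem fun v => by rw [Matrix.one_mulVec]; group

theorem mat_det {x : G} (hx : x ∈ d.T2) : (d.mat x).det ≠ 0 := by
  intro h
  have := congrArg Matrix.det (d.mat_mul hx (d.T2.inv_mem hx))
  rw [mul_inv_cancel, d.mat_one, Matrix.det_one, Matrix.det_mul, h, zero_mul] at this
  exact one_ne_zero this

theorem mat_J {j : G} (hj : j ∈ d.J) : d.mat j = 1 :=
  d.mat_ext (d.J_le_T2 hj) fun v => by
    rw [Matrix.one_mulVec]; exact conj_eq_of_commute (d.J_comm j hj _ (d.E_le_J (d.ι_mem v)))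

theorem mat_t : d.mat d.t = -1 :=
  d.mat_ext d.t_mem_T2 fun v => by
    rw [Matrix.neg_mulVec, Matrix.one_mulVec, d.t_conj_E (d.ι_mem v)]
    refine inv_eq_of_mul_eq_one_right ?_
    rw [← d.ι_add, add_neg_cancel, d.ι_zero]

theorem mat_g : d.mat d.g = rot := by
  have hg := d.g_mem_T2
  refine d.mat_ext hg fun v => ?_
  have hneg : ∀ u, d.ι (-u) = (d.ι u)⁻¹ := fun u => by
    refine eq_inv_of_mul_eq_one_left ?_
    rw [← d.ι_add, neg_add_cancel, d.ι_zero]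
  have e : rot.mulVec v = v 0 • ![0, 1] + v 1 • -![1, 0] := by
    funext i
    fin_cases i <;> simp [rot, Matrix.mulVec, dotProduct, Fin.sum_univ_two]
  rw [e, d.ι_add, d.ι_smul, d.ι_smul, hneg]
  have h10 : d.ι ![1, 0] = d.e₀ := by simp [ι, ZMod.val_one]
  have h01 : d.ι ![0, 1] = d.f₀ := by simp [ι, ZMod.val_one]
  rw [h10, h01, ι, ← conj_mul, ← conj_pow, ← conj_pow, d.g_f₀]
  rfl

/-- An element fixing `z` and `E` and inverting `w` does not exist. -/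
theorem no_reflection {x : G} (hx : x ∈ d.T2) (hz : x * d.z * x⁻¹ = d.z) (hE : d.mat x = 1) :
    x * d.w * x⁻¹ = d.w := by
  rcases hx.2.2 with h | hw
  · exact h
  exfalso
  have hE' : ∀ e ∈ d.E, x * e = e * x := fun e he => by
    refine commute_of_conj_eq ?_
    rw [← d.ι_coord he, d.mat_apply hx, hE, Matrix.one_mulVec]
  have hx2 : x * x ∈ d.J := by
    refine d.eq_of_action ?_ ?_ fun e he => ((show Commute x e from hE' e he).mul_left (hE' e he)).eq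
    · exact ((show Commute x d.z from commute_of_conj_eq hz).mul_left (commute_of_conj_eq hz)).eq
    · refine commute_of_conj_eq ?_
      calc x * x * d.w * (x * x)⁻¹ = x * (x * d.w * x⁻¹) * x⁻¹ := by group
        _ = d.w := by rw [hw, ← conj_inv, hw, inv_inv]
  set f := x ^ 3 with hf
  have hf2 : f * f = 1 := by
    rw [hf, ← pow_add, show 3 + 3 = 2 * 3 from rfl, pow_mul, pow_two, d.J_exp _ hx2]
  have hfA : ∀ a ∈ d.A, f * a = a * f := fun a ha => by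
    obtain ⟨u, hu, e, he, rfl⟩ := d.exists_A_decomp ha
    obtain ⟨k, rfl⟩ := Subgroup.mem_zpowers_iff.1 hu
    exact (((show Commute x d.z from commute_of_conj_eq hz).zpow_right k).mul_right
      (show Commute x e from hE' e he)).pow_left 3
  have hfN : f ∈ Subgroup.normalizer (Subgroup.zpowers d.z : Set G) :=
    d.mem_NZ_of_commute (hfA _ d.z_mem_A)
  have hcQ : ∀ q ∈ d.Q, f * q = q * f := by
    intro q hq
    set u := q⁻¹ * (f * q * f⁻¹) with hu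
    have hqf : f * q * f⁻¹ ∈ d.Q := d.Q_conj f hfN q hq
    have huA : u ∈ d.A := by
      refine d.mem_A_of_commute (d.Q.mul_mem (d.Q.inv_mem hq) hqf) fun a ha => commute_of_conj_eq ?_
      set ζ := q * a * q⁻¹ * a⁻¹ with hζ
      have hζf : f * ζ * f⁻¹ = ζ := conj_eq_of_commute (hfA ζ (d.Z_le_A (d.Q_comm' hq (d.A_le_Q ha))))
      calc q⁻¹ * (f * q * f⁻¹) * a * (q⁻¹ * (f * q * f⁻¹))⁻¹
          = q⁻¹ * (f * (q * (f⁻¹ * a * f) * q⁻¹) * f⁻¹) * q := by group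
        _ = q⁻¹ * (f * (q * a * q⁻¹) * f⁻¹) * q := by rw [mul_assoc f⁻¹, ← hfA a ha, inv_mul_cancel_left]
        _ = q⁻¹ * (f * (ζ * a) * f⁻¹) * q := by rw [hζ]; group
        _ = q⁻¹ * (ζ * (f * a * f⁻¹)) * q := by
            rw [show f * (ζ * a) * f⁻¹ = f * ζ * f⁻¹ * (f * a * f⁻¹) by group, hζf]
        _ = a := by rw [conj_eq_of_commute (hfA a ha), hζ]; group
    exact commute_of_twist (u := u) (n := 2) (k := 3) (by rw [hu]; group) (hfA u huA)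
      (d.J_exp u (d.A_le_J huA)) (by rw [pow_two, hf2, one_mul, mul_one]) (by norm_num)
  have h3 := d.Q_exp f (d.cent_Q f hcQ)
  rw [pow_succ, pow_two, hf2, one_mul] at h3
  have hfw : f * d.w * f⁻¹ = d.w⁻¹ := by
    rw [hf, show x ^ 3 * d.w * (x ^ 3)⁻¹ = x * (x * (x * d.w * x⁻¹) * x⁻¹) * x⁻¹ by
      simp only [pow_succ, pow_zero, one_mul]; group, hw, ← conj_inv, hw, inv_inv, hw]
  rw [h3, one_mul, inv_one, mul_one] at hfw
  exact d.sg_ne_one d.sg_w (d.eq_one_of_sq d.w_mem_J (mul_eq_one_iff_eq_inv.2 hfw))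

/-- Elements of the stabiliser are determined modulo `J` by `z`, `w` and `E`. -/
theorem mem_J_of_trivial {x : G} (hx : x ∈ d.T2) (hz : x * d.z * x⁻¹ = d.z) (hE : d.mat x = 1) : x ∈ d.J := by
  refine d.eq_of_action (commute_of_conj_eq hz) (commute_of_conj_eq (d.no_reflection hx hz hE)) fun e he =>
    commute_of_conj_eq ?_
  rw [← d.ι_coord he, d.mat_apply hx, hE, Matrix.one_mulVec]

/-- The symmetric statement with `z` and `w` exchanged. -/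
theorem w_fixed {x : G} (hx : x ∈ d.T2) (hw : x * d.w * x⁻¹ = d.w) (hE : d.mat x = 1) :
    x * d.z * x⁻¹ = d.z := by
  have hn2 : ∀ u : G, d.n * (d.n * u * d.n⁻¹) * d.n⁻¹ = u := fun u => by
    calc d.n * (d.n * u * d.n⁻¹) * d.n⁻¹ = d.n * d.n * u * (d.n * d.n)⁻¹ := by group
      _ = u := by rw [d.n_sq, one_mul, inv_one, mul_one]
  set y := d.n * x * d.n⁻¹ with hy
  have hconj : ∀ u, y * u * y⁻¹ = d.n * (x * (d.n * u * d.n⁻¹) * x⁻¹) * d.n⁻¹ := fun u => by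
    rw [hy]
    nth_rw 1 [← hn2 u]
    group
  have hyz : y * d.z * y⁻¹ = d.z := by rw [hconj, d.n_z, hw, d.n_w]
  have hyw : y * d.w * y⁻¹ = d.w ∨ y * d.w * y⁻¹ = d.w⁻¹ := by
    rw [hconj, d.n_w]
    rcases hx.2.1 with e | e <;> rw [e]
    · exact Or.inl d.n_z
    · exact Or.inr (by rw [← conj_inv, d.n_z])
  have hyT : y ∈ d.T2 :=
    ⟨Subgroup.mul_mem _ (Subgroup.mul_mem _ (d.M₀_le d.n_mem) hx.1) (Subgroup.inv_mem _ (d.M₀_le d.n_mem)),
      Or.inl hyz, hyw⟩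
  have hnE : ∀ e ∈ d.E, d.n * e * d.n⁻¹ ∈ d.E := by
    intro e he
    obtain ⟨h1, h2⟩ := d.mem_E.1 he
    have hm : ∀ u ∈ d.J, d.n * u * d.n⁻¹ = d.m * u * d.m⁻¹ := fun u hu =>
      d.act_eq d.n_mem d.m_mem (by rw [d.π_n, d.π_m]) hu
    refine d.mem_E.2 ⟨by rwa [hm e (d.A_le_J h1)], ?_⟩
    rw [hm e (d.A_le_J h1), show d.m * (d.m * e * d.m⁻¹) * d.m⁻¹ = d.m * d.m * e * (d.m * d.m)⁻¹ by group,
      d.m_sq, one_mul, inv_one, mul_one]
    exact h1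
  have hyE : d.mat y = 1 := d.mat_ext hyT fun v => by
    rw [Matrix.one_mulVec, hconj, ← d.ι_coord (hnE _ (d.ι_mem v)), d.mat_apply hx, hE, Matrix.one_mulVec,
      d.ι_coord (hnE _ (d.ι_mem v)), hn2]
  have h := d.no_reflection hyT hyz hyE
  rw [hconj, d.n_w] at h
  calc x * d.z * x⁻¹ = d.n * (d.n * (x * d.z * x⁻¹) * d.n⁻¹) * d.n⁻¹ := (hn2 _).symm
    _ = d.z := by rw [h, d.n_w]

/-- `c` and `g` act on `E` by anticommuting matrices with square `-1`. -/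
theorem mat_c : d.mat d.c * d.mat d.c = -1 ∧ d.mat d.c * rot = -(rot * d.mat d.c) := by
  have hcT := d.c_mem_T2
  have hc2 : d.mat d.c * d.mat d.c = -1 := by rw [← d.mat_mul hcT hcT, d.c_sq, d.mat_t]
  refine ⟨hc2, ?_⟩
  set x := d.c * d.g * d.c⁻¹ with hx
  have hxT : x ∈ d.T2 := d.T2.mul_mem (d.T2.mul_mem hcT d.g_mem_T2) (d.T2.inv_mem hcT)
  have hxM : x ∈ d.M₀ := d.M₀_conj _ d.c_NJ _ d.g_mem
  have hπ : d.π₆ x = 1 ∨ d.π₆ x = g0 ∨ d.π₆ x = g0 * g0 ∨ d.π₆ x = g0⁻¹ := by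
    refine two_stab _ ((d.normP0_iff hxM).2 ?_) ?_
    · rcases hxT.2.1 with e | e <;> rw [e]
      exacts [d.z_mem_Z, d.Z.inv_mem d.z_mem_Z]
    · have hy := d.M₀.mul_mem (d.M₀.mul_mem d.n_mem hxM) d.n_mem
      have := (d.normP0_iff hy).2 (by
        rw [show d.n * x * d.n * d.z * (d.n * x * d.n)⁻¹ = d.n * (x * (d.n * d.z * d.n⁻¹) * x⁻¹) * d.n⁻¹ by group,
          d.n_z]
        rcases hxT.2.2 with e | e <;> rw [e]
        · rw [d.n_w]; exact d.z_mem_Z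
        · rw [← conj_inv, d.n_w]; exact d.Z.inv_mem d.z_mem_Z)
      rwa [d.map₆ _ (d.M₀.mul_mem d.n_mem hxM) _ d.n_mem, d.map₆ _ d.n_mem _ hxM, d.π_n] at this
  have hmat : ∀ u ∈ d.M₀, u ∈ d.T2 → d.π₆ x = d.π₆ u → d.mat x = d.mat u := fun u hu huT e =>
    d.mat_ext hxT fun v => by rw [d.act_eq hxM hu e (d.E_le_J (d.ι_mem v)), d.mat_apply huT]
  have hgi : d.g⁻¹ ∈ d.T2 := d.T2.inv_mem d.g_mem_T2
  have hginv : d.mat d.g⁻¹ = -rot := by
    have h := d.mat_mul d.g_mem_T2 hgi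
    rw [mul_inv_cancel, d.mat_one, d.mat_g] at h
    calc d.mat d.g⁻¹ = -((rot * rot) * d.mat d.g⁻¹) := by
          rw [show rot * rot = (-1 : Mat3) by decide +kernel]; simp
      _ = -rot := by rw [mul_assoc, ← h, mul_one]
  have hrot : d.mat x = d.mat d.c * rot * d.mat d.c⁻¹ := by
    rw [hx, d.mat_mul (d.T2.mul_mem hcT d.g_mem_T2) (d.T2.inv_mem hcT), d.mat_mul hcT d.g_mem_T2, d.mat_g]
  have hcc : d.mat d.c⁻¹ * d.mat d.c = 1 := by rw [← d.mat_mul (d.T2.inv_mem hcT) hcT, inv_mul_cancel, d.mat_one]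
  have hcc' : d.mat d.c * d.mat d.c⁻¹ = 1 := by rw [← d.mat_mul hcT (d.T2.inv_mem hcT), mul_inv_cancel, d.mat_one]
  have hkey : d.mat x * d.mat d.c = d.mat d.c * rot := by rw [hrot, mul_assoc, hcc, mul_one]
  have hmem : d.mat x = rot ∨ d.mat x = -rot := by
    have hback : rot = d.mat d.c⁻¹ * d.mat x * d.mat d.c := by
      rw [mul_assoc, hkey, ← mul_assoc, hcc, one_mul]
    rcases hπ with e | e | e | e
    · exfalso
      have := hmat 1 d.M₀.one_mem d.T2.one_mem (by rw [e, d.π₆_one])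
      rw [this, d.mat_one, mul_one, hcc] at hback
      exact absurd hback (by decide +kernel)
    · exact Or.inl ((hmat _ d.g_mem d.g_mem_T2 (by rw [e, d.π_g])).trans d.mat_g)
    · exfalso
      have := hmat _ d.t_mem_M₀ d.t_mem_T2 (by rw [e, d.π_t₆])
      rw [this, d.mat_t, mul_neg, mul_one, neg_mul, hcc] at hback
      exact absurd hback (by decide +kernel)
    · exact Or.inr ((hmat _ (d.M₀.inv_mem d.g_mem) hgi (by rw [e, d.π₆_inv d.g_mem, d.π_g])).trans hginv)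
  refine mat_anti _ hc2 ?_ ?_ ?_
  · intro e
    have hu := d.T2.mul_mem hgi hcT
    have h1 := d.w_fixed hu (by
      rw [show d.g⁻¹ * d.c * d.w * (d.g⁻¹ * d.c)⁻¹ = d.g⁻¹ * (d.c * d.w * d.c⁻¹) * d.g⁻¹⁻¹ by group]
      show d.g⁻¹ * (d.c * d.w * d.c⁻¹) * d.g⁻¹⁻¹ = d.w
      rw [show d.c * d.w * d.c⁻¹ = d.g * d.w * d.g⁻¹ from d.c_w.trans d.g_z_w.2.symm]; group)
      (by rw [d.mat_mul hgi hcT, hginv, e, neg_mul, show rot * rot = (-1 : Mat3) by decide +kernel, neg_neg])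
    rw [show d.g⁻¹ * d.c * d.z * (d.g⁻¹ * d.c)⁻¹ = d.g⁻¹ * (d.c * d.z * d.c⁻¹) * d.g⁻¹⁻¹ by group, d.c_z] at h1
    have h2 : d.g * d.z * d.g⁻¹ = d.z := by
      conv_lhs => rw [← h1]
      group
    rw [d.g_z_w.1] at h2
    exact d.z_ne (d.eq_one_of_sq d.z_mem_J (by rw [← h2]; simp [mul_eq_one_iff_eq_inv, h2]))
  · intro e
    have hu := d.T2.mul_mem d.g_mem_T2 hcT
    have h1 := d.w_fixed hu (by
      rw [show d.g * d.c * d.w * (d.g * d.c)⁻¹ = d.g * (d.c * d.w * d.c⁻¹) * d.g⁻¹ by group,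
        show d.c * d.w * d.c⁻¹ = d.w⁻¹ from d.c_w, ← conj_inv, d.g_z_w.2, inv_inv])
      (by rw [d.mat_mul d.g_mem_T2 hcT, d.mat_g, e, mul_neg, show rot * rot = (-1 : Mat3) by decide +kernel, neg_neg])
    rw [show d.g * d.c * d.z * (d.g * d.c)⁻¹ = d.g * (d.c * d.z * d.c⁻¹) * d.g⁻¹ by group, d.c_z,
      d.g_z_w.1] at h1
    exact d.z_ne (d.eq_one_of_sq d.z_mem_J (mul_eq_one_iff_eq_inv.2 h1.symm))
  · rcases hmem with e | e <;> rw [e] at hkey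
    · exact Or.inl hkey.symm
    · exact Or.inr (by rw [← hkey, neg_mul])

/-- The centralizer of `P` in `N(J)` acts on `E` through the rotations. -/
theorem mat_cent_P {x : G} (hxT : x ∈ d.T2) (hz : x * d.z * x⁻¹ = d.z) (hw : x * d.w * x⁻¹ = d.w)
    (hxt : x * d.t = d.t * x) : d.mat x = 1 ∨ d.mat x = -1 ∨ d.mat x = rot ∨ d.mat x = -rot := by
  have hcT := d.c_mem_T2
  obtain ⟨hc2, hca⟩ := d.mat_c
  have hxi := d.T2.inv_mem hxT
  have hrelg : d.mat x * rot = rot * d.mat x ∨ d.mat x * rot = -(rot * d.mat x) := by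
    set y := x * d.g * x⁻¹ with hy
    have hyT : y ∈ d.T2 := d.T2.mul_mem (d.T2.mul_mem hxT d.g_mem_T2) hxi
    have hyM : y ∈ d.M₀ := d.M₀_conj _ hxT.1 _ d.g_mem
    have hkey : d.mat y * d.mat x = d.mat x * rot := by
      rw [← d.mat_mul hyT hxT, ← d.mat_g, ← d.mat_mul hxT d.g_mem_T2, hy, inv_mul_cancel_right]
    have hπ : d.π₆ y = 1 ∨ d.π₆ y = g0 ∨ d.π₆ y = g0 * g0 ∨ d.π₆ y = g0⁻¹ := by
      refine two_stab _ ((d.normP0_iff hyM).2 ?_) ?_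
      · rcases hyT.2.1 with e | e <;> rw [e]
        exacts [d.z_mem_Z, d.Z.inv_mem d.z_mem_Z]
      · have hu := d.M₀.mul_mem (d.M₀.mul_mem d.n_mem hyM) d.n_mem
        have := (d.normP0_iff hu).2 (by
          rw [show d.n * y * d.n * d.z * (d.n * y * d.n)⁻¹ = d.n * (y * (d.n * d.z * d.n⁻¹) * y⁻¹) * d.n⁻¹ by group,
            d.n_z]
          rcases hyT.2.2 with e | e <;> rw [e]
          · rw [d.n_w]; exact d.z_mem_Z
          · rw [← conj_inv, d.n_w]; exact d.Z.inv_mem d.z_mem_Z)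
        rwa [d.map₆ _ (d.M₀.mul_mem d.n_mem hyM) _ d.n_mem, d.map₆ _ d.n_mem _ hyM, d.π_n] at this
    have hmat : ∀ u ∈ d.M₀, u ∈ d.T2 → d.π₆ y = d.π₆ u → d.mat y = d.mat u := fun u hu huT e =>
      d.mat_ext hyT fun v => by rw [d.act_eq hyM hu e (d.E_le_J (d.ι_mem v)), d.mat_apply huT]
    have hxinv : d.mat x⁻¹ * d.mat x = 1 := by rw [← d.mat_mul hxi hxT, inv_mul_cancel, d.mat_one]
    rcases hπ with e | e | e | e
    · exfalso
      rw [hmat 1 d.M₀.one_mem d.T2.one_mem (by rw [e, d.π₆_one]), d.mat_one, one_mul] at hkey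
      have := congrArg (d.mat x⁻¹ * ·) hkey
      simp only [← mul_assoc, hxinv, one_mul] at this
      exact absurd this (by decide +kernel)
    · rw [hmat _ d.g_mem d.g_mem_T2 (by rw [e, d.π_g]), d.mat_g] at hkey
      exact Or.inl hkey.symm
    · exfalso
      rw [hmat _ d.t_mem_M₀ d.t_mem_T2 (by rw [e, d.π_t₆]), d.mat_t, neg_mul, one_mul] at hkey
      have := congrArg (d.mat x⁻¹ * ·) hkey
      simp only [← mul_assoc, hxinv, one_mul, mul_neg] at this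
      exact absurd this (by decide +kernel)
    · have hgi : d.g⁻¹ ∈ d.T2 := d.T2.inv_mem d.g_mem_T2
      have h := d.mat_mul d.g_mem_T2 hgi
      rw [mul_inv_cancel, d.mat_one, d.mat_g] at h
      have hginv : d.mat d.g⁻¹ = -rot := by
        calc d.mat d.g⁻¹ = -((rot * rot) * d.mat d.g⁻¹) := by
              rw [show rot * rot = (-1 : Mat3) by decide +kernel]; simp
          _ = -rot := by rw [mul_assoc, ← h, mul_one]
      rw [hmat _ (d.M₀.inv_mem d.g_mem) hgi (by rw [e, d.π₆_inv d.g_mem, d.π_g]), hginv, neg_mul] at hkey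
      exact Or.inr hkey.symm
  have hrelc : d.mat x * d.mat d.c = d.mat d.c * d.mat x ∨ d.mat x * d.mat d.c = -(d.mat d.c * d.mat x) := by
    set y := x * d.c * x⁻¹ with hy
    have hcL₀ := d.L_le d.c_mem
    have hwL₀ := d.S_le_L₀ (d.J_le d.w_mem_J)
    have hxN : x ∈ Subgroup.normalizer (Subgroup.zpowers d.z : Set G) := d.mem_NZ_of_commute (commute_of_conj_eq hz)
    have hyL₀ : y ∈ d.L₀ := d.L₀_conj x hxN _ hcL₀
    have hyT : y ∈ d.T2 := d.T2.mul_mem (d.T2.mul_mem hxT hcT) hxi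
    have hkey : d.mat y * d.mat x = d.mat x * d.mat d.c := by
      rw [← d.mat_mul hyT hxT, ← d.mat_mul hxT hcT, hy, inv_mul_cancel_right]
    have hyw : y * d.w * y⁻¹ = d.w⁻¹ := by
      have hxw : x⁻¹ * d.w * x⁻¹⁻¹ = d.w :=
        conj_eq_of_commute (show Commute x⁻¹ d.w from (show Commute x d.w from commute_of_conj_eq hw).inv_left).eq
      rw [hy, show x * d.c * x⁻¹ * d.w * (x * d.c * x⁻¹)⁻¹ = x * (d.c * (x⁻¹ * d.w * x⁻¹⁻¹) * d.c⁻¹) * x⁻¹ by group,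
        hxw, show d.c * d.w * d.c⁻¹ = d.w⁻¹ from d.c_w, ← conj_inv, hw]
    have hyt : y * d.t = d.t * y :=
      (((show Commute x d.t from hxt).mul_left (show Commute d.c d.t from d.L_t _ d.c_mem)).mul_left
        (show Commute x d.t from hxt).inv_left).eq
    obtain ⟨c0, -, -, hd⟩ := SL5_invert _ (d.π₅_S_cube (d.J_le d.w_mem_J)) (fun e =>
      d.w_notMem_A ⟨d.w_mem_J, (d.ker₅ _ hwL₀).1 e⟩)
    have hcw' : d.π₅ d.c * d.π₅ d.w * (d.π₅ d.c)⁻¹ = (d.π₅ d.w)⁻¹ := by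
      rw [← d.π₅_conj hcL₀ hwL₀, show d.c * d.w * d.c⁻¹ = d.w⁻¹ from d.c_w, d.π₅_inv hwL₀]
    have hyw' : d.π₅ y * d.π₅ d.w * (d.π₅ y)⁻¹ = (d.π₅ d.w)⁻¹ := by
      rw [← d.π₅_conj hyL₀ hwL₀, hyw, d.π₅_inv hwL₀]
    have hq : d.π₅ (y * d.c⁻¹) * d.π₅ d.w * (d.π₅ (y * d.c⁻¹))⁻¹ = d.π₅ d.w := by
      rw [d.map₅ _ hyL₀ _ (d.L₀.inv_mem hcL₀), d.π₅_inv hcL₀]
      have e1 : (d.π₅ d.c)⁻¹ * (d.π₅ d.w)⁻¹ * d.π₅ d.c = d.π₅ d.w := by rw [← hcw']; group
      calc d.π₅ y * (d.π₅ d.c)⁻¹ * d.π₅ d.w * (d.π₅ y * (d.π₅ d.c)⁻¹)⁻¹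
          = d.π₅ y * ((d.π₅ d.c)⁻¹ * (d.π₅ d.w)⁻¹ * d.π₅ d.c)⁻¹ * (d.π₅ y)⁻¹ := by group
        _ = d.π₅ d.w := by rw [e1, ← conj_inv, hyw', inv_inv]
    obtain ⟨i, -, hi⟩ := (hd _).1 hq
    have hycL := d.L₀.mul_mem hyL₀ (d.L₀.inv_mem hcL₀)
    have hyct : y * d.c⁻¹ * d.t = d.t * (y * d.c⁻¹) :=
      ((show Commute y d.t from hyt).mul_left (show Commute d.c d.t from d.L_t _ d.c_mem).inv_left).eq
    have hsign : d.mat (y * d.c⁻¹) = 1 ∨ d.mat (y * d.c⁻¹) = -1 := by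
      have hwi := d.L₀.pow_mem hwL₀ i
      rcases hi with hi | hi
      · have hJ : (d.w ^ i)⁻¹ * (y * d.c⁻¹) ∈ d.Z := by
          refine d.involution_cent_Q d.t_mem d.t_sq d.π_t ((d.π₅_eq_iff hwi hycL).1 (by rw [d.π₅_pow hwL₀, hi])) ?_
          exact (((show Commute d.t d.w from d.t_w').pow_right i).inv_right.mul_right
            (show Commute d.t (y * d.c⁻¹) from hyct.symm)).eq
        left
        have : y * d.c⁻¹ ∈ d.J := by
          have := d.J.mul_mem (d.J.pow_mem d.w_mem_J i) (d.A_le_J (d.Z_le_A hJ))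
          rwa [mul_inv_cancel_left] at this
        exact d.mat_J this
      · have hJ : (d.t * d.w ^ i)⁻¹ * (y * d.c⁻¹) ∈ d.Z := by
          refine d.involution_cent_Q d.t_mem d.t_sq d.π_t ((d.π₅_eq_iff (d.L₀.mul_mem d.t_mem hwi) hycL).1 (by
            rw [d.map₅ _ d.t_mem _ hwi, d.π_t, d.π₅_pow hwL₀, hi])) ?_
          exact (((Commute.refl d.t).mul_right ((show Commute d.t d.w from d.t_w').pow_right i)).inv_right.mul_right
            (show Commute d.t (y * d.c⁻¹) from hyct.symm)).eq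
        right
        set u := (d.t * d.w ^ i)⁻¹ * (y * d.c⁻¹) with hu
        have e : y * d.c⁻¹ = d.t * (d.w ^ i * u) := by rw [hu]; group
        have hmJ : d.w ^ i * u ∈ d.J := d.J.mul_mem (d.J.pow_mem d.w_mem_J i) (d.A_le_J (d.Z_le_A hJ))
        rw [e, d.mat_mul d.t_mem_T2 (d.J_le_T2 hmJ), d.mat_t, d.mat_J hmJ, mul_one]
    have hym : d.mat y = d.mat (y * d.c⁻¹) * d.mat d.c := by
      rw [← d.mat_mul (d.T2.mul_mem hyT (d.T2.inv_mem hcT)) hcT, inv_mul_cancel_right]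
    rcases hsign with e | e <;> rw [e] at hym
    · rw [hym, one_mul] at hkey
      exact Or.inl hkey.symm
    · rw [hym, neg_mul, one_mul, neg_mul] at hkey
      exact Or.inr hkey.symm
  rcases mat_pair _ hc2 hca _ (d.mat_det hxT) hrelg hrelc with e | e | e | e | e | e | e | e
  · exact Or.inl e
  · exact Or.inr (Or.inl e)
  · exact Or.inr (Or.inr (Or.inl e))
  · exact Or.inr (Or.inr (Or.inr e))
  all_goals exfalso
  · -- `c`
    have hu := d.T2.mul_mem hxi hcT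
    have h := d.no_reflection hu (by
      rw [show x⁻¹ * d.c * d.z * (x⁻¹ * d.c)⁻¹ = x⁻¹ * (d.c * d.z * d.c⁻¹) * x by group, d.c_z]
      conv_lhs => rw [← hz]
      group)
      (by rw [d.mat_mul hxi hcT, ← e, ← d.mat_mul hxi hxT, inv_mul_cancel, d.mat_one])
    rw [show x⁻¹ * d.c * d.w * (x⁻¹ * d.c)⁻¹ = x⁻¹ * (d.c * d.w * d.c⁻¹) * x by group,
      show d.c * d.w * d.c⁻¹ = d.w⁻¹ from d.c_w] at h
    have h2 : x * d.w * x⁻¹ = d.w⁻¹ := by
      conv_lhs => rw [← h]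
      group
    rw [hw] at h2
    exact d.sg_ne_one d.sg_w (d.eq_one_of_sq d.w_mem_J (mul_eq_one_iff_eq_inv.2 h2))
  · -- `-c`
    have hct := d.T2.mul_mem d.t_mem_T2 hcT
    have hu := d.T2.mul_mem hxi hct
    have h := d.no_reflection hu (by
      rw [show x⁻¹ * (d.t * d.c) * d.z * (x⁻¹ * (d.t * d.c))⁻¹ = x⁻¹ * (d.t * (d.c * d.z * d.c⁻¹) * d.t⁻¹) * x
        by group, d.c_z, conj_eq_of_commute d.t_z]
      conv_lhs => rw [← hz]
      group)
      (by rw [d.mat_mul hxi hct, d.mat_mul d.t_mem_T2 hcT, d.mat_t, neg_mul, one_mul, ← e, ← d.mat_mul hxi hxT,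
        inv_mul_cancel, d.mat_one])
    rw [show x⁻¹ * (d.t * d.c) * d.w * (x⁻¹ * (d.t * d.c))⁻¹ = x⁻¹ * (d.t * (d.c * d.w * d.c⁻¹) * d.t⁻¹) * x
      by group, show d.c * d.w * d.c⁻¹ = d.w⁻¹ from d.c_w, ← conj_inv, conj_eq_of_commute d.t_w'] at h
    have h2 : x * d.w * x⁻¹ = d.w⁻¹ := by
      conv_lhs => rw [← h]
      group
    rw [hw] at h2
    exact d.sg_ne_one d.sg_w (d.eq_one_of_sq d.w_mem_J (mul_eq_one_iff_eq_inv.2 h2))
  · -- `c g`
    have hcg := d.T2.mul_mem hcT d.g_mem_T2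
    have hu := d.T2.mul_mem hxi hcg
    have h := d.w_fixed hu (by
      rw [show x⁻¹ * (d.c * d.g) * d.w * (x⁻¹ * (d.c * d.g))⁻¹ = x⁻¹ * (d.c * (d.g * d.w * d.g⁻¹) * d.c⁻¹) * x
        by group, d.g_z_w.2, ← conj_inv, show d.c * d.w * d.c⁻¹ = d.w⁻¹ from d.c_w, inv_inv]
      conv_lhs => rw [← hw]
      group)
      (by rw [d.mat_mul hxi hcg, d.mat_mul hcT d.g_mem_T2, d.mat_g, ← e, ← d.mat_mul hxi hxT,
        inv_mul_cancel, d.mat_one])
    rw [show x⁻¹ * (d.c * d.g) * d.z * (x⁻¹ * (d.c * d.g))⁻¹ = x⁻¹ * (d.c * (d.g * d.z * d.g⁻¹) * d.c⁻¹) * x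
        by group, d.g_z_w.1, ← conj_inv, d.c_z] at h
    have h2 : x * d.z * x⁻¹ = d.z⁻¹ := by
      conv_lhs => rw [← h]
      group
    rw [hz] at h2
    exact d.z_ne (d.eq_one_of_sq d.z_mem_J (mul_eq_one_iff_eq_inv.2 h2))
  · -- `-c g`
    have hcg := d.T2.mul_mem hcT d.g_mem_T2
    have htcg := d.T2.mul_mem d.t_mem_T2 hcg
    have hu := d.T2.mul_mem hxi htcg
    have h := d.w_fixed hu (by
      rw [show x⁻¹ * (d.t * (d.c * d.g)) * d.w * (x⁻¹ * (d.t * (d.c * d.g)))⁻¹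
        = x⁻¹ * (d.t * (d.c * (d.g * d.w * d.g⁻¹) * d.c⁻¹) * d.t⁻¹) * x by group, d.g_z_w.2, ← conj_inv,
        show d.c * d.w * d.c⁻¹ = d.w⁻¹ from d.c_w, inv_inv, conj_eq_of_commute d.t_w']
      conv_lhs => rw [← hw]
      group)
      (by rw [d.mat_mul hxi htcg, d.mat_mul d.t_mem_T2 hcg, d.mat_mul hcT d.g_mem_T2, d.mat_t, d.mat_g,
        neg_mul, one_mul, ← e, ← d.mat_mul hxi hxT, inv_mul_cancel, d.mat_one])
    rw [show x⁻¹ * (d.t * (d.c * d.g)) * d.z * (x⁻¹ * (d.t * (d.c * d.g)))⁻¹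
        = x⁻¹ * (d.t * (d.c * (d.g * d.z * d.g⁻¹) * d.c⁻¹) * d.t⁻¹) * x by group, d.g_z_w.1, ← conj_inv, d.c_z,
        ← conj_inv, conj_eq_of_commute d.t_z] at h
    have h2 : x * d.z * x⁻¹ = d.z⁻¹ := by
      conv_lhs => rw [← h]
      group
    rw [hz] at h2
    exact d.z_ne (d.eq_one_of_sq d.z_mem_J (mul_eq_one_iff_eq_inv.2 h2))

end Pair

end Cfsg.Agent.McLThree
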