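/-
`N(P)` inside `C(t)`: the dihedral group of order eight on `P`.
-/
import Cfsg.Agent.Lib.McLThree.Mat

set_option autoImplicit false
set_option maxRecDepth 100000
set_option linter.style.longLine false
set_option linter.style.haveILetI false

namespace Cfsg.Agent.McLThree

theorem rot_four : ∀ M ∈ ([1, -1, rot, -rot] : List Mat3), M ^ 4 = 1 := by decide +kernel

namespace Pair

variable {G : Type*} [Group G] [Finite G] (d : Pair G)

/-- The element inverting `z` and centralizing `w`. -/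
def h : G := (d.g * d.c) ^ 9

theorem mat_gc : d.mat (d.g * d.c) = rot * d.mat d.c := by
  rw [d.mat_mul d.g_mem_T2 d.c_mem_T2, d.mat_g]

theorem gc_T2 : d.g * d.c ∈ d.T2 := d.T2.mul_mem d.g_mem_T2 d.c_mem_T2

theorem mat_gc_sq : d.mat (d.g * d.c) * d.mat (d.g * d.c) = -1 := by
  obtain ⟨h2, ha⟩ := d.mat_c
  rw [d.mat_gc]
  calc rot * d.mat d.c * (rot * d.mat d.c) = rot * (d.mat d.c * rot) * d.mat d.c := by simp only [mul_assoc]
    _ = -(rot * rot * (d.mat d.c * d.mat d.c)) := by rw [ha]; simp only [mul_neg, neg_mul, mul_assoc]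
    _ = -1 := by rw [h2, show rot * rot = (-1 : Mat3) by decide +kernel]; simp

theorem gc_z : d.g * d.c * d.z * (d.g * d.c)⁻¹ = d.z⁻¹ := by
  rw [show d.g * d.c * d.z * (d.g * d.c)⁻¹ = d.g * (d.c * d.z * d.c⁻¹) * d.g⁻¹ by group, d.c_z, d.g_z_w.1]

theorem gc_w : d.g * d.c * d.w * (d.g * d.c)⁻¹ = d.w := by
  rw [show d.g * d.c * d.w * (d.g * d.c)⁻¹ = d.g * (d.c * d.w * d.c⁻¹) * d.g⁻¹ by group,
    show d.c * d.w * d.c⁻¹ = d.w⁻¹ from d.c_w, ← conj_inv, d.g_z_w.2, inv_inv]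

theorem gc_t : d.g * d.c * d.t = d.t * (d.g * d.c) :=
  ((show Commute d.g d.t from d.g_t).mul_left (show Commute d.c d.t from d.L_t _ d.c_mem)).eq

theorem gc_four : (d.g * d.c) ^ 4 ∈ d.J := by
  have hT := d.T2.pow_mem d.gc_T2 4
  refine d.mem_J_of_trivial hT ?_ ?_
  · have e : ∀ v, d.g * d.c * (d.g * d.c * v * (d.g * d.c)⁻¹) * (d.g * d.c)⁻¹
        = (d.g * d.c) ^ 2 * v * ((d.g * d.c) ^ 2)⁻¹ := fun v => by rw [pow_two]; group
    have h2 : (d.g * d.c) ^ 2 * d.z * ((d.g * d.c) ^ 2)⁻¹ = d.z := by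
      rw [← e, d.gc_z, ← conj_inv, d.gc_z, inv_inv]
    calc (d.g * d.c) ^ 4 * d.z * ((d.g * d.c) ^ 4)⁻¹
        = (d.g * d.c) ^ 2 * ((d.g * d.c) ^ 2 * d.z * ((d.g * d.c) ^ 2)⁻¹) * ((d.g * d.c) ^ 2)⁻¹ := by
          rw [show (4 : ℕ) = 2 + 2 from rfl, pow_add]; group
      _ = d.z := by rw [h2, h2]
  · have h2 : d.mat ((d.g * d.c) ^ 2) = -1 := by rw [pow_two, d.mat_mul d.gc_T2 d.gc_T2, d.mat_gc_sq]
    rw [show (4 : ℕ) = 2 + 2 from rfl, pow_add, d.mat_mul (d.T2.pow_mem d.gc_T2 2) (d.T2.pow_mem d.gc_T2 2), h2]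
    simp

theorem h_t : d.h * d.t = d.t * d.h := ((show Commute _ d.t from d.gc_t).pow_left 9).eq

theorem h_eq : ∃ j ∈ d.J, d.h = d.g * d.c * j := by
  obtain ⟨-, hj⟩ := two_part d.J_exp d.gc_four
  exact ⟨_, hj, by rw [h]; group⟩

theorem h_mem_T2 : d.h ∈ d.T2 := d.T2.pow_mem d.gc_T2 9

theorem h_z : d.h * d.z * d.h⁻¹ = d.z⁻¹ := by
  obtain ⟨j, hj, e⟩ := d.h_eq
  rw [e, show d.g * d.c * j * d.z * (d.g * d.c * j)⁻¹ = d.g * d.c * (j * d.z * j⁻¹) * (d.g * d.c)⁻¹ by group,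
    conj_eq_of_commute (d.J_comm j hj _ d.z_mem_J), d.gc_z]

theorem h_w : d.h * d.w * d.h⁻¹ = d.w := by
  obtain ⟨j, hj, e⟩ := d.h_eq
  rw [e, show d.g * d.c * j * d.w * (d.g * d.c * j)⁻¹ = d.g * d.c * (j * d.w * j⁻¹) * (d.g * d.c)⁻¹ by group,
    conj_eq_of_commute (d.J_comm j hj _ d.w_mem_J), d.gc_w]

theorem mat_h : d.mat d.h = rot * d.mat d.c := by
  obtain ⟨j, hj, e⟩ := d.h_eq
  rw [e, d.mat_mul d.gc_T2 (d.J_le_T2 hj), d.mat_J hj, mul_one, d.mat_gc]

theorem h_sq : d.h * d.h = d.t := by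
  obtain ⟨h4, -⟩ := two_part d.J_exp d.gc_four
  have hh4 : d.h ^ 4 = 1 := h4
  have hT := d.T2.mul_mem (d.T2.mul_mem d.h_mem_T2 d.h_mem_T2) d.t_mem_T2
  have hJ : d.h * d.h * d.t ∈ d.J := by
    refine d.mem_J_of_trivial hT ?_ ?_
    · rw [show d.h * d.h * d.t * d.z * (d.h * d.h * d.t)⁻¹ = d.h * (d.h * (d.t * d.z * d.t⁻¹) * d.h⁻¹) * d.h⁻¹
        by group, conj_eq_of_commute d.t_z, d.h_z, ← conj_inv, d.h_z, inv_inv]
    · rw [d.mat_mul (d.T2.mul_mem d.h_mem_T2 d.h_mem_T2) d.t_mem_T2, d.mat_mul d.h_mem_T2 d.h_mem_T2, d.mat_h,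
        ← d.mat_gc, d.mat_gc_sq, d.mat_t]
      simp
  have hc : Commute (d.h * d.h) d.t := (show Commute d.h d.t from d.h_t).mul_left d.h_t
  have h2 : d.h * d.h * d.t * (d.h * d.h * d.t) = 1 := by
    calc d.h * d.h * d.t * (d.h * d.h * d.t) = d.h * d.h * (d.t * (d.h * d.h)) * d.t := by group
      _ = d.h ^ 4 * (d.t * d.t) := by rw [← hc.eq]; simp only [pow_succ, pow_zero, one_mul, mul_assoc]
      _ = 1 := by rw [hh4, d.t_sq, one_mul]
  have h1 := d.eq_one_of_sq hJ h2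
  rw [mul_eq_one_iff_eq_inv, d.t_inv] at h1
  exact h1

theorem conj_P {x p : G} (hx : x ∈ Subgroup.normalizer (d.J : Set G)) (hxt : x * d.t = d.t * x) (hp : p ∈ d.P) :
    x * p * x⁻¹ ∈ d.P :=
  d.mem_P.2 ⟨(Subgroup.mem_normalizer_iff.1 hx p).1 (d.P_le_J hp),
    (((show Commute x d.t from hxt).mul_left (show Commute p d.t from (d.mem_P.1 hp).2)).mul_left
      (show Commute x d.t from hxt).inv_left).eq⟩

theorem n_NJ : d.n ∈ Subgroup.normalizer (d.J : Set G) := d.M₀_le d.n_mem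

/-- Elements of `C(t) ∩ C(P)` normalize `J`. -/
theorem cent_T2 {x : G} (hz : x * d.z = d.z * x) (hw : x * d.w = d.w * x) : x ∈ d.T2 :=
  ⟨d.cent_P_le hz hw, Or.inl (conj_eq_of_commute hz), Or.inl (conj_eq_of_commute hw)⟩

/-- `C(t) ∩ C(P)`: either it acts through `⟨t⟩`, or through a rotation. -/
theorem cent_P_mat {x : G} (hxt : x * d.t = d.t * x) (hz : x * d.z = d.z * x) (hw : x * d.w = d.w * x) :
    (∃ p ∈ d.P, x = p ∨ x = d.t * p) ∨ d.mat x = rot ∨ d.mat x = -rot := by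
  have hT := d.cent_T2 hz hw
  rcases d.mat_cent_P hT (conj_eq_of_commute hz) (conj_eq_of_commute hw) hxt with e | e | e | e
  · exact Or.inl ⟨x, d.mem_P.2 ⟨d.mem_J_of_trivial hT (conj_eq_of_commute hz) e, hxt⟩, Or.inl rfl⟩
  · refine Or.inl ⟨d.t * x, d.mem_P.2 ⟨d.mem_J_of_trivial (d.T2.mul_mem d.t_mem_T2 hT) ?_ ?_, ?_⟩, Or.inr ?_⟩
    · rw [show d.t * x * d.z * (d.t * x)⁻¹ = d.t * (x * d.z * x⁻¹) * d.t⁻¹ by group, conj_eq_of_commute hz,
        conj_eq_of_commute d.t_z]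
    · rw [d.mat_mul d.t_mem_T2 hT, d.mat_t, e]; simp
    · exact ((Commute.refl d.t).mul_left (show Commute x d.t from hxt)).eq
    · rw [← mul_assoc, d.t_sq, one_mul]
  · exact Or.inr (Or.inl e)
  · exact Or.inr (Or.inr e)

/-- Some element of `C(t) ∩ C(P)` rotates `E`. -/
def Outer : Prop := ∃ x : G, x * d.t = d.t * x ∧ x * d.z = d.z * x ∧ x * d.w = d.w * x ∧ d.mat x = rot

theorem exists_r (ho : d.Outer) : ∃ r : G, r * r = d.t ∧ r * d.z = d.z * r ∧ r * d.w = d.w * r ∧ d.mat r = rot := by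
  obtain ⟨x, hxt, hz, hw, hx⟩ := ho
  have hT := d.cent_T2 hz hw
  have hpow : ∀ k : ℕ, d.mat (x ^ k) = rot ^ k := by
    intro k
    induction k with
    | zero => rw [pow_zero, pow_zero, d.mat_one]
    | succ k ih => rw [pow_succ, pow_succ, d.mat_mul (d.T2.pow_mem hT k) hT, ih, hx]
  have hzk : ∀ k : ℕ, x ^ k * d.z * (x ^ k)⁻¹ = d.z := fun k =>
    conj_eq_of_commute ((show Commute x d.z from hz).pow_left k).eq
  have h4 : x ^ 4 ∈ d.J := d.mem_J_of_trivial (d.T2.pow_mem hT 4) (hzk 4) (by rw [hpow]; decide +kernel)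
  obtain ⟨h9, -⟩ := two_part d.J_exp h4
  have hz9 : x ^ 9 * d.z = d.z * x ^ 9 := ((show Commute x d.z from hz).pow_left 9).eq
  have hw9 : x ^ 9 * d.w = d.w * x ^ 9 := ((show Commute x d.w from hw).pow_left 9).eq
  refine ⟨x ^ 9, ?_, hz9, hw9, by rw [hpow]; decide +kernel⟩
  have hJ : x ^ 18 * d.t ∈ d.J := by
    refine d.mem_J_of_trivial (d.T2.mul_mem (d.T2.pow_mem hT 18) d.t_mem_T2) ?_ ?_
    · rw [show x ^ 18 * d.t * d.z * (x ^ 18 * d.t)⁻¹ = x ^ 18 * (d.t * d.z * d.t⁻¹) * (x ^ 18)⁻¹ by group,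
        conj_eq_of_commute d.t_z, hzk]
    · rw [d.mat_mul (d.T2.pow_mem hT 18) d.t_mem_T2, hpow, d.mat_t]; decide +kernel
  have hc : Commute (x ^ 18) d.t := (show Commute x d.t from hxt).pow_left 18
  have h2 : x ^ 18 * d.t * (x ^ 18 * d.t) = 1 := by
    calc x ^ 18 * d.t * (x ^ 18 * d.t) = x ^ 18 * (d.t * x ^ 18) * d.t := by group
      _ = x ^ 36 * (d.t * d.t) := by rw [← hc.eq, show x ^ 36 = x ^ 18 * x ^ 18 from (pow_add x 18 18)]; group
      _ = 1 := by rw [d.t_sq, mul_one, show (36 : ℕ) = 9 * 4 from rfl, pow_mul, h9]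
  have h1 := d.eq_one_of_sq hJ h2
  rw [mul_eq_one_iff_eq_inv, d.t_inv] at h1
  rw [← pow_add]
  exact h1

theorem cent_P_of_not_outer (ho : ¬ d.Outer) {x : G} (hxt : x * d.t = d.t * x) (hz : x * d.z = d.z * x)
    (hw : x * d.w = d.w * x) : ∃ p ∈ d.P, x = p ∨ x = d.t * p := by
  rcases d.cent_P_mat hxt hz hw with h | h | h
  · exact h
  · exact absurd ⟨x, hxt, hz, hw, h⟩ ho
  · refine absurd ⟨d.t * x, ((Commute.refl d.t).mul_left (show Commute x d.t from hxt)).eq,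
      ((show Commute d.t d.z from d.t_z).mul_left (show Commute x d.z from hz)).eq,
      ((show Commute d.t d.w from d.t_w').mul_left (show Commute x d.w from hw)).eq, ?_⟩ ho
    rw [d.mat_mul d.t_mem_T2 (d.cent_T2 hz hw), d.mat_t, h]; simp

theorem cent_P_outer {r : G} (hr2 : r * r = d.t) (hrz : r * d.z = d.z * r) (hrw : r * d.w = d.w * r)
    (hrm : d.mat r = rot) {x : G} (hxt : x * d.t = d.t * x) (hz : x * d.z = d.z * x) (hw : x * d.w = d.w * x) :
    ∃ p ∈ d.P, x = p ∨ x = d.t * p ∨ x = r * p ∨ x = r * d.t * p := by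
  have hrt : r * d.t = d.t * r := by rw [← hr2]; group
  have key : ∀ {u}, u * d.t = d.t * u → u * d.z = d.z * u → u * d.w = d.w * u → d.mat u = rot →
      ∃ p ∈ d.P, u = r * p := by
    intro u hut huz huw hu
    have hri : d.mat r⁻¹ * rot = 1 := by
      rw [← hrm, ← d.mat_mul (d.T2.inv_mem (d.cent_T2 hrz hrw)) (d.cent_T2 hrz hrw), inv_mul_cancel, d.mat_one]
    refine ⟨r⁻¹ * u, d.mem_P.2 ⟨d.mem_J_of_trivial (d.T2.mul_mem (d.T2.inv_mem (d.cent_T2 hrz hrw))
      (d.cent_T2 huz huw)) ?_ ?_, ?_⟩, by group⟩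
    · exact conj_eq_of_commute ((show Commute r d.z from hrz).inv_left.mul_left huz).eq
    · rw [d.mat_mul (d.T2.inv_mem (d.cent_T2 hrz hrw)) (d.cent_T2 huz huw), hu, hri]
    · exact ((show Commute r d.t from hrt).inv_left.mul_left (show Commute u d.t from hut)).eq
  rcases d.cent_P_mat hxt hz hw with ⟨p, hp, h⟩ | h | h
  · exact ⟨p, hp, h.elim Or.inl (fun h => Or.inr (Or.inl h))⟩
  · obtain ⟨p, hp, e⟩ := key hxt hz hw h
    exact ⟨p, hp, Or.inr (Or.inr (Or.inl e))⟩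
  · obtain ⟨p, hp, e⟩ := key (u := d.t * x) ((Commute.refl d.t).mul_left (show Commute x d.t from hxt)).eq
      ((show Commute d.t d.z from d.t_z).mul_left (show Commute x d.z from hz)).eq
      ((show Commute d.t d.w from d.t_w').mul_left (show Commute x d.w from hw)).eq
      (by rw [d.mat_mul d.t_mem_T2 (d.cent_T2 hz hw), d.mat_t, h]; simp)
    refine ⟨p, hp, Or.inr (Or.inr (Or.inr ?_))⟩
    calc x = d.t * (d.t * x) := by rw [← mul_assoc, d.t_sq, one_mul]
      _ = r * d.t * p := by rw [e, ← mul_assoc, ← hrt]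

/-- The representatives of the sign changes. -/
noncomputable def rep (i : Bool × Bool × Bool) : G :=
  (if i.1 then d.n else 1) * ((if i.2.1 then d.h else 1) * (if i.2.2 then d.c else 1))

/-- The image of `z` and `w` under a representative. -/
theorem rep_act (i : Bool × Bool × Bool) :
    d.rep i * d.z * (d.rep i)⁻¹ = (if i.1 then (if i.2.1 then d.w⁻¹ else d.w) else (if i.2.1 then d.z⁻¹ else d.z)) ∧
      d.rep i * d.w * (d.rep i)⁻¹ =
        (if i.1 then (if i.2.2 then d.z⁻¹ else d.z) else (if i.2.2 then d.w⁻¹ else d.w)) := by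
  have hc := d.c_z
  have hcw : d.c * d.w * d.c⁻¹ = d.w⁻¹ := d.c_w
  have e : ∀ a b c v : G, a * (b * c) * v * (a * (b * c))⁻¹ = a * (b * (c * v * c⁻¹) * b⁻¹) * a⁻¹ :=
    fun a b c v => by group
  obtain ⟨x, y, u⟩ := i
  constructor <;> rw [rep, e] <;> cases x <;> cases y <;> cases u <;>
    simp only [Bool.false_eq_true, if_false, if_true, one_mul, inv_one, mul_one, ← conj_inv, inv_inv,
      hc, hcw, d.h_z, d.h_w, d.n_z, d.n_w]

theorem rep_t (i : Bool × Bool × Bool) : d.rep i * d.t = d.t * d.rep i := by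
  have h1 : ∀ (b : Bool) (u : G), u * d.t = d.t * u → Commute (if b then u else 1) d.t := fun b u hu => by
    cases b
    · exact Commute.one_left _
    · exact hu
  exact ((h1 _ _ d.n_t).mul_left ((h1 _ _ d.h_t).mul_left (h1 _ _ (d.L_t _ d.c_mem)))).eq

theorem zw_distinct {u v : G} (hu : u = d.z ∨ u = d.z⁻¹) (hv : v = d.w ∨ v = d.w⁻¹) : u ≠ v := by
  intro e
  have hzm : u ∈ d.Z := by
    rcases hu with rfl | rfl
    exacts [d.z_mem_Z, d.Z.inv_mem d.z_mem_Z]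
  rcases hv with rfl | rfl
  · exact d.w_notMem_Z (e ▸ hzm)
  · exact d.w_notMem_Z (inv_mem_iff.1 (e ▸ hzm))

theorem ne_inv {v : G} (hv : d.Sg v) : v ≠ v⁻¹ := fun e =>
  d.sg_ne_one hv (d.eq_one_of_sq (d.sg_mem_J hv) (mul_eq_one_iff_eq_inv.2 e))

theorem rep_unique {i j : Bool × Bool × Bool} {x y : G} (hxz : x * d.z * x⁻¹ = d.z) (hxw : x * d.w * x⁻¹ = d.w)
    (hyz : y * d.z * y⁻¹ = d.z) (hyw : y * d.w * y⁻¹ = d.w) (h : d.rep i * x = d.rep j * y) : i = j := by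
  have e : ∀ u, x * u * x⁻¹ = u → y * u * y⁻¹ = u → d.rep i * u * (d.rep i)⁻¹ = d.rep j * u * (d.rep j)⁻¹ := by
    intro u hx hy
    calc d.rep i * u * (d.rep i)⁻¹ = d.rep i * (x * u * x⁻¹) * (d.rep i)⁻¹ := by rw [hx]
      _ = d.rep i * x * u * (d.rep i * x)⁻¹ := by group
      _ = d.rep j * (y * u * y⁻¹) * (d.rep j)⁻¹ := by rw [h]; group
      _ = _ := by rw [hy]
  have h1 := e _ hxz hyz
  have h2 := e _ hxw hyw
  rw [(d.rep_act i).1, (d.rep_act j).1] at h1
  rw [(d.rep_act i).2, (d.rep_act j).2] at h2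
  have hz := d.ne_inv d.sg_z
  have hw := d.ne_inv d.sg_w
  have d1 := d.zw_distinct (Or.inl rfl) (Or.inl rfl)
  have d2 := d.zw_distinct (Or.inl rfl) (Or.inr rfl)
  have d3 := d.zw_distinct (Or.inr rfl) (Or.inl rfl)
  have d4 := d.zw_distinct (Or.inr rfl) (Or.inr rfl)
  obtain ⟨a, b, c⟩ := i
  obtain ⟨a', b', c'⟩ := j
  revert h1 h2
  cases a <;> cases b <;> cases c <;> cases a' <;> cases b' <;> cases c' <;>
    simp only [Bool.false_eq_true, if_false, if_true, imp_self, implies_true, Prod.mk.injEq, and_self, reduceIte] <;>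
    intro h1 h2 <;>
    first
    | exact absurd h1 hz
    | exact absurd h1.symm hz
    | exact absurd h1 hw
    | exact absurd h1.symm hw
    | exact absurd h2 hz
    | exact absurd h2.symm hz
    | exact absurd h2 hw
    | exact absurd h2.symm hw
    | exact absurd h1 d1
    | exact absurd h1 d2
    | exact absurd h1 d3
    | exact absurd h1 d4
    | exact absurd h1.symm d1
    | exact absurd h1.symm d2
    | exact absurd h1.symm d3
    | exact absurd h1.symm d4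

/-- Every element of `N(P) ∩ C(t)` is a representative times an element centralizing `P`. -/
theorem norm_P {x : G} (hxt : x * d.t = d.t * x) (hx : ∀ p ∈ d.P, x * p * x⁻¹ ∈ d.P) :
    ∃ i y, y * d.t = d.t * y ∧ y * d.z = d.z * y ∧ y * d.w = d.w * y ∧ x = d.rep i * y := by
  have hzP := hx _ d.z_mem_P
  have hwP := hx _ d.w_mem_P
  have hz4 := d.sg_P (d.sg_conj d.sg_z (d.P_le_J hzP)) hzP
  have hw4 := d.sg_P (d.sg_conj d.sg_w (d.P_le_J hwP)) hwP
  have hdiff : x * d.z * x⁻¹ ≠ x * d.w * x⁻¹ ∧ x * d.z * x⁻¹ ≠ (x * d.w * x⁻¹)⁻¹ := by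
    refine ⟨fun e => d.zw_distinct (Or.inl rfl) (Or.inl rfl) (mul_left_cancel (mul_right_cancel e)), fun e => ?_⟩
    rw [conj_inv] at e
    exact d.zw_distinct (Or.inl rfl) (Or.inr rfl) (mul_left_cancel (mul_right_cancel e))
  obtain ⟨i, h1, h2⟩ : ∃ i, x * d.z * x⁻¹ = d.rep i * d.z * (d.rep i)⁻¹ ∧
      x * d.w * x⁻¹ = d.rep i * d.w * (d.rep i)⁻¹ := by
    rcases hz4 with a | a | a | a <;> rcases hw4 with b | b | b | b <;> rw [a, b] at hdiff <;>
      simp only [ne_eq, not_true_eq_false, inv_inv, and_false, false_and] at hdiff <;> rw [a, b]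
    · exact ⟨(false, false, false), by simp [d.rep_act]⟩
    · exact ⟨(false, false, true), by simp [d.rep_act]⟩
    · exact ⟨(false, true, false), by simp [d.rep_act]⟩
    · exact ⟨(false, true, true), by simp [d.rep_act]⟩
    · exact ⟨(true, false, false), by simp [d.rep_act]⟩
    · exact ⟨(true, false, true), by simp [d.rep_act]⟩
    · exact ⟨(true, true, false), by simp [d.rep_act]⟩
    · exact ⟨(true, true, true), by simp [d.rep_act]⟩
  refine ⟨i, (d.rep i)⁻¹ * x, ((show Commute (d.rep i) d.t from d.rep_t i).inv_left.mul_left hxt).eq, ?_, ?_,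
    by group⟩
  · refine commute_of_conj_eq ?_
    calc (d.rep i)⁻¹ * x * d.z * ((d.rep i)⁻¹ * x)⁻¹ = (d.rep i)⁻¹ * (x * d.z * x⁻¹) * d.rep i := by group
      _ = d.z := by rw [h1]; group
  · refine commute_of_conj_eq ?_
    calc (d.rep i)⁻¹ * x * d.w * ((d.rep i)⁻¹ * x)⁻¹ = (d.rep i)⁻¹ * (x * d.w * x⁻¹) * d.rep i := by group
      _ = d.w := by rw [h2]; group

theorem rep_conj_P (i : Bool × Bool × Bool) {p : G} (hp : p ∈ d.P) : d.rep i * p * (d.rep i)⁻¹ ∈ d.P := by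
  refine d.conj_P ?_ (d.rep_t i) hp
  have h1 : ∀ (b : Bool) (u : G), u ∈ Subgroup.normalizer (d.J : Set G) →
      (if b then u else 1) ∈ Subgroup.normalizer (d.J : Set G) := fun b u hu => by
    cases b
    · exact Subgroup.one_mem _
    · exact hu
  exact Subgroup.mul_mem _ (h1 _ _ d.n_NJ) (Subgroup.mul_mem _ (h1 _ _ d.h_mem_T2.1) (h1 _ _ d.c_NJ))

/-- `P` is a Sylow three-subgroup of `C(t)`. -/
theorem P_maximal {R : Subgroup G} (hR : IsPGroup 3 R) (hPR : d.P ≤ R) (hRt : ∀ x ∈ R, x * d.t = d.t * x) :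
    R = d.P := by
  classical
  haveI := Fact.mk Nat.prime_three
  by_contra hne
  haveI := hR.isNilpotent
  have hlt := Group.normalizerCondition_of_isNilpotent (d.P.subgroupOf R) (by
    rw [lt_top_iff_ne_top, Ne, Subgroup.subgroupOf_eq_top]
    exact fun h => hne (le_antisymm h hPR))
  obtain ⟨x, hx, hxP⟩ := SetLike.exists_of_lt hlt
  have hconj : ∀ p ∈ d.P, (x : G) * p * (x : G)⁻¹ ∈ d.P := fun p hp =>
    (Subgroup.mem_normalizer_iff.1 hx ⟨p, hPR hp⟩).1 hp
  obtain ⟨i, y, hyt, hyz, hyw, hxy⟩ := d.norm_P (hRt _ x.2) hconj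
  obtain ⟨k, hk⟩ := Data.three_pow_of_mem hR x.2
  -- `x ^ 8` centralizes `P`
  set C := Subgroup.centralizer ({d.t} : Set G) with hC
  have h8 : ∀ u : G, u * d.t = d.t * u → (∀ p ∈ d.P, u * p * u⁻¹ ∈ d.P) →
      u ^ 8 * d.z = d.z * u ^ 8 ∧ u ^ 8 * d.w = d.w * u ^ 8 := by
    intro u hut hu
    have hstep : ∀ v ∈ [d.z, d.z⁻¹, d.w, d.w⁻¹], u * v * u⁻¹ ∈ [d.z, d.z⁻¹, d.w, d.w⁻¹] := by
      intro v hv
      simp only [List.mem_cons, List.not_mem_nil, or_false] at hv ⊢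
      have hvP : v ∈ d.P ∧ d.Sg v := by
        rcases hv with rfl | rfl | rfl | rfl
        exacts [⟨d.z_mem_P, d.sg_z⟩, ⟨d.P.inv_mem d.z_mem_P, d.sg_inv d.sg_z⟩, ⟨d.w_mem_P, d.sg_w⟩,
          ⟨d.P.inv_mem d.w_mem_P, d.sg_inv d.sg_w⟩]
      exact d.sg_P (d.sg_conj hvP.2 (d.P_le_J (hu v hvP.1))) (hu v hvP.1)
    let l : Fin 4 → G := ![d.z, d.z⁻¹, d.w, d.w⁻¹]
    have hl : ∀ a, l a ∈ [d.z, d.z⁻¹, d.w, d.w⁻¹] := fun a => by fin_cases a <;> simp [l]
    have hex : ∀ a, ∃ b, l b = u * l a * u⁻¹ := fun a => by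
      have := hstep _ (hl a)
      simp only [List.mem_cons, List.not_mem_nil, or_false] at this
      rcases this with e | e | e | e
      exacts [⟨0, e.symm⟩, ⟨1, e.symm⟩, ⟨2, e.symm⟩, ⟨3, e.symm⟩]
    choose σ hσ using hex
    have hiter : ∀ (k : ℕ) a, l (σ^[k] a) = u ^ k * l a * (u ^ k)⁻¹ := by
      intro k
      induction k with
      | zero => intro a; simp
      | succ k ih => intro a; rw [Function.iterate_succ_apply', hσ, ih, pow_succ']; group
    have hlinj : Function.Injective l := by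
      intro a b e
      have hz := d.ne_inv d.sg_z
      have hw := d.ne_inv d.sg_w
      have d1 := d.zw_distinct (Or.inl rfl) (Or.inl rfl)
      have d2 := d.zw_distinct (Or.inl rfl) (Or.inr rfl)
      have d3 := d.zw_distinct (Or.inr rfl) (Or.inl rfl)
      have d4 := d.zw_distinct (Or.inr rfl) (Or.inr rfl)
      revert e
      fin_cases a <;> fin_cases b <;> intro e <;>
        simp only [l, Fin.zero_eta, Fin.mk_one, Matrix.cons_val_zero, Matrix.cons_val_one, Matrix.cons_val,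
          Fin.reduceFinMk] at e <;>
        first
        | rfl
        | exact absurd e hz
        | exact absurd e.symm hz
        | exact absurd e hw
        | exact absurd e.symm hw
        | exact absurd e d1
        | exact absurd e d2
        | exact absurd e d3
        | exact absurd e d4
        | exact absurd e.symm d1
        | exact absurd e.symm d2
        | exact absurd e.symm d3
        | exact absurd e.symm d4
    have hcomm : ∀ a a' b b' : Fin 4, l a' = (l a)⁻¹ → l b' = u * l a' * u⁻¹ → l b = u * l a * u⁻¹ →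
        l b' = (l b)⁻¹ := fun a a' b b' h1 h2 h3 => by rw [h2, h3, h1, conj_inv]
    have hneg : ∀ a : Fin 4, l ((![1, 0, 3, 2] : Fin 4 → Fin 4) a) = (l a)⁻¹ := fun a => by
      fin_cases a <;> simp [l]
    have hσn : ∀ a, σ ((![1, 0, 3, 2] : Fin 4 → Fin 4) a) = (![1, 0, 3, 2] : Fin 4 → Fin 4) (σ a) := fun a =>
      hlinj ((hcomm _ _ _ _ (hneg a) (hσ _) (hσ a)).trans (hneg (σ a)).symm)
    have hσi : Function.Injective σ := fun a b e => hlinj (by
      have := congrArg l e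
      rw [hσ, hσ] at this
      exact mul_left_cancel (mul_right_cancel this))
    have hdec : ∀ σ : Fin 4 → Fin 4, (∀ a b, σ a = σ b → a = b) →
        (∀ a, σ ((![1, 0, 3, 2] : Fin 4 → Fin 4) a) = (![1, 0, 3, 2] : Fin 4 → Fin 4) (σ a)) →
        ∀ a, σ^[8] a = a := by decide +kernel
    refine ⟨commute_of_conj_eq ?_, commute_of_conj_eq ?_⟩
    · exact (hiter 8 0).symm.trans (congrArg l (hdec σ (fun a b e => hσi e) hσn 0))
    · exact (hiter 8 2).symm.trans (congrArg l (hdec σ (fun a b e => hσi e) hσn 2))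
  obtain ⟨hz8, hw8⟩ := h8 _ (hRt _ x.2) hconj
  have hk' : (Nat.Coprime 8 (3 ^ k)) := (show Nat.Coprime 8 3 by norm_num).pow_right k
  obtain ⟨e, he⟩ := exists_pow_eq_self_of_coprime (x := (x : G)) (n := 8)
    (Nat.Coprime.coprime_dvd_right (orderOf_dvd_of_pow_eq_one hk) hk')
  have hxz : (x : G) * d.z = d.z * x := by
    rw [← he]; exact ((show Commute ((x : G) ^ 8) d.z from hz8).pow_left e).eq
  have hxw : (x : G) * d.w = d.w * x := by
    rw [← he]; exact ((show Commute ((x : G) ^ 8) d.w from hw8).pow_left e).eq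
  refine hxP (Subgroup.mem_subgroupOf.2 ?_)
  have hxT := d.cent_T2 hxz hxw
  refine d.mem_P.2 ⟨?_, hRt _ x.2⟩
  have hmem : (x : G) ∈ d.M₀ := d.three_mem_M₀ _ hxT.1 k hk
  -- an element of three-power order acting through a rotation is in `J`
  have hm : ∀ m : ℕ, d.mat ((x : G) ^ m) = d.mat (x : G) ^ m := fun m => by
    induction m with
    | zero => rw [pow_zero, pow_zero, d.mat_one]
    | succ m ih => rw [pow_succ, pow_succ, d.mat_mul (d.T2.pow_mem hxT m) hxT, ih]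
  refine d.mem_J_of_trivial hxT (conj_eq_of_commute hxz) ?_
  have h4 : d.mat (x : G) ^ 4 = 1 := by
    refine rot_four _ ?_
    simp only [List.mem_cons, List.not_mem_nil, or_false]
    exact d.mat_cent_P hxT (conj_eq_of_commute hxz) (conj_eq_of_commute hxw) (hRt _ x.2)
  have h3 : d.mat (x : G) ^ 3 ^ k = 1 := by rw [← hm, hk, d.mat_one]
  have hco : Nat.Coprime 4 (3 ^ k) := (show Nat.Coprime 4 3 by norm_num).pow_right k
  have := pow_gcd_eq_one.2 ⟨h4, h3⟩
  rwa [hco.gcd_eq_one, pow_one] at this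

/-- `C(t) ∩ C(z w)`. -/
theorem cent_zw (hzw : d.ZW) {x : G} (hxt : x * d.t = d.t * x) (h : x * (d.z * d.w) = d.z * d.w * x) :
    ∃ (b : Bool) (y : G), y * d.t = d.t * y ∧ y * d.z = d.z * y ∧ y * d.w = d.w * y ∧
      x = (if b then d.n else 1) * y := by
  obtain ⟨⟨a, b, c⟩, y, hyt, hyz, hyw, e⟩ :=
    d.norm_P hxt fun p hp => d.conj_P (hzw _ h) hxt hp
  have h' : d.rep (a, b, c) * d.z * (d.rep (a, b, c))⁻¹ * (d.rep (a, b, c) * d.w * (d.rep (a, b, c))⁻¹)
      = d.z * d.w := by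
    rw [conj_mul]
    calc d.rep (a, b, c) * (d.z * d.w) * (d.rep (a, b, c))⁻¹
        = d.rep (a, b, c) * (y * (d.z * d.w) * y⁻¹) * (d.rep (a, b, c))⁻¹ := by
          rw [conj_eq_of_commute ((show Commute y d.z from hyz).mul_right hyw).eq]
      _ = x * (d.z * d.w) * x⁻¹ := by rw [e]; group
      _ = _ := conj_eq_of_commute h
  obtain ⟨hb, hc⟩ : b = false ∧ c = false := by
    rw [(d.rep_act _).1, (d.rep_act _).2] at h'
    have hz := d.ne_inv d.sg_z
    have hw := d.ne_inv d.sg_w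
    have hcm : ∀ u ∈ d.J, ∀ v ∈ d.J, u * v = v * u := d.J_comm
    have hzi := d.J.inv_mem d.z_mem_J
    have hwi := d.J.inv_mem d.w_mem_J
    have hinv : d.z⁻¹ * d.w⁻¹ ≠ d.z * d.w := fun e => d.zw_ne_one (d.eq_one_of_sq
      (d.J.mul_mem d.z_mem_J d.w_mem_J) (mul_eq_one_iff_eq_inv.2 (by rw [mul_inv_rev, hcm _ hwi _ hzi, e])))
    revert h'
    cases a <;> cases b <;> cases c <;> simp only [Bool.false_eq_true, if_false, if_true] <;> intro h' <;>
      first
      | exact ⟨rfl, rfl⟩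
      | exact ⟨trivial, trivial⟩
      | exact absurd (mul_left_cancel h').symm hw
      | exact absurd (mul_right_cancel h').symm hz
      | exact absurd h' hinv
      | (rw [hcm _ d.w_mem_J _ hzi] at h'; exact absurd (mul_right_cancel h').symm hz)
      | (rw [hcm _ hwi _ d.z_mem_J] at h'; exact absurd (mul_left_cancel h').symm hw)
      | (rw [hcm _ hwi _ hzi] at h'; exact absurd h' hinv)
  subst hb hc
  exact ⟨a, y, hyt, hyz, hyw, by rw [e]; simp [rep]⟩

end Pair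

end Cfsg.Agent.McLThree
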