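/-
The action of `N(⟨z⟩) ∩ C(t)` on `L / ⟨t⟩ ≅ A₅`.
-/
import Cfsg.Agent.Lib.McLThree.Norm
import Cfsg.Agent.Lib.McLThree.FactsThree

set_option autoImplicit false
set_option maxRecDepth 100000
set_option linter.style.longLine false
set_option linter.style.haveILetI false

open Equiv

namespace Cfsg.Agent.McLThree

namespace Pair

variable {G : Type*} [Group G] [Finite G] (d : Pair G)

/-- The stabiliser of `⟨z⟩` in `C(t)`. -/
def NZt : Subgroup G :=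
  Subgroup.normalizer (Subgroup.zpowers d.z : Set G) ⊓ Subgroup.centralizer ({d.t} : Set G)

theorem mem_NZt {x : G} : x ∈ d.NZt ↔
    x ∈ Subgroup.normalizer (Subgroup.zpowers d.z : Set G) ∧ x * d.t = d.t * x := by
  rw [NZt, Subgroup.mem_inf, mem_centralizer_one]

theorem mem_NZt_iff {x : G} : x ∈ d.NZt ↔
    (x * d.z * x⁻¹ = d.z ∨ x * d.z * x⁻¹ = d.z⁻¹) ∧ x * d.t = d.t * x := by
  rw [d.mem_NZt]
  refine and_congr_left fun _ => ⟨fun h => ?_, fun h => ?_⟩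
  · rcases three_cases d.z_cube ((Subgroup.mem_normalizer_iff.1 h d.z).1 (Subgroup.mem_zpowers _)) with e | e | e
    exacts [absurd (conj_eq_one_iff.1 e) d.z_ne, Or.inl e, Or.inr e]
  · refine Subgroup.mem_normalizer_fintype fun k hk => ?_
    obtain ⟨n, rfl⟩ := Subgroup.mem_zpowers_iff.1 hk
    rw [← conj_zpow]
    rcases h with e | e <;> rw [e]
    exacts [zpow_mem (Subgroup.mem_zpowers _) n, zpow_mem (inv_mem (Subgroup.mem_zpowers _)) n]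

theorem L_le_NZt : d.L ≤ d.NZt := fun l hl => d.mem_NZt.2 ⟨d.L₀_le (d.L_le hl), d.L_t l hl⟩

theorem w_mem_L' : d.w ∈ d.L := d.w_mem_L

theorem h_mem_NZt : d.h ∈ d.NZt := d.mem_NZt_iff.2 ⟨Or.inr d.h_z, d.h_t⟩

theorem mem_NZt_of_commute {x : G} (hz : x * d.z = d.z * x) (ht : x * d.t = d.t * x) : x ∈ d.NZt :=
  d.mem_NZt_iff.2 ⟨Or.inl (conj_eq_of_commute hz), ht⟩

theorem z_mem_NZt : d.z ∈ d.NZt := d.mem_NZt_of_commute rfl d.t_z.symm

theorem eq_of_π₅ {a b : G} (ha : a ∈ d.L) (hb : b ∈ d.L) (h : d.π₅ a = d.π₅ b) : a = b := by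
  refine inv_mul_eq_one.1 (d.L_inj _ (d.L.mul_mem (d.L.inv_mem ha) hb) ?_)
  rw [d.map₅ _ (d.L₀.inv_mem (d.L_le ha)) _ (d.L_le hb), d.π₅_inv (d.L_le ha), h, inv_mul_cancel]

theorem conj_L {x l : G} (hx : x ∈ d.NZt) (hl : l ∈ d.L) : x * l * x⁻¹ ∈ d.L := by
  obtain ⟨hxN, hxt⟩ := d.mem_NZt.1 hx
  obtain ⟨y, y', hyy⟩ := SL5_cubes (d.π₅ l)
  obtain ⟨a, ha, rfl⟩ := d.L_surj y
  obtain ⟨a', ha', rfl⟩ := d.L_surj y'
  have e : l = a ^ 3 * a' ^ 3 := d.eq_of_π₅ hl (d.L.mul_mem (d.L.pow_mem ha 3) (d.L.pow_mem ha' 3)) (by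
    rw [d.map₅ _ (d.L₀.pow_mem (d.L_le ha) 3) _ (d.L₀.pow_mem (d.L_le ha') 3), d.π₅_pow (d.L_le ha),
      d.π₅_pow (d.L_le ha'), hyy])
  have key : ∀ u ∈ d.L, x * u ^ 3 * x⁻¹ ∈ d.L := fun u hu => by
    rw [← conj_pow]
    refine d.L_cubes _ (d.L₀_conj x hxN u (d.L_le hu)) ?_
    exact (((show Commute x d.t from hxt).mul_left (show Commute u d.t from d.L_t u hu)).mul_left
      (show Commute x d.t from hxt).inv_left).eq
  rw [e, ← conj_mul]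
  exact d.L.mul_mem (key a ha) (key a' ha')

theorem exists_toA5 : ∃ f : d.L →* alternatingGroup (Fin 5),
    Function.Surjective f ∧ ∀ l : d.L, f l = 1 ↔ (l : G) = 1 ∨ (l : G) = d.t := by
  obtain ⟨f, hf, hker⟩ := exists_proj_A5
  refine ⟨f.comp (MonoidHom.mk' (fun l : d.L => d.π₅ l) fun a b => d.map₅ _ (d.L_le a.2) _ (d.L_le b.2)),
    fun a => ?_, fun l => ?_⟩
  · obtain ⟨b, rfl⟩ := hf a
    obtain ⟨x, hx, rfl⟩ := d.L_surj b
    exact ⟨⟨x, hx⟩, rfl⟩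
  · show f (d.π₅ l) = 1 ↔ _
    rw [hker]
    refine or_congr ⟨d.L_inj _ l.2, fun h => by rw [h, d.π₅_one]⟩ ⟨fun h => ?_, fun h => by rw [h, d.π_t]⟩
    exact d.eq_of_π₅ l.2 d.t_mem_L (h.trans d.π_t.symm)

/-- The map of `L` onto `A₅`. -/
noncomputable def toA5 : d.L →* alternatingGroup (Fin 5) := d.exists_toA5.choose

theorem toA5_surj : Function.Surjective d.toA5 := d.exists_toA5.choose_spec.1

theorem toA5_ker (l : d.L) : d.toA5 l = 1 ↔ (l : G) = 1 ∨ (l : G) = d.t := d.exists_toA5.choose_spec.2 l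

/-- The automorphism of `A₅` induced by conjugation. -/
theorem exists_sig (x : d.NZt) : ∃ σ : Perm (Fin 5), ∀ l : d.L,
    ((d.toA5 ⟨(x : G) * l * (x : G)⁻¹, d.conj_L x.2 l.2⟩ : alternatingGroup (Fin 5)) : Perm (Fin 5))
      = σ * (d.toA5 l : Perm (Fin 5)) * σ⁻¹ := by
  classical
  let f : d.L →* alternatingGroup (Fin 5) :=
    d.toA5.comp (MonoidHom.mk' (fun l : d.L => (⟨(x : G) * l * (x : G)⁻¹, d.conj_L x.2 l.2⟩ : d.L))
      fun a b => Subtype.ext (by show (x : G) * ((a : G) * b) * (x : G)⁻¹ = _; rw [← conj_mul]; rfl))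
  have hxt : (x : G)⁻¹ * d.t * x = d.t := by
    rw [mul_assoc, ← (d.mem_NZt.1 x.2).2, inv_mul_cancel_left]
  have hker : ∀ l : d.L, f l = 1 ↔ d.toA5 l = 1 := by
    intro l
    show d.toA5 _ = 1 ↔ _
    rw [d.toA5_ker, d.toA5_ker]
    refine or_congr conj_eq_one_iff ⟨fun h => ?_, fun h => ?_⟩
    · replace h : (x : G) * l * (x : G)⁻¹ = d.t := h
      calc (l : G) = (x : G)⁻¹ * ((x : G) * l * (x : G)⁻¹) * x := by group
        _ = d.t := by rw [h, hxt]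
    · show (x : G) * l * (x : G)⁻¹ = d.t
      rw [h]; exact conj_eq_of_commute (d.mem_NZt.1 x.2).2
  choose s hs using d.toA5_surj
  have hwd : ∀ a b : d.L, d.toA5 a = d.toA5 b → f a = f b := fun a b e => by
    have : f (a⁻¹ * b) = 1 := (hker _).2 (by rw [map_mul, map_inv, e, inv_mul_cancel])
    rwa [map_mul, map_inv, inv_mul_eq_one] at this
  let θ : alternatingGroup (Fin 5) →* alternatingGroup (Fin 5) := MonoidHom.mk' (fun a => f (s a)) fun a b => by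
    rw [← map_mul]
    exact hwd _ _ (by rw [map_mul, hs, hs, hs])
  have hθ : Function.Injective θ := by
    refine (injective_iff_map_eq_one θ).2 fun a ha => ?_
    rw [← hs a]
    exact (hker _).1 ha
  obtain ⟨σ, hσ⟩ := Cfsg.Agent.AltAut.exists_conjNormal_of_threeCycle (n := 5) (by norm_num)
    (MulEquiv.ofBijective θ (Finite.injective_iff_bijective.1 hθ))
    (Cfsg.Agent.AltAut.threeCycle_of_ne_six (by norm_num) _)
  refine ⟨σ, fun l => ?_⟩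
  have e : θ (d.toA5 l) = f l := hwd _ _ (hs _)
  show ((f l : alternatingGroup (Fin 5)) : Perm (Fin 5)) = _
  rw [← e, ← MulAut.conjNormal_apply, hσ]
  rfl

theorem perm_eq {σ τ : Perm (Fin 5)}
    (h : ∀ a : alternatingGroup (Fin 5), σ * (a : Perm (Fin 5)) * σ⁻¹ = τ * (a : Perm (Fin 5)) * τ⁻¹) : σ = τ := by
  have key : ∀ a ∈ alternatingGroup (Fin 5), (τ⁻¹ * σ) * a = a * (τ⁻¹ * σ) := fun a ha => by
    refine commute_of_conj_eq ?_
    calc τ⁻¹ * σ * a * (τ⁻¹ * σ)⁻¹ = τ⁻¹ * (σ * a * σ⁻¹) * τ := by group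
      _ = a := by rw [h ⟨a, ha⟩]; group
  exact (inv_mul_eq_one.1 (centralizer_A5 _ (key _ A5_generators.1) (key _ A5_generators.2))).symm

/-- The permutation of five points induced by an element. -/
noncomputable def sig : d.NZt →* Perm (Fin 5) :=
  MonoidHom.mk' (fun x => (d.exists_sig x).choose) fun x y => by
    refine perm_eq fun a => ?_
    obtain ⟨l, rfl⟩ := d.toA5_surj a
    have hxy := (d.exists_sig (x * y)).choose_spec l
    have hy := (d.exists_sig y).choose_spec l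
    have hx := (d.exists_sig x).choose_spec ⟨(y : G) * l * (y : G)⁻¹, d.conj_L y.2 l.2⟩
    rw [← hxy, mul_inv_rev]
    rw [hy] at hx
    convert hx using 1
    · refine congrArg (fun z : d.L => ((d.toA5 z : alternatingGroup (Fin 5)) : Perm (Fin 5))) (Subtype.ext ?_)
      show (x : G) * y * l * ((x : G) * y)⁻¹ = (x : G) * ((y : G) * l * (y : G)⁻¹) * (x : G)⁻¹
      group
    · group

theorem sig_spec (x : d.NZt) (l : d.L) :
    ((d.toA5 ⟨(x : G) * l * (x : G)⁻¹, d.conj_L x.2 l.2⟩ : alternatingGroup (Fin 5)) : Perm (Fin 5))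
      = d.sig x * (d.toA5 l : Perm (Fin 5)) * (d.sig x)⁻¹ :=
  (d.exists_sig x).choose_spec l

theorem sig_eq {x : d.NZt} {σ : Perm (Fin 5)} (h : ∀ l : d.L,
    ((d.toA5 ⟨(x : G) * l * (x : G)⁻¹, d.conj_L x.2 l.2⟩ : alternatingGroup (Fin 5)) : Perm (Fin 5))
      = σ * (d.toA5 l : Perm (Fin 5)) * σ⁻¹) : d.sig x = σ :=
  perm_eq fun a => by
    obtain ⟨l, rfl⟩ := d.toA5_surj a
    rw [← d.sig_spec, h]

theorem sig_L (l : d.L) : d.sig ⟨l, d.L_le_NZt l.2⟩ = (d.toA5 l : Perm (Fin 5)) :=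
  d.sig_eq fun k => by
    rw [show (⟨(l : G) * k * (l : G)⁻¹, d.conj_L (d.L_le_NZt l.2) k.2⟩ : d.L) = l * k * l⁻¹ from Subtype.ext rfl,
      map_mul, map_mul, map_inv]
    rfl

theorem sig_z : d.sig ⟨d.z, d.z_mem_NZt⟩ = 1 :=
  d.sig_eq fun k => by
    rw [one_mul, inv_one, mul_one]
    refine congrArg (fun z : d.L => ((d.toA5 z : alternatingGroup (Fin 5)) : Perm (Fin 5))) (Subtype.ext ?_)
    exact conj_eq_of_commute (d.L₀_cent _ (d.L_le k.2)).symm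

/-- The kernel of the permutation action centralizes `L`. -/
theorem sig_ker {x : d.NZt} (h : d.sig x = 1) {l : G} (hl : l ∈ d.L) : (x : G) * l = l * x := by
  have hxt := (d.mem_NZt.1 x.2).2
  have key : ∀ u : d.L, (x : G) * u * (x : G)⁻¹ = u ∨ (x : G) * u * (x : G)⁻¹ = u * d.t := by
    intro u
    have e := d.sig_spec x u
    rw [h, one_mul, inv_one, mul_one, Subtype.coe_inj, ← inv_mul_eq_one, ← map_inv, ← map_mul, d.toA5_ker] at e
    simp only [Subgroup.coe_mul, Subgroup.coe_inv] at e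
    rcases e with e | e
    · exact Or.inl (inv_mul_eq_one.1 e)
    · refine Or.inr ?_
      have hu' : (u : G) = (x : G) * u * (x : G)⁻¹ * d.t := by rw [← e]; group
      calc (x : G) * u * (x : G)⁻¹ = (x : G) * u * (x : G)⁻¹ * d.t * d.t := by
            rw [mul_assoc _ d.t, d.t_sq, mul_one]
        _ = (u : G) * d.t := by rw [← hu']
  have hsq : ∀ u ∈ d.L, (x : G) * u ^ 2 * (x : G)⁻¹ = u ^ 2 := by
    intro u hu
    rw [← conj_pow]
    rcases key ⟨u, hu⟩ with e | e <;> simp only at e <;> rw [e]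
    have hc : Commute u d.t := d.L_t u hu
    rw [hc.mul_pow, pow_two d.t, d.t_sq, mul_one]
  obtain ⟨y, y', hyy⟩ := SL5_squares (d.π₅ l)
  obtain ⟨a, ha, rfl⟩ := d.L_surj y
  obtain ⟨a', ha', rfl⟩ := d.L_surj y'
  have e : l = a ^ 2 * a' ^ 2 := d.eq_of_π₅ hl (d.L.mul_mem (d.L.pow_mem ha 2) (d.L.pow_mem ha' 2)) (by
    rw [d.map₅ _ (d.L₀.pow_mem (d.L_le ha) 2) _ (d.L₀.pow_mem (d.L_le ha') 2), d.π₅_pow (d.L_le ha),
      d.π₅_pow (d.L_le ha'), hyy])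
  refine commute_of_conj_eq ?_
  rw [e, ← conj_mul, hsq a ha, hsq a' ha']

/-- Elements of `L` fixing `w`. -/
theorem L_fix_w {l : G} (hl : l ∈ d.L) (h : l * d.w = d.w * l) :
    ∃ i : ℕ, l = d.w ^ i ∨ l = d.t * d.w ^ i := by
  have hwL := d.L_le d.w_mem_L'
  obtain ⟨c0, -, -, hd⟩ := SL5_invert _ (d.π₅_S_cube (d.J_le d.w_mem_J)) (fun e =>
    d.w_notMem_A ⟨d.w_mem_J, (d.ker₅ _ hwL).1 e⟩)
  obtain ⟨i, -, hi⟩ := (hd (d.π₅ l)).1 (by
    rw [← d.π₅_conj (d.L_le hl) hwL, show l * d.w * l⁻¹ = d.w from conj_eq_of_commute h])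
  refine ⟨i, hi.imp (fun e => d.eq_of_π₅ hl (d.L.pow_mem d.w_mem_L i) ?_)
    fun e => d.eq_of_π₅ hl (d.L.mul_mem d.t_mem_L (d.L.pow_mem d.w_mem_L i)) ?_⟩
  · rw [d.π₅_pow hwL, e]
  · rw [d.map₅ _ d.t_mem _ (d.L₀.pow_mem hwL i), d.π_t, d.π₅_pow hwL, e]

/-- An element fixing `w` whose matrix anticommutes with that of `c` induces an odd permutation. -/
theorem sig_odd {x : d.NZt} (hT : (x : G) ∈ d.T2) (hw : (x : G) * d.w = d.w * x)
    (ha : d.mat (x : G) * d.mat d.c = -(d.mat d.c * d.mat (x : G))) : Perm.sign (d.sig x) = -1 := by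
  rcases Int.units_eq_one_or (Perm.sign (d.sig x)) with hs | hs
  swap
  · exact hs
  exfalso
  obtain ⟨l, hl⟩ := d.toA5_surj ⟨d.sig x, Perm.mem_alternatingGroup.2 hs⟩
  set y : d.NZt := ⟨l, d.L_le_NZt l.2⟩⁻¹ * x with hy
  have hy1 : d.sig y = 1 := by
    rw [hy, map_mul, map_inv, d.sig_L, hl, inv_mul_cancel]
  have hyL := fun u (hu : u ∈ d.L) => d.sig_ker hy1 (l := u) hu
  have hye : (y : G) = (l : G)⁻¹ * x := by rw [hy]; rfl
  have hlw : (l : G) * d.w = d.w * l := by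
    have h1 : Commute ((l : G)⁻¹ * x) d.w := hye ▸ hyL _ d.w_mem_L'
    have := ((show Commute (x : G) d.w from hw).mul_left h1.inv_left).eq
    rwa [mul_inv_rev, inv_inv, mul_inv_cancel_left] at this
  obtain ⟨i, hi⟩ := d.L_fix_w l.2 hlw
  have hwJ := d.J.pow_mem d.w_mem_J i
  have hlT : (l : G) ∈ d.T2 := by
    rcases hi with e | e <;> rw [e]
    exacts [d.J_le_T2 hwJ, d.T2.mul_mem d.t_mem_T2 (d.J_le_T2 hwJ)]
  have hlm : d.mat (l : G) = 1 ∨ d.mat (l : G) = -1 := by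
    rcases hi with e | e <;> rw [e]
    · exact Or.inl (d.mat_J hwJ)
    · exact Or.inr (by rw [d.mat_mul d.t_mem_T2 (d.J_le_T2 hwJ), d.mat_t, d.mat_J hwJ, mul_one])
  have hyT : (y : G) ∈ d.T2 := hye ▸ d.T2.mul_mem (d.T2.inv_mem hlT) hT
  have hxm : d.mat (x : G) = d.mat (l : G) * d.mat (y : G) := by
    rw [← d.mat_mul hlT hyT, hye, mul_inv_cancel_left]
  have hyc : d.mat (y : G) * d.mat d.c = d.mat d.c * d.mat (y : G) := by
    rw [← d.mat_mul hyT d.c_mem_T2, ← d.mat_mul d.c_mem_T2 hyT, hyL _ d.c_mem]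
  have hcomm : d.mat (x : G) * d.mat d.c = d.mat d.c * d.mat (x : G) := by
    rcases hlm with e | e <;> rw [hxm, e] <;> simp only [one_mul, neg_mul, mul_neg, hyc]
  rw [hcomm, eq_neg_iff_add_eq_zero, ← two_smul (ZMod 3), smul_eq_zero] at ha
  rcases ha with h | h
  · exact absurd h (by decide)
  · have := congrArg Matrix.det h
    rw [Matrix.det_mul, Matrix.det_zero] at this
    exact mul_ne_zero (d.mat_det d.c_mem_T2) (d.mat_det hT) this

theorem sig_h : Perm.sign (d.sig ⟨d.h, d.h_mem_NZt⟩) = -1 := by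
  refine d.sig_odd d.h_mem_T2 (commute_of_conj_eq d.h_w) ?_
  show d.mat d.h * d.mat d.c = -(d.mat d.c * d.mat d.h)
  obtain ⟨h2, ha⟩ := d.mat_c
  rw [d.mat_h, mul_assoc, h2, ← mul_assoc, ha, neg_mul, mul_assoc, h2]
  simp

theorem sig_r {r : G} (hr : r ∈ d.NZt) (hz : r * d.z = d.z * r) (hw : r * d.w = d.w * r) (hm : d.mat r = rot) :
    Perm.sign (d.sig ⟨r, hr⟩) = -1 :=
  d.sig_odd (d.cent_T2 hz hw) hw (by
    show d.mat r * d.mat d.c = -(d.mat d.c * d.mat r)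
    rw [hm, d.mat_c.2, neg_neg])

theorem L_even (l : d.L) : Perm.sign (d.sig ⟨l, d.L_le_NZt l.2⟩) = 1 := by
  rw [d.sig_L]; exact Perm.mem_alternatingGroup.1 (d.toA5 l).2

theorem P_le_NZt : d.P ≤ d.NZt := fun p hp =>
  d.mem_NZt_of_commute (d.J_comm p (d.P_le_J hp) _ d.z_mem_J) (d.mem_P.1 hp).2

theorem P_even {p : G} (hp : p ∈ d.P) : Perm.sign (d.sig ⟨p, d.P_le_NZt hp⟩) = 1 := by
  obtain ⟨i, -, j, -, rfl⟩ := d.exists_P_pow hp
  have e : (⟨d.z ^ i * d.w ^ j, d.P_le_NZt hp⟩ : d.NZt)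
      = ⟨d.z, d.z_mem_NZt⟩ ^ i * ⟨_, d.L_le_NZt d.w_mem_L'⟩ ^ j := Subtype.ext rfl
  rw [e, map_mul, map_pow, map_pow, d.sig_z, one_pow, one_mul, map_pow]
  rw [show Perm.sign (d.sig ⟨_, d.L_le_NZt d.w_mem_L'⟩) = 1 from d.L_even ⟨_, d.w_mem_L'⟩, one_pow]

/-- `C(t) ∩ C(z) = L · (C(t) ∩ C(P))`. -/
theorem cent_z_decomp {x : G} (hxt : x * d.t = d.t * x) (hxz : x * d.z = d.z * x) :
    ∃ l ∈ d.L, ∃ y : G, y * d.t = d.t * y ∧ y * d.z = d.z * y ∧ y * d.w = d.w * y ∧ x = l * y := by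
  have hwL := d.L_le d.w_mem_L'
  have hu : x * d.w * x⁻¹ ∈ d.L := d.conj_L (d.mem_NZt_of_commute hxz hxt) d.w_mem_L'
  have hw3 : ∀ u, u ^ 3 = 1 → u ∈ d.L → u ≠ 1 → d.π₅ u ^ 3 = 1 ∧ d.π₅ u ≠ 1 := fun u h h' h1 =>
    ⟨by rw [← d.π₅_pow (d.L_le h'), h, d.π₅_one], fun e => h1 (d.L_inj u h' e)⟩
  obtain ⟨h1, h2⟩ := hw3 _ (d.J_exp _ d.w_mem_J) d.w_mem_L (d.sg_ne_one d.sg_w)
  obtain ⟨h3, h4⟩ := hw3 _ (by rw [conj_pow, d.J_exp _ d.w_mem_J, mul_one, mul_inv_cancel]) hu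
    (fun e => d.sg_ne_one d.sg_w (conj_eq_one_iff.1 e))
  obtain ⟨a, ha⟩ := SL5_three_conj _ h1 h2 _ h3 h4
  obtain ⟨l, hl, rfl⟩ := d.L_surj a
  have e : l * d.w * l⁻¹ = x * d.w * x⁻¹ := by
    refine d.eq_of_π₅ (d.L.mul_mem (d.L.mul_mem hl d.w_mem_L) (d.L.inv_mem hl)) hu ?_
    rw [d.π₅_conj (d.L_le hl) hwL]; exact ha
  refine ⟨l, hl, l⁻¹ * x, ?_, ?_, ?_, by group⟩
  · exact ((show Commute l d.t from d.L_t l hl).inv_left.mul_left hxt).eq
  · exact ((show Commute l d.z from d.L₀_cent l (d.L_le hl)).inv_left.mul_left hxz).eq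
  · refine commute_of_conj_eq ?_
    calc l⁻¹ * x * d.w * (l⁻¹ * x)⁻¹ = l⁻¹ * (x * d.w * x⁻¹) * l := by group
      _ = d.w := by rw [← e]; group

end Pair

end Cfsg.Agent.McLThree
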