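/-
The quotient of `C(t)` by `⟨t⟩` and its three-local data.
-/
import Cfsg.Agent.Lib.McLThree.Act

set_option autoImplicit false
set_option maxRecDepth 100000
set_option linter.style.longLine false
set_option linter.style.haveILetI false

open Equiv

namespace Cfsg.Agent.McLThree

theorem rot_pow_inj : ∀ i j : Fin 4, rot ^ (i : ℕ) = rot ^ (j : ℕ) → i = j := by decide +kernel

namespace Pair

variable {G : Type*} [Group G] [Finite G] (d : Pair G)

/-- The centralizer of `t`. -/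
abbrev K : Subgroup G := Subgroup.centralizer ({d.t} : Set G)

theorem K_comm (x : d.K) : (x : G) * d.t = d.t * x := mem_centralizer_one.1 x.2

/-- `t` as an element of `C(t)`. -/
def tK : d.K := ⟨d.t, mem_centralizer_one.2 rfl⟩

/-- The subgroup of order two generated by `t`. -/
def T₀ : Subgroup d.K := Subgroup.zpowers d.tK

instance T₀_normal : d.T₀.Normal :=
  ⟨fun x hx g => by
    obtain ⟨k, rfl⟩ := Subgroup.mem_zpowers_iff.1 hx
    have hc : Commute g d.tK := Subtype.ext (d.K_comm g)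
    rw [(hc.zpow_right k).eq, mul_inv_cancel_right]
    exact Subgroup.zpow_mem _ (Subgroup.mem_zpowers _) k⟩

/-- The quotient of `C(t)` by `⟨t⟩`. -/
abbrev Kb : Type _ := d.K ⧸ d.T₀

/-- The quotient map. -/
def bar : d.K →* d.Kb := QuotientGroup.mk' d.T₀

theorem bar_surj : Function.Surjective d.bar := QuotientGroup.mk'_surjective _

theorem t_ne : d.t ≠ 1 := fun e => SL5_neg_one.2 (by rw [← d.π_t, show d.t = 1 from e, d.π₅_one])

theorem bar_eq_one {x : d.K} : d.bar x = 1 ↔ (x : G) = 1 ∨ (x : G) = d.t := by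
  rw [bar, QuotientGroup.mk'_apply, QuotientGroup.eq_one_iff]
  constructor
  · intro h
    obtain ⟨k, rfl⟩ := Subgroup.mem_zpowers_iff.1 h
    show d.t ^ k = 1 ∨ d.t ^ k = d.t
    have h2 : d.t ^ (2 : ℤ) = 1 := by rw [zpow_two, d.t_sq]
    rw [← Int.emod_add_mul_ediv k 2, zpow_add, zpow_mul, h2, one_zpow, mul_one]
    rcases Int.emod_two_eq_zero_or_one k with e | e <;> rw [e]
    · exact Or.inl (zpow_zero _)
    · exact Or.inr (zpow_one _)
  · rintro (h | h)
    · rw [show x = 1 from Subtype.ext h]; exact one_mem _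
    · rw [show x = d.tK from Subtype.ext h]; exact Subgroup.mem_zpowers _

theorem bar_eq_iff {x y : d.K} : d.bar x = d.bar y ↔ (y : G) = x ∨ (y : G) = x * d.t := by
  rw [← inv_mul_eq_one, ← map_inv, ← map_mul, d.bar_eq_one, Subgroup.coe_mul, Subgroup.coe_inv,
    inv_mul_eq_iff_eq_mul, mul_one, inv_mul_eq_iff_eq_mul]

theorem cube_eq {u v : G} (hu : u ^ 3 = 1) (hv : v ^ 3 = 1) (hvt : v * d.t = d.t * v) (h : u = v * d.t) : False := by
  rw [h, (show Commute v d.t from hvt).mul_pow, hv, one_mul, pow_succ, pow_two, d.t_sq, one_mul] at hu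
  exact d.t_ne hu

theorem lift_conj {x u v : d.K} (hu : (u : G) ^ 3 = 1) (hv : (v : G) ^ 3 = 1)
    (h : d.bar x * d.bar u * (d.bar x)⁻¹ = d.bar v) : (x : G) * u * (x : G)⁻¹ = v := by
  rw [← map_inv, ← map_mul, ← map_mul, eq_comm, d.bar_eq_iff] at h
  rcases h with h | h
  · exact h
  · exact (d.cube_eq (by rw [Subgroup.coe_mul, Subgroup.coe_mul, Subgroup.coe_inv, conj_pow, hu, mul_one,
      mul_inv_cancel]) hv (d.K_comm v) h).elim

theorem lift_commute {x u : d.K} (hu : (u : G) ^ 3 = 1) (h : d.bar x * d.bar u = d.bar u * d.bar x) :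
    (x : G) * u = u * x :=
  commute_of_conj_eq (d.lift_conj hu hu (by rw [h, mul_inv_cancel_right]))

/-- The elements of `P` in `C(t)`. -/
def PK : Subgroup d.K := d.P.subgroupOf d.K

theorem P_le_K : d.P ≤ d.K := fun _ hp => mem_centralizer_one.2 (d.mem_P.1 hp).2

theorem mem_PK {x : d.K} : x ∈ d.PK ↔ (x : G) ∈ d.P := Iff.rfl

theorem card_PK : Nat.card d.PK = 9 := by
  rw [PK, Nat.card_congr (Subgroup.subgroupOfEquivOfLe d.P_le_K).toEquiv, d.card_P]

/-- The image of `P`. -/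
def Db : Subgroup d.Kb := d.PK.map d.bar

theorem P_cube {p : G} (hp : p ∈ d.P) : p ^ 3 = 1 := d.J_exp p (d.P_le_J hp)

theorem bar_injOn_P {x y : d.K} (hx : (x : G) ∈ d.P) (hy : (y : G) ∈ d.P) (h : d.bar x = d.bar y) : x = y := by
  rcases d.bar_eq_iff.1 h with e | e
  · exact Subtype.ext e.symm
  · exact (d.cube_eq (d.P_cube hy) (d.P_cube hx) (d.K_comm x) e).elim

theorem card_Db : Nat.card d.Db = 9 := by
  rw [← d.card_PK]
  refine (Nat.card_congr (Equiv.ofBijective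
    (fun x : d.PK => (⟨d.bar x, x, x.2, rfl⟩ : d.Db)) ⟨fun x y h => ?_, ?_⟩)).symm
  · exact Subtype.ext (d.bar_injOn_P x.2 y.2 (congrArg Subtype.val h))
  · rintro ⟨_, x, hx, rfl⟩
    exact ⟨⟨x, hx⟩, rfl⟩

theorem Db_exp : ∀ v ∈ d.Db, v ^ 3 = 1 := by
  rintro _ ⟨x, hx, rfl⟩
  rw [← map_pow, show x ^ 3 = 1 from Subtype.ext (d.P_cube hx), map_one]

theorem not27 : ¬ 27 ∣ Nat.card d.Kb := by
  intro h
  haveI := Fact.mk Nat.prime_three
  have h1 : 27 ∣ Nat.card d.K := h.trans (Subgroup.card_dvd_of_surjective d.bar d.bar_surj)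
  obtain ⟨R, hR⟩ := (IsPGroup.of_card (n := 2) (by rw [d.card_PK]; rfl) : IsPGroup 3 d.PK).exists_le_sylow
  have h2 := R.pow_dvd_card_of_pow_dvd_card (n := 3) h1
  have h3 := d.P_maximal (R := (R : Subgroup d.K).map d.K.subtype) (R.isPGroup'.map _)
    (fun p hp => ⟨⟨p, d.P_le_K hp⟩, hR hp, rfl⟩) (by rintro _ ⟨x, -, rfl⟩; exact d.K_comm x)
  have h4 := congrArg (fun H : Subgroup G => Nat.card H) h3
  simp only [Subgroup.card_map_of_injective d.K.subtype_injective, d.card_P] at h4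
  rw [h4] at h2
  norm_num at h2

/-- `D` is a Sylow three-subgroup of the quotient. -/
theorem exists_sylow_Db : ∃ S : Sylow 3 d.Kb, (S : Subgroup d.Kb) = d.Db := by
  haveI := Fact.mk Nat.prime_three
  obtain ⟨S, hS⟩ := (IsPGroup.of_card (n := 2) (by rw [d.card_Db]; rfl) : IsPGroup 3 d.Db).exists_le_sylow
  obtain ⟨k, hk⟩ := IsPGroup.iff_card.1 S.isPGroup'
  have hk2 : k ≤ 2 := by
    by_contra hlt
    exact d.not27 ((pow_dvd_pow 3 (show 3 ≤ k by omega)).trans (hk ▸ Subgroup.card_subgroup_dvd_card (S : Subgroup d.Kb)))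
  exact ⟨S, (Subgroup.eq_of_le_of_card_ge hS (by
    rw [hk, d.card_Db]; exact (Nat.pow_le_pow_right (by norm_num) hk2).trans (le_of_eq (by norm_num)))).symm⟩

/-- The centralizer of `P` in `C(t)`. -/
def CP : Subgroup d.K := Subgroup.centralizer (d.PK : Set d.K)

theorem mem_CP {x : d.K} : x ∈ d.CP ↔ (x : G) * d.z = d.z * x ∧ (x : G) * d.w = d.w * x := by
  rw [CP, Subgroup.mem_centralizer_iff]
  constructor
  · intro h
    exact ⟨(congrArg Subtype.val (h ⟨d.z, d.P_le_K d.z_mem_P⟩ d.z_mem_P)).symm,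
      (congrArg Subtype.val (h ⟨d.w, d.P_le_K d.w_mem_P⟩ d.w_mem_P)).symm⟩
  · rintro ⟨hz, hw⟩ p hp
    exact Subtype.ext (d.commute_P hz hw hp).symm

theorem tK_mem_CP : d.tK ∈ d.CP := d.mem_CP.2 ⟨d.t_z, d.t_w'⟩

/-- The normalizer of `P` in `C(t)`. -/
def NP : Subgroup d.K := Subgroup.normalizer (d.PK : Set d.K)

theorem mem_NP {x : d.K} : x ∈ d.NP ↔ ∀ p ∈ d.P, (x : G) * p * (x : G)⁻¹ ∈ d.P := by
  constructor
  · intro h p hp
    exact (Subgroup.mem_normalizer_iff.1 h ⟨p, d.P_le_K hp⟩).1 hp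
  · intro h
    exact Subgroup.mem_normalizer_fintype fun p hp => h p hp

/-- A representative in `C(t)`. -/
noncomputable def repK (i : Bool × Bool × Bool) : d.K := ⟨d.rep i, mem_centralizer_one.2 (d.rep_t i)⟩

theorem card_NP : Nat.card d.NP = 8 * Nat.card d.CP := by
  have h8 : Nat.card (Bool × Bool × Bool) = 8 := by simp
  rw [← h8, ← Nat.card_prod]
  refine (Nat.card_congr (Equiv.ofBijective (fun p : (Bool × Bool × Bool) × d.CP =>
    (⟨d.repK p.1 * p.2, ?_⟩ : d.NP)) ⟨?_, ?_⟩)).symm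
  · refine Subgroup.mul_mem _ (d.mem_NP.2 fun _ hq => d.rep_conj_P p.1 hq) (d.mem_NP.2 fun q hq => ?_)
    obtain ⟨hz, hw⟩ := d.mem_CP.1 p.2.2
    rw [conj_eq_of_commute (d.commute_P hz hw hq)]
    exact hq
  · rintro ⟨i, x⟩ ⟨j, y⟩ h
    have h' : d.repK i * (x : d.K) = d.repK j * (y : d.K) := congrArg Subtype.val h
    obtain ⟨hxz, hxw⟩ := d.mem_CP.1 x.2
    obtain ⟨hyz, hyw⟩ := d.mem_CP.1 y.2
    obtain rfl := d.rep_unique (conj_eq_of_commute hxz) (conj_eq_of_commute hxw) (conj_eq_of_commute hyz)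
      (conj_eq_of_commute hyw) (show d.rep i * ((x : d.K) : G) = d.rep j * ((y : d.K) : G) from congrArg Subtype.val h')
    exact Prod.ext rfl (Subtype.ext (mul_left_cancel h'))
  · rintro ⟨x, hx⟩
    obtain ⟨i, y, hyt, hyz, hyw, hxy⟩ := d.norm_P (d.K_comm x) (d.mem_NP.1 hx)
    exact ⟨(i, ⟨⟨y, mem_centralizer_one.2 hyt⟩, d.mem_CP.2 ⟨hyz, hyw⟩⟩), Subtype.ext (Subtype.ext hxy.symm)⟩

theorem normalizer_Db : Subgroup.normalizer (d.Db : Set d.Kb) = d.NP.map d.bar := by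
  ext v
  constructor
  · intro hv
    obtain ⟨x, rfl⟩ := d.bar_surj v
    refine ⟨x, d.mem_NP.2 fun p hp => ?_, rfl⟩
    obtain ⟨q, hq, hqe⟩ := (Subgroup.mem_normalizer_iff.1 hv (d.bar ⟨p, d.P_le_K hp⟩)).1 ⟨_, hp, rfl⟩
    rw [show (x : G) * p * (x : G)⁻¹ = q from d.lift_conj (u := ⟨p, d.P_le_K hp⟩) (d.P_cube hp) (d.P_cube hq) hqe.symm]
    exact hq
  · rintro ⟨x, hx, rfl⟩
    refine Subgroup.mem_normalizer_fintype ?_
    rintro _ ⟨p, hp, rfl⟩
    exact ⟨x * p * x⁻¹, d.mem_NP.1 hx p hp, by rw [map_mul, map_mul, map_inv]⟩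

theorem centralizer_Db : Subgroup.centralizer (d.Db : Set d.Kb) = d.CP.map d.bar := by
  ext v
  constructor
  · intro hv
    obtain ⟨x, rfl⟩ := d.bar_surj v
    refine ⟨x, Subgroup.mem_centralizer_iff.2 fun p hp => Subtype.ext (d.lift_commute (d.P_cube hp) ?_).symm, rfl⟩
    exact (Subgroup.mem_centralizer_iff.1 hv _ ⟨p, hp, rfl⟩).symm
  · rintro ⟨x, hx, rfl⟩
    rw [Subgroup.mem_centralizer_iff]
    rintro _ ⟨p, hp, rfl⟩
    rw [← map_mul, ← map_mul, Subgroup.mem_centralizer_iff.1 hx p hp]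

theorem card_map_bar {H : Subgroup d.K} (h : d.tK ∈ H) : Nat.card H = 2 * Nat.card (H.map d.bar) := by
  set f := d.bar.comp H.subtype with hf
  have hr : f.range = H.map d.bar := by rw [hf, MonoidHom.range_comp, Subgroup.range_subtype]
  have hk : Nat.card f.ker = 2 := by
    rw [← Fintype.card_bool, ← Nat.card_eq_fintype_card]
    refine (Nat.card_congr (Equiv.ofBijective (fun b : Bool => (⟨if b then ⟨d.tK, h⟩ else 1, ?_⟩ : f.ker))
      ⟨?_, ?_⟩)).symm
    · cases b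
      · exact one_mem _
      · exact d.bar_eq_one.2 (Or.inr rfl)
    · intro a b e
      have e' := congrArg (fun u : f.ker => (((u : H) : d.K) : G)) e
      cases a <;> cases b <;> simp only [Bool.false_eq_true, if_false, if_true] at e' <;>
        first
        | rfl
        | exact absurd e' d.t_ne
        | exact absurd e'.symm d.t_ne
    · rintro ⟨u, hu⟩
      rcases d.bar_eq_one.1 (show d.bar (u : d.K) = 1 from hu) with e | e
      · exact ⟨false, Subtype.ext (Subtype.ext (Subtype.ext e.symm))⟩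
      · exact ⟨true, Subtype.ext (Subtype.ext (Subtype.ext e.symm))⟩
  rw [Subgroup.card_eq_card_quotient_mul_card_subgroup f.ker, hk,
    Nat.card_congr (QuotientGroup.quotientKerEquivRange f).toEquiv, hr, mul_comm]

/-- The element `z w` of `C(t)`. -/
def yK : d.K := ⟨d.z * d.w, d.P_le_K (d.P.mul_mem d.z_mem_P d.w_mem_P)⟩

theorem yK_mem_P : (d.yK : G) ∈ d.P := d.P.mul_mem d.z_mem_P d.w_mem_P

/-- The centralizer of `z w` in `C(t)`. -/
def CY : Subgroup d.K := Subgroup.centralizer ({d.yK} : Set d.K)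

theorem n_K : d.n ∈ d.K := mem_centralizer_one.2 d.n_t

theorem card_CY (hzw : d.ZW) : Nat.card d.CY = 2 * Nat.card d.CP := by
  rw [← Fintype.card_bool, ← Nat.card_eq_fintype_card, ← Nat.card_prod]
  refine (Nat.card_congr (Equiv.ofBijective (fun p : Bool × d.CP =>
    (⟨d.repK (p.1, false, false) * p.2, ?_⟩ : d.CY)) ⟨?_, ?_⟩)).symm
  · rw [CY, mem_centralizer_one]
    refine Subtype.ext (commute_of_conj_eq ?_)
    obtain ⟨hz, hw⟩ := d.mem_CP.1 p.2.2
    show d.rep (p.1, false, false) * ((p.2 : d.K) : G) * (d.z * d.w) *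
      (d.rep (p.1, false, false) * ((p.2 : d.K) : G))⁻¹ = d.z * d.w
    rw [show d.rep (p.1, false, false) * ((p.2 : d.K) : G) * (d.z * d.w) *
        (d.rep (p.1, false, false) * ((p.2 : d.K) : G))⁻¹ = d.rep (p.1, false, false) *
        (((p.2 : d.K) : G) * (d.z * d.w) * ((p.2 : d.K) : G)⁻¹) * (d.rep (p.1, false, false))⁻¹ by group,
      conj_eq_of_commute ((show Commute ((p.2 : d.K) : G) d.z from hz).mul_right hw).eq, ← conj_mul,
      (d.rep_act _).1, (d.rep_act _).2]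
    cases p.1 <;> simp only [Bool.false_eq_true, if_false, if_true]
    exact d.J_comm _ d.w_mem_J _ d.z_mem_J
  · rintro ⟨i, x⟩ ⟨j, y⟩ h
    have h' : d.repK (i, false, false) * (x : d.K) = d.repK (j, false, false) * (y : d.K) := congrArg Subtype.val h
    obtain ⟨hxz, hxw⟩ := d.mem_CP.1 x.2
    obtain ⟨hyz, hyw⟩ := d.mem_CP.1 y.2
    have e := d.rep_unique (i := (i, false, false)) (j := (j, false, false)) (conj_eq_of_commute hxz)
      (conj_eq_of_commute hxw) (conj_eq_of_commute hyz) (conj_eq_of_commute hyw)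
      (show d.rep (i, false, false) * ((x : d.K) : G) = d.rep (j, false, false) * ((y : d.K) : G) from
        congrArg Subtype.val h')
    obtain rfl : i = j := (Prod.ext_iff.1 e).1
    exact Prod.ext rfl (Subtype.ext (mul_left_cancel h'))
  · rintro ⟨x, hx⟩
    obtain ⟨b, y, hyt, hyz, hyw, hxy⟩ :=
      d.cent_zw hzw (d.K_comm x) (congrArg Subtype.val (mem_centralizer_one.1 hx))
    refine ⟨(b, ⟨⟨y, mem_centralizer_one.2 hyt⟩, d.mem_CP.2 ⟨hyz, hyw⟩⟩), Subtype.ext (Subtype.ext ?_)⟩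
    show d.rep (b, false, false) * y = (x : G)
    rw [hxy]
    cases b <;> simp [rep]

theorem CY_le_NP (hzw : d.ZW) : d.CY ≤ d.NP := fun x hx =>
  d.mem_NP.2 fun _ hp => d.conj_P (hzw _ (congrArg Subtype.val (mem_centralizer_one.1 hx))) (d.K_comm x) hp

theorem centralizer_y : Subgroup.centralizer ({d.bar d.yK} : Set d.Kb) = d.CY.map d.bar := by
  ext v
  constructor
  · intro hv
    obtain ⟨x, rfl⟩ := d.bar_surj v
    exact ⟨x, mem_centralizer_one.2 (Subtype.ext (d.lift_commute (d.P_cube d.yK_mem_P) (mem_centralizer_one.1 hv))),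
      rfl⟩
  · rintro ⟨x, hx, rfl⟩
    rw [mem_centralizer_one, ← map_mul, ← map_mul, mem_centralizer_one.1 hx]

theorem tK_mem_CY : d.tK ∈ d.CY :=
  mem_centralizer_one.2 (Subtype.ext ((show Commute d.t d.z from d.t_z).mul_right d.t_w').eq)

theorem bar_yK_mem : d.bar d.yK ∈ d.Db := ⟨d.yK, d.yK_mem_P, rfl⟩

/-- Numerical data in terms of the centralizer of `P`. -/
theorem bar_cards (hzw : d.ZW) : Nat.card (Subgroup.normalizer (d.Db : Set d.Kb)) = 4 * Nat.card d.CP ∧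
    Nat.card (Subgroup.centralizer ({d.bar d.yK} : Set d.Kb)) = Nat.card d.CP ∧
    Nat.card d.CP = 2 * Nat.card (Subgroup.centralizer (d.Db : Set d.Kb)) := by
  have h1 := d.card_map_bar (H := d.NP) (d.mem_NP.2 fun p hp => by
    show d.t * p * d.t⁻¹ ∈ d.P
    rw [conj_eq_of_commute (d.mem_P.1 hp).2.symm]; exact hp)
  have h2 := d.card_map_bar d.tK_mem_CY
  have h3 := d.card_map_bar d.tK_mem_CP
  rw [d.card_NP] at h1
  rw [d.card_CY hzw] at h2
  rw [d.normalizer_Db, d.centralizer_y, d.centralizer_Db]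
  refine ⟨?_, ?_, h3⟩ <;> omega

theorem y_normalizes (hzw : d.ZW) (v : d.Kb) (hv : Commute v (d.bar d.yK)) : ∀ u ∈ d.Db, v * u * v⁻¹ ∈ d.Db := by
  have hmem : v ∈ d.CY.map d.bar := d.centralizer_y ▸ mem_centralizer_one.2 hv.eq
  obtain ⟨x, hx, rfl⟩ := hmem
  rintro _ ⟨p, hp, rfl⟩
  exact ⟨x * p * x⁻¹, d.mem_NP.1 (d.CY_le_NP hzw hx) p hp, by rw [map_mul, map_mul, map_inv]⟩

theorem card_CP_not_outer (ho : ¬ d.Outer) : Nat.card d.CP = 18 := by
  have e : (18 : ℕ) = Nat.card (Bool × d.P) := by simp [d.card_P]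
  rw [e]
  refine (Nat.card_congr (Equiv.ofBijective (fun p : Bool × d.P =>
    (⟨(if p.1 then d.tK else 1) * ⟨p.2, d.P_le_K p.2.2⟩, ?_⟩ : d.CP)) ⟨?_, ?_⟩)).symm
  · refine d.CP.mul_mem ?_ (d.mem_CP.2 ⟨d.J_comm _ (d.P_le_J p.2.2) _ d.z_mem_J,
      d.J_comm _ (d.P_le_J p.2.2) _ d.w_mem_J⟩)
    cases p.1
    · exact one_mem _
    · exact d.tK_mem_CP
  · rintro ⟨a, p⟩ ⟨b, q⟩ h
    have h' := congrArg (fun u : d.CP => ((u : d.K) : G)) h
    cases a <;> cases b <;>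
      simp only [Bool.false_eq_true, if_false, if_true, Subgroup.coe_mul, Subgroup.coe_one, one_mul, tK] at h'
    · exact Prod.ext rfl (Subtype.ext h')
    · exact (d.cube_eq (d.P_cube p.2) (d.P_cube q.2) (d.mem_P.1 q.2).2
        (by rw [h', (d.mem_P.1 q.2).2])).elim
    · exact (d.cube_eq (d.P_cube q.2) (d.P_cube p.2) (d.mem_P.1 p.2).2
        (by rw [← h', (d.mem_P.1 p.2).2])).elim
    · exact Prod.ext rfl (Subtype.ext (mul_left_cancel h'))
  · rintro ⟨x, hx⟩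
    obtain ⟨hz, hw⟩ := d.mem_CP.1 hx
    obtain ⟨p, hp, e | e⟩ := d.cent_P_of_not_outer ho (d.K_comm x) hz hw
    · exact ⟨(false, ⟨p, hp⟩), Subtype.ext (Subtype.ext (by simp [e]))⟩
    · exact ⟨(true, ⟨p, hp⟩), Subtype.ext (Subtype.ext (by simp [e, tK]))⟩

theorem card_CP_outer {r : G} (hr2 : r * r = d.t) (hz : r * d.z = d.z * r) (hw : r * d.w = d.w * r)
    (hrm : d.mat r = rot) : Nat.card d.CP = 36 := by
  have hrt : r * d.t = d.t * r := by rw [← hr2]; group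
  have hr4 : r ^ 4 = 1 := by rw [show 4 = 2 * 2 from rfl, pow_mul, pow_two r, hr2, pow_two, d.t_sq]
  have e : (36 : ℕ) = Nat.card (Fin 4 × d.P) := by simp [d.card_P]
  rw [e]
  refine (Nat.card_congr (Equiv.ofBijective (fun p : Fin 4 × d.P =>
    (⟨⟨r, mem_centralizer_one.2 hrt⟩ ^ (p.1 : ℕ) * ⟨p.2, d.P_le_K p.2.2⟩, ?_⟩ : d.CP)) ⟨?_, ?_⟩)).symm
  · exact d.CP.mul_mem (d.CP.pow_mem (d.mem_CP.2 ⟨hz, hw⟩) _) (d.mem_CP.2
      ⟨d.J_comm _ (d.P_le_J p.2.2) _ d.z_mem_J, d.J_comm _ (d.P_le_J p.2.2) _ d.w_mem_J⟩)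
  · rintro ⟨i, p⟩ ⟨j, q⟩ h
    have h' : r ^ (i : ℕ) * p = r ^ (j : ℕ) * q := by
      simpa using congrArg (fun u : d.CP => ((u : d.K) : G)) h
    have hm : ∀ k : ℕ, ∀ u ∈ d.P, d.mat (r ^ k * u) = rot ^ k := by
      intro k u hu
      have hrT := d.cent_T2 hz hw
      induction k generalizing u with
      | zero => rw [pow_zero, pow_zero, one_mul, d.mat_J (d.P_le_J hu)]
      | succ k ih =>
        rw [pow_succ', mul_assoc, d.mat_mul hrT (d.T2.mul_mem (d.T2.pow_mem hrT k) (d.J_le_T2 (d.P_le_J hu))),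
          hrm, ih u hu, pow_succ']
    have hij : rot ^ (i : ℕ) = rot ^ (j : ℕ) := by rw [← hm _ _ p.2, ← hm _ _ q.2, h']
    obtain rfl : i = j := rot_pow_inj i j hij
    exact Prod.ext rfl (Subtype.ext (mul_left_cancel h'))
  · rintro ⟨x, hx⟩
    obtain ⟨hxz, hxw⟩ := d.mem_CP.1 hx
    obtain ⟨p, hp, e | e | e | e⟩ := d.cent_P_outer hr2 hz hw hrm (d.K_comm x) hxz hxw
    · exact ⟨(0, ⟨p, hp⟩), Subtype.ext (Subtype.ext (by simp [e]))⟩
    · exact ⟨(2, ⟨p, hp⟩), Subtype.ext (Subtype.ext (by simp [e, ← hr2, pow_two]))⟩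
    · exact ⟨(1, ⟨p, hp⟩), Subtype.ext (Subtype.ext (by simp [e]))⟩
    · exact ⟨(3, ⟨p, hp⟩), Subtype.ext (Subtype.ext (by simp [e, ← hr2, pow_succ, mul_assoc]))⟩

end Pair

end Cfsg.Agent.McLThree
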