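/-
A Sylow three-subgroup is not covered by `C(t)` and a normal subgroup of odd order.
-/
import Cfsg.Agent.Lib.McLThree.Bar

set_option autoImplicit false
set_option maxRecDepth 100000
set_option linter.style.longLine false
set_option linter.style.haveILetI false

namespace Cfsg.Agent.McLThree

/-- `A₆` is simple. -/
theorem A6_odd_normal (N : Subgroup A6) [N.Normal] (h : Odd (Nat.card N)) : N = ⊥ := by
  haveI : IsSimpleGroup A6 := alternatingGroup.isSimpleGroup (by simp)
  rcases Subgroup.Normal.eq_bot_or_eq_top (H := N) inferInstance with e | e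
  · exact e
  · rw [e, Subgroup.card_top, Nat.card_eq_fintype_card, show Fintype.card A6 = 360 by decide +kernel] at h
    exact absurd h (by decide)

theorem SL5_odd_cases : ∀ x : SL5, x ^ 3 = 1 ∨ x ^ 5 = 1 ∨ (x ^ 15 ≠ 1) := by decide +kernel

theorem SL5_odd_element {x : SL5} (h : Odd (orderOf x)) : x ^ 3 = 1 ∨ x ^ 5 = 1 := by
  have hd : orderOf x ∣ 8 * 15 := by
    rw [show 8 * 15 = Nat.card SL5 by rw [Nat.card_eq_fintype_card, card_SL5]]; exact orderOf_dvd_natCard x
  have h15 : orderOf x ∣ 15 := (Nat.Coprime.pow_right 3 (Nat.coprime_two_right.2 h)).dvd_of_dvd_mul_left hd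
  rcases SL5_odd_cases x with e | e | e
  exacts [Or.inl e, Or.inr e, absurd (orderOf_dvd_iff_pow_eq_one.1 h15) e]

/-- `SL(2,5)` has no nontrivial normal subgroup of odd order. -/
theorem SL5_odd_normal_bot (N : Subgroup SL5) [hN : N.Normal] (h : Odd (Nat.card N)) : N = ⊥ := by
  refine (Subgroup.eq_bot_iff_forall N).2 fun x hx => ?_
  by_contra hx1
  have hodd : ∀ y ∈ N, Odd (orderOf y) := fun y hy =>
    h.of_dvd_nat (Subgroup.orderOf_dvd_natCard N hy)
  obtain ⟨g, hg⟩ := SL5_odd_normal x hx1 (SL5_odd_element (hodd x hx))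
  have hmem : x * (g * x * g⁻¹) ∈ N := N.mul_mem hx (hN.conj_mem x hx g)
  have hneg : (-1 : SL5) ∈ N := by
    rcases hg with e | e | e <;> rw [← e] <;> exact N.pow_mem hmem _
  have h2 := hodd _ hneg
  haveI := Fact.mk Nat.prime_two
  rw [orderOf_eq_prime (by rw [pow_two]; exact SL5_neg_one.1) SL5_neg_one.2] at h2
  exact absurd h2 (by decide)

theorem Data.odd_normal_le_A {G : Type*} [Group G] [Finite G] (d : Data G) (N : Subgroup G) [hN : N.Normal]
    (h : Odd (Nat.card N)) {x : G} (hxS : x ∈ (d.S : Subgroup G)) (hxN : x ∈ N) : x ∈ d.A := by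
  classical
  have hxM := d.S_le_M₀ hxS
  have hxL := d.S_le_L₀ hxS
  refine d.mem_A.2 ⟨(d.ker₆ x hxM).1 ?_, (d.ker₅ x hxL).1 ?_⟩
  · let f : d.M₀ →* A6 := MonoidHom.mk' (fun x => d.π₆ x) fun a b => d.map₆ a a.2 b b.2
    have hf : Function.Surjective f := fun a => by
      obtain ⟨y, hy, e⟩ := d.surj₆ a
      exact ⟨⟨y, hy⟩, e⟩
    haveI : ((N.subgroupOf d.M₀).map f).Normal := Subgroup.Normal.map inferInstance f hf
    have hodd : Odd (Nat.card ((N.subgroupOf d.M₀).map f)) := h.of_dvd_nat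
      (((N.subgroupOf d.M₀).card_map_dvd f).trans (by
        rw [← Subgroup.inf_subgroupOf_right, Nat.card_congr (Subgroup.subgroupOfEquivOfLe inf_le_right).toEquiv]
        exact Subgroup.card_dvd_of_le inf_le_left))
    have hmem : f ⟨x, hxM⟩ ∈ (N.subgroupOf d.M₀).map f := ⟨⟨x, hxM⟩, hxN, rfl⟩
    rw [A6_odd_normal _ hodd] at hmem
    exact Subgroup.mem_bot.1 hmem
  · let f : d.L₀ →* SL5 := MonoidHom.mk' (fun x => d.π₅ x) fun a b => d.map₅ a a.2 b b.2
    have hf : Function.Surjective f := fun a => by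
      obtain ⟨y, hy, e⟩ := d.surj₅ a
      exact ⟨⟨y, hy⟩, e⟩
    haveI : ((N.subgroupOf d.L₀).map f).Normal := Subgroup.Normal.map inferInstance f hf
    have hodd : Odd (Nat.card ((N.subgroupOf d.L₀).map f)) := h.of_dvd_nat
      (((N.subgroupOf d.L₀).card_map_dvd f).trans (by
        rw [← Subgroup.inf_subgroupOf_right, Nat.card_congr (Subgroup.subgroupOfEquivOfLe inf_le_right).toEquiv]
        exact Subgroup.card_dvd_of_le inf_le_left))
    have hmem : f ⟨x, hxL⟩ ∈ (N.subgroupOf d.L₀).map f := ⟨⟨x, hxL⟩, hxN, rfl⟩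
    rw [SL5_odd_normal_bot _ hodd] at hmem
    exact Subgroup.mem_bot.1 hmem

theorem Pair.K_not27 {G : Type*} [Group G] [Finite G] (d : Pair G) : ¬ 27 ∣ Nat.card d.K := by
  intro h
  have e := d.card_map_bar (H := ⊤) (Subgroup.mem_top _)
  rw [Subgroup.card_top, Subgroup.map_top_of_surjective d.bar d.bar_surj, Subgroup.card_top] at e
  rw [e] at h
  exact d.not27 ((show Nat.Coprime 27 2 by norm_num).dvd_of_dvd_mul_left h)

/-- `S` is not contained in the product of `C(t)` and a normal subgroup of odd order. -/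
theorem Pair.not_cover {G : Type*} [Group G] [Finite G] (d : Pair G) (N : Subgroup G) [N.Normal]
    (hodd : Odd (Nat.card N)) (hS : (d.S : Subgroup G) ≤ d.K ⊔ N) : False := by
  set π := (QuotientGroup.mk' N).comp (d.S : Subgroup G).subtype with hπ
  have hrange : π.range ≤ d.K.map (QuotientGroup.mk' N) := by
    rintro _ ⟨x, rfl⟩
    obtain ⟨k, hk, n, hn, e⟩ := Subgroup.mem_sup_of_normal_right.1 (hS x.2)
    refine ⟨k, hk, ?_⟩
    show QuotientGroup.mk' N k = QuotientGroup.mk' N (x : G)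
    rw [← e, map_mul, QuotientGroup.mk'_apply, QuotientGroup.mk'_apply, (QuotientGroup.eq_one_iff n).2 hn, mul_one]
  have hd : Nat.card π.range ∣ Nat.card d.K :=
    (Subgroup.card_dvd_of_le hrange).trans (d.K.card_map_dvd _)
  have hker : Nat.card π.ker ≤ 27 := by
    rw [← d.card_A]
    refine Nat.card_le_card_of_injective (fun x : π.ker => (⟨((x : (d.S : Subgroup G)) : G), ?_⟩ : d.A)) ?_
    · exact d.odd_normal_le_A N hodd (x : (d.S : Subgroup G)).2 ((QuotientGroup.eq_one_iff _).1 x.2)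
    · exact fun x y e => Subtype.ext (Subtype.ext (congrArg (fun u : d.A => (u : G)) e))
  have hcard := Subgroup.card_eq_card_quotient_mul_card_subgroup π.ker
  rw [Nat.card_congr (QuotientGroup.quotientKerEquivRange π).toEquiv, d.card_S] at hcard
  obtain ⟨j, -, hj⟩ := (Nat.dvd_prime_pow Nat.prime_three).1 (show Nat.card π.range ∣ 3 ^ 6 from ⟨_, by rw [← hcard]; rfl⟩)
  have hj2 : j ≤ 2 := by
    by_contra hlt
    exact d.K_not27 ((pow_dvd_pow 3 (show 3 ≤ j by omega)).trans (hj ▸ hd))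
  have h9 : Nat.card π.range ≤ 9 := hj ▸ (Nat.pow_le_pow_right (by norm_num) hj2).trans (le_of_eq (by norm_num))
  nlinarith

end Cfsg.Agent.McLThree
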