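/-
The homomorphism of `N(⟨z⟩) ∩ C(t)` into `S₃ × S₅`.
-/
import Cfsg.Agent.Lib.McLThree.Bar

set_option autoImplicit false
set_option maxRecDepth 100000
set_option linter.style.longLine false
set_option linter.style.haveILetI false

open Equiv

namespace Cfsg.Agent.McLThree

/-- The extension of a subgroup by an element whose square lies in it. -/
def extTwo {G : Type*} [Group G] (M : Subgroup G) (u : G) (hn : ∀ m ∈ M, u * m * u⁻¹ ∈ M) (hu : u * u ∈ M) :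
    Subgroup G where
  carrier := {x | x ∈ M ∨ x * u ∈ M}
  one_mem' := Or.inl M.one_mem
  mul_mem' := fun {a b} ha hb => by
    have hn' : ∀ m ∈ M, u⁻¹ * m * u ∈ M := fun m hm => by
      have := M.mul_mem (M.mul_mem (M.inv_mem hu) (hn m hm)) hu
      rwa [show (u * u)⁻¹ * (u * m * u⁻¹) * (u * u) = u⁻¹ * m * u by group] at this
    rcases ha with ha | ha <;> rcases hb with hb | hb
    · exact Or.inl (M.mul_mem ha hb)
    · exact Or.inr (by rw [mul_assoc]; exact M.mul_mem ha hb)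
    · refine Or.inr ?_
      rw [show a * b * u = a * u * (u⁻¹ * b * u) by group]
      exact M.mul_mem ha (hn' b hb)
    · refine Or.inl ?_
      rw [show a * b = a * u * (u⁻¹ * (b * u) * u) * (u * u)⁻¹ by group]
      exact M.mul_mem (M.mul_mem ha (hn' _ hb)) (M.inv_mem hu)
  inv_mem' := fun {a} ha => by
    rcases ha with ha | ha
    · exact Or.inl (M.inv_mem ha)
    · refine Or.inr ?_
      rw [show a⁻¹ * u = u * (a * u)⁻¹ * u⁻¹ * (u * u) by group]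
      exact M.mul_mem (hn _ (M.inv_mem ha)) hu

theorem mem_extTwo {G : Type*} [Group G] {M : Subgroup G} {u : G} {hn : ∀ m ∈ M, u * m * u⁻¹ ∈ M} {hu : u * u ∈ M}
    {x : G} : x ∈ extTwo M u hn hu ↔ x ∈ M ∨ x * u ∈ M := Iff.rfl

theorem perm3_words : ∀ a : Perm (Fin 3), ∃ i < 3,
    a = (swap 0 2 * swap 0 1) ^ i ∨ a = (swap 0 2 * swap 0 1) ^ i * swap 1 2 := by decide +kernel

theorem perm3_act : ∀ i : Fin 3, ((1 + (i : ℕ)) % 3 = ((swap 0 2 * swap 0 1 : Perm (Fin 3)) i : ℕ)) ∧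
    (((swap 1 2 : Perm (Fin 3)) i : ℕ) + (i : ℕ)) % 3 = 0 := by decide +kernel

theorem perm5_three_conj : ∀ σ : Perm (Fin 5), σ ^ 3 = 1 → σ ≠ 1 →
    ∃ π : Perm (Fin 5), π * σ * π⁻¹ = swap 0 2 * swap 0 1 := by decide +kernel

/-- The element `r` completing `⟨z⟩ × L` to `C(z) ∩ C(t)`. -/
structure Side {G : Type*} [Group G] [Finite G] (d : Pair G) where
  r : G
  r_t : r * d.t = d.t * r
  r_z : r * d.z = d.z * r
  r_w : r * d.w = d.w * r
  r_sq : r * r = 1 ∨ r * r = d.t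
  cent : ∀ x : G, x * d.t = d.t * x → x * d.z = d.z * x → x * d.w = d.w * x →
    ∃ p ∈ d.P, x = p ∨ x = d.t * p ∨ x = r * p ∨ x = r * d.t * p
  r_odd : r ∈ d.L ∨ Perm.sign (d.sig ⟨r, d.mem_NZt_of_commute r_z r_t⟩) = -1

theorem Pair.side_inner {G : Type*} [Group G] [Finite G] (d : Pair G) (ho : ¬ d.Outer) :
    ∃ s : Side d, s.r = 1 := by
  refine ⟨⟨1, by simp, by simp, by simp, Or.inl (one_mul 1), fun x hxt hz hw => ?_, Or.inl d.L.one_mem⟩, rfl⟩
  obtain ⟨p, hp, e⟩ := d.cent_P_of_not_outer ho hxt hz hw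
  exact ⟨p, hp, e.elim Or.inl fun e => Or.inr (Or.inl e)⟩

theorem Pair.side_outer {G : Type*} [Group G] [Finite G] (d : Pair G) (ho : d.Outer) :
    ∃ s : Side d, s.r * s.r = d.t ∧ d.mat s.r = rot ∧
      Perm.sign (d.sig ⟨s.r, d.mem_NZt_of_commute s.r_z s.r_t⟩) = -1 := by
  obtain ⟨r, hr2, hrz, hrw, hrm⟩ := d.exists_r ho
  have hrt : r * d.t = d.t * r := by rw [← hr2]; group
  have hs := d.sig_r (d.mem_NZt_of_commute hrz hrt) hrz hrw hrm
  exact ⟨⟨r, hrt, hrz, hrw, Or.inr hr2, fun x hxt hz hw => d.cent_P_outer hr2 hrz hrw hrm hxt hz hw, Or.inr hs⟩,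
    hr2, hrm, hs⟩

namespace Side

variable {G : Type*} [Group G] [Finite G] {d : Pair G} (s : Side d)

/-- `r` as an element of `N(⟨z⟩) ∩ C(t)`. -/
def rN : d.NZt := ⟨s.r, d.mem_NZt_of_commute s.r_z s.r_t⟩

theorem r_sq_mem : s.r * s.r ∈ d.L := by
  rcases s.r_sq with e | e <;> rw [e]
  exacts [d.L.one_mem, d.t_mem_L]

/-- An element of `C(t) ∩ C(P)` squaring into `⟨t⟩` lies in `⟨r, t⟩`. -/
theorem cp_sq {x : G} (hxt : x * d.t = d.t * x) (hz : x * d.z = d.z * x) (hw : x * d.w = d.w * x)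
    (h2 : x * x = 1 ∨ x * x = d.t) : x = 1 ∨ x = d.t ∨ x = s.r ∨ x = s.r * d.t := by
  obtain ⟨p, hp, e⟩ := s.cent x hxt hz hw
  have hpt : Commute p d.t := (d.mem_P.1 hp).2
  have hpr : Commute p s.r := (d.commute_P s.r_z s.r_w hp).symm
  have key : ∀ u : G, Commute p u → (u * u = 1 ∨ u * u = d.t) → x = u * p → p = 1 := by
    intro u hpu hu hx
    have hx2 : x * x = u * u * (p * p) := by
      rw [hx]
      calc u * p * (u * p) = u * (p * u) * p := by group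
        _ = _ := by rw [hpu.eq]; group
    have hpp : p * p ∈ d.P := d.P.mul_mem hp hp
    have hp2 : p * p = 1 ∨ p * p = d.t := by
      rcases h2 with a | a <;> rcases hu with b | b <;> rw [a, b] at hx2
      · exact Or.inl (by rw [hx2, one_mul])
      · refine Or.inr ?_
        rw [← d.t_inv]; exact eq_inv_of_mul_eq_one_right hx2.symm
      · exact Or.inr (by rw [hx2, one_mul])
      · exact Or.inl (mul_eq_left.1 hx2.symm)
    rcases hp2 with a | a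
    · exact d.eq_one_of_sq (d.P_le_J hp) a
    · exfalso
      have ht := d.eq_one_of_sq (d.P_le_J (a ▸ hpp)) d.t_sq
      exact d.t_ne ht
  have ht2 : ∀ u : G, Commute u d.t → (u * u = 1 ∨ u * u = d.t) → (u * d.t * (u * d.t) = 1 ∨ u * d.t * (u * d.t) = d.t) :=
    fun u hu h => by
      have e2 : u * d.t * (u * d.t) = u * u * (d.t * d.t) := hu.symm.mul_mul_mul_comm u d.t
      rw [e2, d.t_sq, mul_one]; exact h
  rcases e with e | e | e | e
  · exact Or.inl (e.trans (key 1 (Commute.one_right p) (Or.inl (one_mul 1)) (by rw [one_mul]; exact e)))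
  · rw [key d.t hpt (Or.inl d.t_sq) e, mul_one] at e
    exact Or.inr (Or.inl e)
  · rw [key s.r hpr s.r_sq e, mul_one] at e
    exact Or.inr (Or.inr (Or.inl e))
  · rw [key _ (hpr.mul_right hpt) (ht2 _ s.r_t s.r_sq) e, mul_one] at e
    exact Or.inr (Or.inr (Or.inr e))

/-- The complement of `⟨z⟩` in `C(z) ∩ C(t)`. -/
def M1 : Subgroup G :=
  extTwo d.L s.r (fun _ hm => d.conj_L s.rN.2 hm) s.r_sq_mem

theorem L_le_M1 : d.L ≤ s.M1 := fun _ hl => Or.inl hl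

theorem r_mem_M1 : s.r ∈ s.M1 := Or.inr s.r_sq_mem

theorem small_mem_M1 {x : G} (h : x = 1 ∨ x = d.t ∨ x = s.r ∨ x = s.r * d.t) : x ∈ s.M1 := by
  rcases h with rfl | rfl | rfl | rfl
  exacts [s.M1.one_mem, s.L_le_M1 d.t_mem_L, s.r_mem_M1, s.M1.mul_mem s.r_mem_M1 (s.L_le_M1 d.t_mem_L)]

theorem M1_z {m : G} (hm : m ∈ s.M1) : m * d.z = d.z * m := by
  rcases hm with h | h
  · exact d.L₀_cent _ (d.L_le h)
  · have h1 : Commute (m * s.r) d.z := d.L₀_cent _ (d.L_le h)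
    have := (h1.mul_left (show Commute s.r d.z from s.r_z).inv_left).eq
    rwa [mul_inv_cancel_right] at this

theorem M1_le : s.M1 ≤ d.NZt := fun m hm => by
  rcases hm with h | h
  · exact d.L_le_NZt h
  · have := d.NZt.mul_mem (d.L_le_NZt h) (d.NZt.inv_mem s.rN.2)
    rwa [show m * s.r * (s.rN : G)⁻¹ = m from mul_inv_cancel_right m s.r] at this

theorem h_norm {m : G} (hm : m ∈ s.M1) : d.h * m * d.h⁻¹ ∈ s.M1 := by
  have hy : d.h * s.r * d.h⁻¹ ∈ s.M1 := by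
    have hht : Commute d.h d.t := d.h_t
    have hc : ∀ u v : G, Commute s.r u → d.h * u * d.h⁻¹ = v → Commute (d.h * s.r * d.h⁻¹) v := fun u v h e => by
      have := h.map (MulAut.conj d.h)
      simpa only [MulAut.conj_apply, e] using this
    refine s.small_mem_M1 (s.cp_sq (hc _ _ s.r_t (conj_eq_of_commute hht.eq)).eq ?_
      (hc _ _ s.r_w d.h_w).eq ?_)
    · have := (hc _ _ s.r_z d.h_z).inv_right
      rw [inv_inv] at this
      exact this.eq
    · rw [conj_mul]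
      rcases s.r_sq with e | e <;> rw [e]
      · exact Or.inl (by group)
      · exact Or.inr (conj_eq_of_commute hht.eq)
  rcases hm with h | h
  · exact s.L_le_M1 (d.conj_L d.h_mem_NZt h)
  · have := s.M1.mul_mem (s.L_le_M1 (d.conj_L d.h_mem_NZt h)) (s.M1.inv_mem hy)
    rwa [show d.h * (m * s.r) * d.h⁻¹ * (d.h * s.r * d.h⁻¹)⁻¹ = d.h * m * d.h⁻¹ by group] at this

/-- The stabiliser of the coset of `1`. -/
def H3 : Subgroup G :=
  extTwo s.M1 d.h (fun _ hm => s.h_norm hm) (d.h_sq ▸ s.L_le_M1 d.t_mem_L)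

theorem h_mem_H3 : d.h ∈ s.H3 := Or.inr (d.h_sq ▸ s.L_le_M1 d.t_mem_L)

theorem mem_M1_of_commute {x : G} (hx : x ∈ s.H3) (h : x * d.z = d.z * x) : x ∈ s.M1 := by
  rcases hx with h1 | h1
  · exact h1
  exfalso
  have h2 := conj_eq_of_commute (s.M1_z h1)
  rw [show x * d.h * d.z * (x * d.h)⁻¹ = x * (d.h * d.z * d.h⁻¹) * x⁻¹ by group, d.h_z, ← conj_inv,
    conj_eq_of_commute h] at h2
  exact d.ne_inv d.sg_z h2.symm

theorem z_notMem : d.z ∉ s.M1 := by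
  have hz : d.z ∉ d.L := fun h => d.z_ne (d.L_inj _ h ((d.ker₅ _ (d.L_le h)).2 d.z_mem_Q))
  rintro (h | h)
  · exact hz h
  · refine hz ?_
    have h2 : d.z * d.z ∈ d.L := by
      have := d.L.mul_mem (d.L.mul_mem h h) (d.L.inv_mem s.r_sq_mem)
      rwa [(show Commute s.r d.z from s.r_z).mul_mul_mul_comm, mul_inv_cancel_right] at this
    have := d.L.mul_mem h2 h2
    rwa [show d.z * d.z * (d.z * d.z) = d.z by
      rw [show d.z * d.z * (d.z * d.z) = d.z ^ 3 * d.z by simp only [pow_succ, pow_zero, one_mul, mul_assoc],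
        d.z_cube, one_mul]] at this

theorem z_pow_mem {k : ℕ} (h : d.z ^ k ∈ s.H3) : k % 3 = 0 := by
  have h1 := s.mem_M1_of_commute h ((Commute.refl d.z).pow_left k).eq
  rw [pow_eq_pow_mod k d.z_cube] at h1
  rcases (show k % 3 = 0 ∨ k % 3 = 1 ∨ k % 3 = 2 by omega) with e | e | e
  · exact e
  · rw [e, pow_one] at h1; exact absurd h1 s.z_notMem
  · rw [e, pow_two, ← inv_eq_sq d.z_cube] at h1
    exact absurd (inv_mem_iff.1 h1) s.z_notMem

theorem fin_eq {a b : Fin 3} (h : (d.z ^ (a : ℕ))⁻¹ * d.z ^ (b : ℕ) ∈ s.H3) : a = b := by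
  have e : (d.z ^ (a : ℕ))⁻¹ * d.z ^ (b : ℕ) = d.z ^ (2 * (a : ℕ) + (b : ℕ)) := by
    rw [inv_mul_eq_iff_eq_mul, ← pow_add, show (a : ℕ) + (2 * a + b) = 3 * a + b by ring, pow_add, pow_mul,
      d.z_cube, one_pow, one_mul]
  have := s.z_pow_mem (e ▸ h)
  omega

theorem decomp (x : d.NZt) :
    ∃ i : Fin 3, ∃ m ∈ s.M1, (x : G) = d.z ^ (i : ℕ) * m ∨ (x : G) * d.h = d.z ^ (i : ℕ) * m := by
  have key : ∀ y : G, y * d.t = d.t * y → y * d.z = d.z * y →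
      ∃ i : Fin 3, ∃ m ∈ s.M1, y = d.z ^ (i : ℕ) * m := by
    intro y hyt hyz
    obtain ⟨l, hl, v, hvt, hvz, hvw, rfl⟩ := d.cent_z_decomp hyt hyz
    obtain ⟨p, hp, e⟩ := s.cent v hvt hvz hvw
    obtain ⟨u, hu, hv⟩ : ∃ u, (u = 1 ∨ u = d.t ∨ u = s.r ∨ u = s.r * d.t) ∧ v = u * p := by
      rcases e with e | e | e | e
      exacts [⟨1, Or.inl rfl, by rw [one_mul]; exact e⟩, ⟨_, Or.inr (Or.inl rfl), e⟩,
        ⟨_, Or.inr (Or.inr (Or.inl rfl)), e⟩, ⟨_, Or.inr (Or.inr (Or.inr rfl)), e⟩]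
    obtain ⟨i, hi, j, -, rfl⟩ := d.exists_P_pow hp
    refine ⟨⟨i, hi⟩, l * u * d.w ^ j,
      s.M1.mul_mem (s.M1.mul_mem (s.L_le_M1 hl) (s.small_mem_M1 hu)) (s.L_le_M1 (d.L.pow_mem d.w_mem_L j)), ?_⟩
    show l * v = d.z ^ i * (l * u * d.w ^ j)
    have hc : Commute (d.z ^ i) (l * u) :=
      ((show Commute (l * u) d.z from s.M1_z (s.M1.mul_mem (s.L_le_M1 hl) (s.small_mem_M1 hu))).pow_right i).symm
    rw [hv, ← mul_assoc (d.z ^ i), hc.eq]; group
  obtain ⟨hz | hz, ht⟩ := d.mem_NZt_iff.1 x.2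
  · obtain ⟨i, m, hm, e⟩ := key _ ht (commute_of_conj_eq hz)
    exact ⟨i, m, hm, Or.inl e⟩
  · obtain ⟨i, m, hm, e⟩ := key _ ((show Commute (x : G) d.t from ht).mul_left d.h_t).eq (commute_of_conj_eq (by
      rw [show (x : G) * d.h * d.z * ((x : G) * d.h)⁻¹ = (x : G) * (d.h * d.z * d.h⁻¹) * (x : G)⁻¹ by group, d.h_z,
        ← conj_inv, hz, inv_inv]))
    exact ⟨i, m, hm, Or.inr e⟩

theorem exists_act (x : d.NZt) (i : Fin 3) : ∃ a : Fin 3, (d.z ^ (a : ℕ))⁻¹ * x * d.z ^ (i : ℕ) ∈ s.H3 := by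
  obtain ⟨a, m, hm, e | e⟩ := s.decomp (x * ⟨d.z, d.z_mem_NZt⟩ ^ (i : ℕ))
  · refine ⟨a, ?_⟩
    simp only [Subgroup.coe_mul, SubmonoidClass.coe_pow] at e
    rw [mul_assoc, e, inv_mul_cancel_left]
    exact Or.inl hm
  · refine ⟨a, Or.inr ?_⟩
    simp only [Subgroup.coe_mul, SubmonoidClass.coe_pow] at e
    rw [show (d.z ^ (a : ℕ))⁻¹ * x * d.z ^ (i : ℕ) * d.h = (d.z ^ (a : ℕ))⁻¹ * ((x : G) * d.z ^ (i : ℕ) * d.h) by group,
      e, inv_mul_cancel_left]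
    exact hm

/-- The action on the three cosets. -/
noncomputable def act (x : d.NZt) (i : Fin 3) : Fin 3 := (s.exists_act x i).choose

theorem act_spec (x : d.NZt) (i : Fin 3) : (d.z ^ ((s.act x i : Fin 3) : ℕ))⁻¹ * x * d.z ^ (i : ℕ) ∈ s.H3 :=
  (s.exists_act x i).choose_spec

theorem act_eq {x : d.NZt} {i a : Fin 3} (h : (d.z ^ (a : ℕ))⁻¹ * x * d.z ^ (i : ℕ) ∈ s.H3) : s.act x i = a := by
  refine s.fin_eq ?_
  have := s.H3.mul_mem (s.act_spec x i) (s.H3.inv_mem h)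
  rwa [show (d.z ^ ((s.act x i : Fin 3) : ℕ))⁻¹ * x * d.z ^ (i : ℕ) * ((d.z ^ (a : ℕ))⁻¹ * x * d.z ^ (i : ℕ))⁻¹
    = (d.z ^ ((s.act x i : Fin 3) : ℕ))⁻¹ * d.z ^ (a : ℕ) by group] at this

theorem act_inj (x : d.NZt) : Function.Injective (s.act x) := fun i j h => by
  refine s.fin_eq ?_
  have h1 := (s.exists_act x i).choose_spec
  have h2 := (s.exists_act x j).choose_spec
  rw [show (s.exists_act x j).choose = (s.exists_act x i).choose from h.symm] at h2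
  have := s.H3.mul_mem (s.H3.inv_mem h1) h2
  rwa [show ∀ a b c e : G, (a * b * c)⁻¹ * (a * b * e) = c⁻¹ * e from fun a b c e => by group] at this

/-- The permutation of the three cosets. -/
noncomputable def sig3 : d.NZt →* Perm (Fin 3) :=
  MonoidHom.mk' (fun x => Equiv.ofBijective (s.act x) (Finite.injective_iff_bijective.1 (s.act_inj x)))
    fun x y => Equiv.ext fun i => by
      show s.act (x * y) i = s.act x (s.act y i)
      refine s.act_eq ?_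
      have := s.H3.mul_mem (s.act_spec x (s.act y i)) (s.act_spec y i)
      rwa [show ∀ a b c e f : G, a * b * c * (c⁻¹ * e * f) = a * (b * e) * f from fun a b c e f => by group] at this

theorem sig3_eq {x : d.NZt} {σ : Perm (Fin 3)}
    (h : ∀ i : Fin 3, (d.z ^ ((σ i : Fin 3) : ℕ))⁻¹ * x * d.z ^ (i : ℕ) ∈ s.H3) : s.sig3 x = σ :=
  Equiv.ext fun i => s.act_eq (h i)

theorem sig3_z : s.sig3 ⟨d.z, d.z_mem_NZt⟩ = swap 0 2 * swap 0 1 := by
  refine s.sig3_eq fun i => ?_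
  rw [mul_assoc, ← pow_succ', pow_eq_pow_mod ((i : ℕ) + 1) d.z_cube, ← (perm3_act i).1, add_comm, inv_mul_cancel]
  exact s.H3.one_mem

theorem sig3_h : s.sig3 ⟨d.h, d.h_mem_NZt⟩ = swap 1 2 := by
  refine s.sig3_eq fun i => ?_
  obtain ⟨k, hk⟩ : 3 ∣ ((swap 1 2 : Perm (Fin 3)) i : ℕ) + (i : ℕ) := Nat.dvd_of_mod_eq_zero (perm3_act i).2
  have e : (d.z ^ (((swap 1 2 : Perm (Fin 3)) i : Fin 3) : ℕ))⁻¹ = d.z ^ (i : ℕ) :=
    inv_eq_of_mul_eq_one_right (by rw [← pow_add, hk, pow_mul, d.z_cube, one_pow])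
  have hh : d.h * d.z ^ (i : ℕ) = (d.z ^ (i : ℕ))⁻¹ * d.h := by
    rw [← mul_inv_eq_iff_eq_mul, ← conj_pow, d.h_z, inv_pow]
  rw [e, mul_assoc, hh, mul_inv_cancel_left]
  exact s.h_mem_H3

theorem sig3_M1 {m : G} (hm : m ∈ s.M1) : s.sig3 ⟨m, s.M1_le hm⟩ = 1 := by
  refine s.sig3_eq fun i => ?_
  rw [Perm.one_apply, mul_assoc, ((show Commute m d.z from s.M1_z hm).pow_right _).eq, inv_mul_cancel_left]
  exact Or.inl hm

theorem sig3_surj (a : Perm (Fin 3)) : ∃ x, s.sig3 x = a := by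
  obtain ⟨i, -, rfl | rfl⟩ := perm3_words a
  · exact ⟨⟨d.z, d.z_mem_NZt⟩ ^ i, by rw [map_pow, s.sig3_z]⟩
  · exact ⟨⟨d.z, d.z_mem_NZt⟩ ^ i * ⟨d.h, d.h_mem_NZt⟩, by rw [map_mul, map_pow, s.sig3_z, s.sig3_h]⟩

theorem sig3_ker {x : d.NZt} (h : s.sig3 x = 1) : (x : G) ∈ s.M1 := by
  have key : ∀ i : Fin 3, (d.z ^ (i : ℕ))⁻¹ * x * d.z ^ (i : ℕ) ∈ s.H3 := fun i => by
    have := (s.exists_act x i).choose_spec
    rwa [show (s.exists_act x i).choose = i from Equiv.congr_fun h i] at this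
  have h0 : (x : G) ∈ s.H3 := by simpa using key 0
  obtain ⟨hz | hz, -⟩ := d.mem_NZt_iff.1 x.2
  · exact s.mem_M1_of_commute h0 (commute_of_conj_eq hz)
  · exfalso
    have h1 : d.z⁻¹ * x * d.z ∈ s.H3 := by simpa using key 1
    have h2 : d.z ∈ s.H3 := by
      have := s.H3.mul_mem h1 (s.H3.inv_mem h0)
      rwa [show d.z⁻¹ * x * d.z * (x : G)⁻¹ = d.z⁻¹ * ((x : G) * d.z * (x : G)⁻¹) by group, hz, ← inv_eq_sq (show d.z⁻¹ ^ 3 = 1 by rw [inv_pow, d.z_cube, inv_one]), inv_inv] at this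
    have := s.z_pow_mem (k := 1) (by rwa [pow_one])
    omega

/-- The conjugating permutation moving the image of `w` to `(0 1 2)`. -/
theorem exists_align : ∃ π : Perm (Fin 5),
    π * d.sig ⟨d.w, d.L_le_NZt d.w_mem_L'⟩ * π⁻¹ = swap 0 2 * swap 0 1 := by
  refine perm5_three_conj _ ?_ fun h => ?_
  · rw [← map_pow, show (⟨d.w, d.L_le_NZt d.w_mem_L'⟩ : d.NZt) ^ 3 = 1 from Subtype.ext (d.J_exp _ d.w_mem_J), map_one]
  · rw [d.sig_L ⟨d.w, d.w_mem_L'⟩, OneMemClass.coe_eq_one, d.toA5_ker] at h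
    rcases h with h | h
    · exact d.sg_ne_one d.sg_w h
    · exact d.t_ne (d.eq_one_of_sq (h ▸ d.w_mem_J) d.t_sq)

/-- The map to `S₃ × S₅`. -/
noncomputable def theta : d.NZt →* Perm (Fin 3) × Perm (Fin 5) :=
  s.sig3.prod ((MulAut.conj (exists_align (d := d)).choose).toMonoidHom.comp d.sig)

theorem theta_fst (x : d.NZt) : (s.theta x).1 = s.sig3 x := rfl

theorem sign_snd (x : d.NZt) : Perm.sign (s.theta x).2 = Perm.sign (d.sig x) := by
  show Perm.sign ((exists_align (d := d)).choose * d.sig x * (exists_align (d := d)).choose⁻¹) = _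
  rw [map_mul, map_mul, map_inv, mul_inv_cancel_comm]

theorem theta_z : s.theta ⟨d.z, d.z_mem_NZt⟩ = (swap 0 2 * swap 0 1, 1) :=
  Prod.ext s.sig3_z (by
    show (exists_align (d := d)).choose * d.sig _ * (exists_align (d := d)).choose⁻¹ = 1
    rw [d.sig_z, mul_one, mul_inv_cancel])

theorem theta_w : s.theta ⟨d.w, d.L_le_NZt d.w_mem_L'⟩ = (1, swap 0 2 * swap 0 1) :=
  Prod.ext (s.sig3_M1 (s.L_le_M1 d.w_mem_L')) (exists_align (d := d)).choose_spec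

theorem theta_ker (x : d.NZt) : s.theta x = 1 ↔ (x : G) = 1 ∨ (x : G) = d.t := by
  constructor
  · intro h
    have h3 : s.sig3 x = 1 := congrArg Prod.fst h
    have h5 : d.sig x = 1 := by
      have : (exists_align (d := d)).choose * d.sig x * (exists_align (d := d)).choose⁻¹ = 1 := congrArg Prod.snd h
      exact conj_eq_one_iff.1 this
    have hxL : (x : G) ∈ d.L := by
      rcases s.sig3_ker h3 with hm | hm
      · exact hm
      rcases s.r_odd with hr | hr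
      · have := d.L.mul_mem hm (d.L.inv_mem hr)
        rwa [mul_inv_cancel_right] at this
      exfalso
      have e := d.L_even ⟨_, hm⟩
      rw [show (⟨(x : G) * s.r, d.L_le_NZt hm⟩ : d.NZt) = x * ⟨s.r, d.mem_NZt_of_commute s.r_z s.r_t⟩ from rfl,
        map_mul, h5, one_mul, hr] at e
      exact absurd e (by decide)
    have h' := d.sig_L ⟨x, hxL⟩
    rw [show (⟨(x : G), d.L_le_NZt hxL⟩ : d.NZt) = x from rfl, h5, eq_comm, OneMemClass.coe_eq_one, d.toA5_ker] at h'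
    exact h'
  · rintro (h | h)
    · rw [show x = 1 from Subtype.ext h, map_one]
    · rw [show x = ⟨d.t, d.L_le_NZt d.t_mem_L⟩ from Subtype.ext h]
      refine Prod.ext (s.sig3_M1 (s.L_le_M1 d.t_mem_L)) ?_
      show (exists_align (d := d)).choose * d.sig _ * (exists_align (d := d)).choose⁻¹ = 1
      rw [d.sig_L ⟨d.t, d.t_mem_L⟩, (d.toA5_ker _).2 (Or.inr rfl)]
      simp

theorem theta_L {a : Perm (Fin 5)} (ha : Perm.sign a = 1) : ∃ x, s.theta x = (1, a) := by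
  obtain ⟨l, hl⟩ := d.toA5_surj ⟨(exists_align (d := d)).choose⁻¹ * a * (exists_align (d := d)).choose,
    Perm.mem_alternatingGroup.2 (by rw [map_mul, map_mul, map_inv, ha, mul_one, inv_mul_cancel])⟩
  refine ⟨⟨l, d.L_le_NZt l.2⟩, Prod.ext (s.sig3_M1 (s.L_le_M1 l.2)) ?_⟩
  show (exists_align (d := d)).choose * d.sig _ * (exists_align (d := d)).choose⁻¹ = a
  rw [d.sig_L, hl]
  group

/-- The signs agree when `r` lies in `L`. -/
theorem sign_agree (hr : s.r ∈ d.L) (x : d.NZt) : Perm.sign (s.theta x).1 = Perm.sign (s.theta x).2 := by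
  have hm : ∀ m, ∀ hm : m ∈ s.M1, ∀ i : ℕ, Perm.sign (s.sig3 (⟨d.z, d.z_mem_NZt⟩ ^ i * ⟨m, s.M1_le hm⟩)) = 1 ∧
      Perm.sign (d.sig (⟨d.z, d.z_mem_NZt⟩ ^ i * ⟨m, s.M1_le hm⟩)) = 1 := by
    intro m hm i
    have hmL : m ∈ d.L := by
      rcases hm with h | h
      · exact h
      · have := d.L.mul_mem h (d.L.inv_mem hr)
        rwa [mul_inv_cancel_right] at this
    constructor
    · rw [map_mul, map_pow, s.sig3_z, s.sig3_M1 hm, mul_one, map_pow]
      rw [show Perm.sign (swap 0 2 * swap 0 1 : Perm (Fin 3)) = 1 by decide, one_pow]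
    · rw [map_mul, map_pow, d.sig_z, one_pow, one_mul]
      exact d.L_even ⟨m, hmL⟩
  rw [s.theta_fst, s.sign_snd]
  obtain ⟨i, m, hM, e | e⟩ := s.decomp x
  · rw [show x = ⟨d.z, d.z_mem_NZt⟩ ^ (i : ℕ) * ⟨m, s.M1_le hM⟩ from Subtype.ext e, (hm m hM i).1, (hm m hM i).2]
  · have e' : x = ⟨d.z, d.z_mem_NZt⟩ ^ (i : ℕ) * ⟨m, s.M1_le hM⟩ * ⟨d.h, d.h_mem_NZt⟩⁻¹ :=
      eq_mul_inv_of_mul_eq (Subtype.ext e)
    have e3 : ∀ f : d.NZt →* ℤˣ, f x = f (⟨d.z, d.z_mem_NZt⟩ ^ (i : ℕ) * ⟨m, s.M1_le hM⟩) * (f ⟨d.h, d.h_mem_NZt⟩)⁻¹ :=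
      fun f => by rw [e', map_mul, map_inv]
    have a1 := e3 (Perm.sign.comp s.sig3)
    have a2 := e3 (Perm.sign.comp d.sig)
    simp only [MonoidHom.comp_apply] at a1 a2
    rw [a1, a2, (hm m hM i).1, (hm m hM i).2, s.sig3_h, d.sig_h]
    decide

theorem range_agree {p : Perm (Fin 3) × Perm (Fin 5)} (hr : s.r ∈ d.L) (hp : Perm.sign p.1 = Perm.sign p.2) :
    ∃ x, s.theta x = p := by
  obtain ⟨x, hx⟩ := s.sig3_surj p.1
  obtain ⟨y, hy⟩ := s.theta_L (a := p.2 * (s.theta x).2⁻¹) (by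
    rw [map_mul, map_inv, ← s.sign_agree hr, s.theta_fst, hx, hp, mul_inv_cancel])
  refine ⟨y * x, ?_⟩
  rw [map_mul, hy]
  exact Prod.ext (by show 1 * (s.theta x).1 = p.1; rw [one_mul, s.theta_fst, hx])
    (by show p.2 * (s.theta x).2⁻¹ * (s.theta x).2 = p.2; rw [inv_mul_cancel_right])

theorem theta_surj (hr : Perm.sign (d.sig s.rN) = -1) : Function.Surjective s.theta := by
  intro p
  obtain ⟨x, hx⟩ := s.sig3_surj p.1
  obtain ⟨y, hy2, hy1⟩ : ∃ y, Perm.sign (s.theta y).2 = Perm.sign p.2 ∧ (s.theta y).1 = p.1 := by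
    by_cases h : Perm.sign (s.theta x).2 = Perm.sign p.2
    · exact ⟨x, h, hx⟩
    refine ⟨s.rN * x, ?_, ?_⟩
    · rw [map_mul, Prod.snd_mul, map_mul, s.sign_snd s.rN, hr]
      rcases Int.units_eq_one_or (Perm.sign (s.theta x).2) with a | a <;>
        rcases Int.units_eq_one_or (Perm.sign p.2) with b | b <;> rw [a, b] at h ⊢ <;>
        first
        | exact absurd rfl h
        | decide
    · rw [map_mul, Prod.fst_mul, s.theta_fst, s.theta_fst, show s.sig3 s.rN = 1 from s.sig3_M1 s.r_mem_M1,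
        one_mul, hx]
  obtain ⟨u, hu⟩ := s.theta_L (a := p.2 * (s.theta y).2⁻¹) (by rw [map_mul, map_inv, hy2, mul_inv_cancel])
  refine ⟨u * y, ?_⟩
  rw [map_mul, hu]
  exact Prod.ext (by show 1 * (s.theta y).1 = p.1; rw [one_mul, hy1])
    (by show p.2 * (s.theta y).2⁻¹ * (s.theta y).2 = p.2; rw [inv_mul_cancel_right])

end Side

namespace Pair

variable {G : Type*} [Group G] [Finite G] (d : Pair G)

theorem NZt_le_K : d.NZt ≤ d.K := inf_le_right

/-- The map of `N(⟨z⟩) ∩ C(t)` into the quotient. -/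
def barN : d.NZt →* d.Kb := d.bar.comp (Subgroup.inclusion d.NZt_le_K)

theorem exists_psi {X : Type*} [Group X] (f : d.NZt →* X) (hf : Function.Surjective f)
    (hker : ∀ x : d.NZt, f x = 1 ↔ (x : G) = 1 ∨ (x : G) = d.t) :
    ∃ ψ : X →* d.Kb, Function.Injective ψ ∧ (∀ x, ψ (f x) = d.barN x) ∧
      ∀ v : d.Kb, v * d.barN ⟨d.z, d.z_mem_NZt⟩ * v⁻¹ = d.barN ⟨d.z, d.z_mem_NZt⟩ ∨
        v * d.barN ⟨d.z, d.z_mem_NZt⟩ * v⁻¹ = (d.barN ⟨d.z, d.z_mem_NZt⟩)⁻¹ → v ∈ ψ.range := by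
  have hb : ∀ x : d.NZt, d.barN x = 1 ↔ f x = 1 := fun x => by
    rw [hker]; exact d.bar_eq_one
  let ψ : X →* d.Kb := f.liftOfSurjective hf ⟨d.barN, fun x hx => (hb x).2 hx⟩
  have hψ : ∀ x, ψ (f x) = d.barN x := fun x => f.liftOfRightInverse_comp_apply _ _ _ x
  refine ⟨ψ, (injective_iff_map_eq_one ψ).2 fun a ha => ?_, hψ, fun v hv => ?_⟩
  · obtain ⟨x, rfl⟩ := hf a
    exact (hb x).1 (by rw [← hψ, ha])
  · obtain ⟨x, rfl⟩ := d.bar_surj v
    have hx : (x : G) ∈ d.NZt := by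
      refine d.mem_NZt_iff.2 ⟨?_, d.K_comm x⟩
      rcases hv with h | h
      · exact Or.inl (d.lift_conj (x := x) (u := ⟨d.z, d.NZt_le_K d.z_mem_NZt⟩)
          (v := ⟨d.z, d.NZt_le_K d.z_mem_NZt⟩) d.z_cube d.z_cube h)
      · exact Or.inr (d.lift_conj (x := x) (u := ⟨d.z, d.NZt_le_K d.z_mem_NZt⟩)
          (v := (⟨d.z, d.NZt_le_K d.z_mem_NZt⟩ : d.K)⁻¹) d.z_cube
          (by rw [Subgroup.coe_inv, inv_pow, d.z_cube, inv_one]) (h.trans (map_inv d.bar _).symm))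
    exact ⟨f ⟨x, hx⟩, hψ _⟩

end Pair

end Cfsg.Agent.McLThree
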