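/-
The centralizer of `t` when no element of it rotates `E`: a double cover of `A₈`.
-/
import Cfsg.Agent.Lib.McLThree.Side
import Cfsg.Agent.Lib.AltEightThree.Main
import Cfsg.Agent.Lib.AltEightThree.Setup

set_option autoImplicit false
set_option maxRecDepth 100000
set_option synthInstance.maxSize 4000
set_option synthInstance.maxHeartbeats 400000
set_option linter.style.longLine false
set_option linter.style.haveILetI false

open Equiv

namespace Cfsg.Agent.McLThree

theorem center_A8 : Subgroup.center (alternatingGroup (Fin 8)) = ⊥ :=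
  alternatingGroup.center_eq_bot (by simp)

/-- A non-split double cover from a surjection with kernel of order two and a square root of its
generator. -/
theorem cover_of_surj {H K : Type*} [Group H] [Group K] (hK : Subgroup.center K = ⊥) (f : H →* K)
    (hf : Function.Surjective f) {t₀ : H} (h1 : t₀ ≠ 1) (hker : ∀ x, f x = 1 ↔ x = 1 ∨ x = t₀)
    (hcen : ∀ x, x * t₀ = t₀ * x) {c : H} (hc : c * c = t₀) : Cfsg.IsNonsplitDoubleCover H K := by
  have hcenter : ∀ x, x ∈ Subgroup.center H ↔ x = 1 ∨ x = t₀ := by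
    intro x
    constructor
    · intro hx
      refine (hker x).1 (Subgroup.mem_bot.1 (hK ▸ Subgroup.mem_center_iff.2 fun k => ?_))
      obtain ⟨y, rfl⟩ := hf k
      rw [← map_mul, ← map_mul, Subgroup.mem_center_iff.1 hx y]
    · rintro (rfl | rfl)
      exacts [one_mem _, Subgroup.mem_center_iff.2 hcen]
  have hk : f.ker = Subgroup.center H := by
    ext x
    rw [MonoidHom.mem_ker, hker, hcenter]
  have ht2 : t₀ * t₀ = 1 := by
    rcases (hker (t₀ * t₀)).1 (by rw [map_mul, (hker t₀).2 (Or.inr rfl), one_mul]) with h | h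
    · exact h
    · exact absurd (mul_eq_left.1 h) h1
  refine ⟨?_, ⟨(QuotientGroup.quotientMulEquivOfEq hk.symm).trans (QuotientGroup.quotientKerEquivOfSurjective f hf)⟩,
    fun L hL => ?_⟩
  · rw [← Fintype.card_bool, ← Nat.card_eq_fintype_card]
    refine (Nat.card_congr (Equiv.ofBijective
      (fun b : Bool => (⟨if b then t₀ else 1, (hcenter _).2 (by cases b <;> simp)⟩ : Subgroup.center H))
      ⟨fun a b h => ?_, fun x => ?_⟩)).symm
    · have h' := congrArg Subtype.val h
      cases a <;> cases b <;> simp only [Bool.false_eq_true, if_false, if_true] at h' <;>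
        first
        | rfl
        | exact absurd h' h1
        | exact absurd h'.symm h1
    · rcases (hcenter x).1 x.2 with e | e
      exacts [⟨false, Subtype.ext e.symm⟩, ⟨true, Subtype.ext e.symm⟩]
  · obtain ⟨⟨⟨u, hu⟩, ⟨l, hl⟩⟩, hul⟩ := hL.2 c
    have hul' : u * l = c := hul
    have hu2 : u * u = 1 := by
      rcases (hcenter u).1 hu with rfl | rfl
      exacts [one_mul 1, ht2]
    have htL : t₀ ∈ L := by
      rw [← hc, ← hul', show u * l * (u * l) = (u * u) * (l * l) by
        rw [(show Commute l u from Subgroup.mem_center_iff.1 hu l).mul_mul_mul_comm], hu2, one_mul]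
      exact L.mul_mem hl hl
    exact h1 (Subgroup.mem_bot.1 ((Subgroup.IsComplement'.disjoint hL).le_bot
      ⟨(hcenter t₀).2 (Or.inr rfl), htL⟩))

namespace Pair

variable {G : Type*} [Group G] [Finite G] (d : Pair G)

/-- `c` as an element of `C(t)`. -/
def cK : d.K := ⟨d.c, mem_centralizer_one.2 (d.L_t _ d.c_mem)⟩

theorem cK_sq : d.cK * d.cK = d.tK := Subtype.ext d.c_sq

/-- `C(t)` is a double cover of `A₈` when no element rotates `E`. -/
theorem inner_cover (hzw : d.ZW) (ho : ¬ d.Outer) : Cfsg.IsNonsplitDoubleCover d.K (alternatingGroup (Fin 8)) := by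
  obtain ⟨s, hs⟩ := d.side_inner ho
  have hr : s.r ∈ d.L := hs ▸ d.L.one_mem
  have hmem : ∀ x, s.theta x ∈ AltEightThree.Pairs := fun x =>
    AltEightThree.mem_pairs.2 (by rw [s.sign_agree hr x]; exact Int.units_mul_self _)
  let f := s.theta.codRestrict AltEightThree.Pairs hmem
  have hf : Function.Surjective f := by
    rintro ⟨p, hp⟩
    obtain ⟨x, hx⟩ := s.range_agree hr (p := p) (by
      rcases Int.units_eq_one_or (Perm.sign p.1) with a | a <;> rcases Int.units_eq_one_or (Perm.sign p.2) with b | b <;>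
        have := AltEightThree.mem_pairs.1 hp <;> rw [a, b] at this ⊢ <;> first | rfl | exact absurd this (by decide))
    exact ⟨x, Subtype.ext hx⟩
  obtain ⟨ψ, hinj, hψ, hrange⟩ := d.exists_psi f hf fun x => by
    rw [← s.theta_ker, ← OneMemClass.coe_eq_one]; rfl
  have hz : ψ AltEightThree.zP = d.barN ⟨d.z, d.z_mem_NZt⟩ := by
    rw [← hψ]; exact congrArg ψ (Subtype.ext s.theta_z.symm)
  have hw : ψ AltEightThree.wP = d.barN ⟨d.w, d.L_le_NZt d.w_mem_L'⟩ := by
    rw [← hψ]; exact congrArg ψ (Subtype.ext s.theta_w.symm)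
  obtain ⟨h1, h2, -⟩ := d.bar_cards hzw
  rw [d.card_CP_not_outer ho] at h1 h2
  obtain ⟨cfg⟩ := AltEightThree.nonempty_cfg d.Db ψ hinj (fun v hv => hrange v (hz ▸ hv))
    (by rw [hz]; exact ⟨_, d.z_mem_P, rfl⟩) (by rw [hw]; exact ⟨_, d.w_mem_P, rfl⟩) d.card_Db h1
    d.bar_yK_mem (fun v hv => d.y_normalizes hzw v hv) h2 d.not27
  obtain ⟨e⟩ := cfg.nonempty_mulEquiv
  refine cover_of_surj center_A8 (e.toMonoidHom.comp d.bar) (e.surjective.comp d.bar_surj) (t₀ := d.tK)
    (fun h => d.t_ne (congrArg Subtype.val h)) (fun x => ?_) (fun x => Subtype.ext (d.K_comm x)) d.cK_sq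
  rw [MonoidHom.comp_apply, MulEquiv.coe_toMonoidHom, MulEquiv.map_eq_one_iff, d.bar_eq_one, Subtype.ext_iff,
    Subtype.ext_iff]
  rfl

end Pair

end Cfsg.Agent.McLThree
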