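/-
The centralizer of `t` when some element of it rotates `E`: modulo `⟨t⟩` it is `S₈`.
-/
import Cfsg.Agent.Lib.McLThree.Cover
import Cfsg.Agent.Lib.SymEightThree.SetupCent
import Cfsg.Agent.Lib.SymEightThree.AlphaMain
import Cfsg.Agent.Lib.Involution.Basic

set_option autoImplicit false
set_option maxRecDepth 100000
set_option synthInstance.maxSize 4000
set_option synthInstance.maxHeartbeats 400000
set_option linter.style.longLine false
set_option linter.style.haveILetI false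

open Equiv

namespace Cfsg.Agent.McLThree

theorem Pair.mat_inv {G : Type*} [Group G] [Finite G] (d : Pair G) {x : G} (hx : x ∈ d.T2) :
    d.mat x⁻¹ * d.mat x = 1 := by
  rw [← d.mat_mul (d.T2.inv_mem hx) hx, inv_mul_cancel, d.mat_one]

theorem Pair.n_notMem_NZt {G : Type*} [Group G] [Finite G] (d : Pair G) : d.n ∉ d.NZt := fun h => by
  rcases (d.mem_NZt_iff.1 h).1 with e | e <;> rw [d.n_z] at e
  · exact d.zw_distinct (Or.inl rfl) (Or.inl rfl) e.symm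
  · exact d.zw_distinct (Or.inr rfl) (Or.inl rfl) e.symm

namespace Side

variable {G : Type*} [Group G] [Finite G] {d : Pair G} (s : Side d)

/-- Conjugation by `n` fixes `r` up to `t`. -/
theorem n_r (hr : s.r * s.r = d.t) : d.n * s.r * d.n⁻¹ = s.r ∨ d.n * s.r * d.n⁻¹ = s.r * d.t := by
  have hc : ∀ u v : G, Commute s.r u → d.n * u * d.n⁻¹ = v → Commute (d.n * s.r * d.n⁻¹) v := fun u v h e => by
    have := h.map (MulAut.conj d.n)
    simpa only [MulAut.conj_apply, e] using this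
  have h2 : d.n * s.r * d.n⁻¹ * (d.n * s.r * d.n⁻¹) = d.t := by
    rw [conj_mul, hr]; exact conj_eq_of_commute d.n_t
  rcases s.cp_sq (hc _ _ s.r_t (conj_eq_of_commute d.n_t)).eq (hc _ _ s.r_w d.n_w).eq (hc _ _ s.r_z d.n_z).eq
    (Or.inr h2) with e | e | e | e
  · rw [e, one_mul] at h2; exact absurd h2.symm d.t_ne
  · rw [e, d.t_sq] at h2; exact absurd h2.symm d.t_ne
  · exact Or.inl e
  · exact Or.inr e

/-- Elements of `C(t) ∩ C(P)` in product form. -/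
theorem cent_form {x : G} (hxt : x * d.t = d.t * x) (hz : x * d.z = d.z * x) (hw : x * d.w = d.w * x) :
    ∃ e p, p ∈ d.P ∧ (e = 1 ∨ e = d.t ∨ e = s.r ∨ e = s.r * d.t) ∧ x = e * p ∧ Commute e p := by
  obtain ⟨p, hp, e⟩ := s.cent x hxt hz hw
  have hpt : Commute d.t p := (d.mem_P.1 hp).2.symm
  have hpr : Commute s.r p := d.commute_P s.r_z s.r_w hp
  rcases e with e | e | e | e
  · exact ⟨1, p, hp, Or.inl rfl, by rw [one_mul]; exact e, Commute.one_left p⟩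
  · exact ⟨_, p, hp, Or.inr (Or.inl rfl), e, hpt⟩
  · exact ⟨_, p, hp, Or.inr (Or.inr (Or.inl rfl)), e, hpr⟩
  · exact ⟨_, p, hp, Or.inr (Or.inr (Or.inr rfl)), e, hpr.mul_left hpt⟩

/-- The sign of the induced permutation. -/
noncomputable def chi (x : d.NZt) : ℤˣ := Perm.sign (d.sig x)

theorem chi_mul (x y : d.NZt) : chi (x * y) = chi x * chi y := by rw [chi, chi, chi, map_mul, map_mul]

theorem conj_n_cp (hr : s.r * s.r = d.t) {u : G} (hut : u * d.t = d.t * u) (hz : u * d.z = d.z * u)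
    (hw : u * d.w = d.w * u) :
    ∃ h : d.n * u * d.n⁻¹ ∈ d.NZt, chi ⟨_, h⟩ = chi ⟨u, d.mem_NZt_of_commute hz hut⟩ := by
  have hcz : Commute (d.n * u * d.n⁻¹) d.z := by
    have := (show Commute u d.w from hw).map (MulAut.conj d.n)
    simpa only [MulAut.conj_apply, d.n_w] using this
  have hct : Commute (d.n * u * d.n⁻¹) d.t := by
    have := (show Commute u d.t from hut).map (MulAut.conj d.n)
    simpa only [MulAut.conj_apply, conj_eq_of_commute d.n_t] using this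
  refine ⟨d.mem_NZt_of_commute hcz.eq hct.eq, ?_⟩
  obtain ⟨e, p, hp, he, hu, -⟩ := s.cent_form hut hz hw
  have hnp : d.n * p * d.n⁻¹ ∈ d.P := d.conj_P d.n_NJ d.n_t hp
  have hne : d.n * e * d.n⁻¹ = e ∨ d.n * e * d.n⁻¹ = e * d.t := by
    rcases he with rfl | rfl | rfl | rfl
    · exact Or.inl (by group)
    · exact Or.inl (conj_eq_of_commute d.n_t)
    · exact s.n_r hr
    · rw [← conj_mul, conj_eq_of_commute d.n_t]
      exact (s.n_r hr).imp (fun e => by rw [e]) fun e => by rw [e]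
  have hp1 : ∀ q, ∀ hq : q ∈ d.P, chi (⟨q, d.P_le_NZt hq⟩ : d.NZt) = 1 := fun q hq => d.P_even hq
  have het : e ∈ d.NZt := d.L_le_NZt d.t_mem_L |> fun ht => by
    rcases he with rfl | rfl | rfl | rfl
    exacts [d.NZt.one_mem, ht, s.rN.2, d.NZt.mul_mem s.rN.2 ht]
  have ht1 : chi (⟨d.t, d.L_le_NZt d.t_mem_L⟩ : d.NZt) = 1 := d.L_even ⟨d.t, d.t_mem_L⟩
  have e1 : chi ⟨u, d.mem_NZt_of_commute hz hut⟩ = chi ⟨e, het⟩ := by
    rw [show (⟨u, d.mem_NZt_of_commute hz hut⟩ : d.NZt) = ⟨e, het⟩ * ⟨p, d.P_le_NZt hp⟩ from Subtype.ext hu,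
      chi_mul, hp1 p hp, mul_one]
  rw [e1]
  have hconj : d.n * u * d.n⁻¹ = d.n * e * d.n⁻¹ * (d.n * p * d.n⁻¹) := by rw [hu, conj_mul]
  rcases hne with h | h
  · rw [show (⟨d.n * u * d.n⁻¹, _⟩ : d.NZt) = ⟨e, het⟩ * ⟨_, d.P_le_NZt hnp⟩ from
      Subtype.ext (hconj.trans (by rw [h]; rfl)), chi_mul, hp1 _ hnp, mul_one]
  · rw [show (⟨d.n * u * d.n⁻¹, _⟩ : d.NZt) = ⟨e, het⟩ * ⟨d.t, d.L_le_NZt d.t_mem_L⟩ * ⟨_, d.P_le_NZt hnp⟩ from
      Subtype.ext (hconj.trans (by rw [h]; rfl)), chi_mul, chi_mul, ht1, hp1 _ hnp, mul_one, mul_one]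

/-- An element squaring into `⟨t⟩ × P`. -/
theorem sq_mem_Db (hr : s.r * s.r = d.t) (hzw : d.ZW) (v : d.Kb) (hv : Commute v (d.bar d.yK)) : v ^ 2 ∈ d.Db := by
  have hmem : v ∈ d.CY.map d.bar := d.centralizer_y ▸ mem_centralizer_one.2 hv.eq
  obtain ⟨x, hx, rfl⟩ := hmem
  obtain ⟨b, u, hut, hz, hw, hxu⟩ :=
    d.cent_zw hzw (d.K_comm x) (congrArg Subtype.val (mem_centralizer_one.1 hx))
  obtain ⟨e, p, hp, he, rfl, hep⟩ := s.cent_form hut hz hw
  suffices h : ∃ q ∈ d.P, (x : G) * x = q ∨ (x : G) * x = d.t * q by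
    obtain ⟨q, hq, h⟩ := h
    refine ⟨⟨q, d.P_le_K hq⟩, hq, ?_⟩
    rw [pow_two, ← map_mul, eq_comm, d.bar_eq_iff, Subgroup.coe_mul]
    rcases h with h | h <;> rw [h]
    · exact Or.inl rfl
    · exact Or.inr (by rw [(show Commute d.t q from (d.mem_P.1 hq).2.symm).eq, mul_assoc, d.t_sq, mul_one])
  have hee : ∀ e', (e' = e ∨ e' = e * d.t) → e' * e = 1 ∨ e' * e = d.t := by
    have hrt : Commute s.r d.t := s.r_t
    have h1 : e * e = 1 ∨ e * e = d.t := by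
      rcases he with rfl | rfl | rfl | rfl
      · exact Or.inl (one_mul 1)
      · exact Or.inl d.t_sq
      · exact Or.inr hr
      · exact Or.inr (by rw [hrt.symm.mul_mul_mul_comm, hr, d.t_sq, mul_one])
    have hte : Commute d.t e := by
      rcases he with rfl | rfl | rfl | rfl
      exacts [Commute.one_right _, Commute.refl _, hrt.symm, hrt.symm.mul_right (Commute.refl _)]
    rintro e' (rfl | rfl)
    · exact h1
    · rw [mul_assoc, hte.eq, ← mul_assoc]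
      rcases h1 with h | h <;> rw [h]
      exacts [Or.inr (one_mul _), Or.inl d.t_sq]
  cases b
  · rw [hxu]
    simp only [Bool.false_eq_true, if_false, one_mul]
    refine ⟨p * p, d.P.mul_mem hp hp, ?_⟩
    rw [hep.symm.mul_mul_mul_comm]
    exact (hee e (Or.inl rfl)).imp (fun h => by rw [h, one_mul]) fun h => by rw [h]
  · rw [hxu]
    simp only [if_true]
    have hne : d.n * e * d.n⁻¹ = e ∨ d.n * e * d.n⁻¹ = e * d.t := by
      rcases he with rfl | rfl | rfl | rfl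
      · exact Or.inl (by group)
      · exact Or.inl (conj_eq_of_commute d.n_t)
      · exact s.n_r hr
      · rw [← conj_mul, conj_eq_of_commute d.n_t]
        exact (s.n_r hr).imp (fun e => by rw [e]) fun e => by rw [e]
    have hnp := d.conj_P d.n_NJ d.n_t hp
    have hce : Commute (d.n * p * d.n⁻¹) e := by
      rcases he with rfl | rfl | rfl | rfl
      · exact Commute.one_right _
      · exact (d.mem_P.1 hnp).2
      · exact (d.commute_P s.r_z s.r_w hnp).symm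
      · exact (show Commute (d.n * p * d.n⁻¹) s.r from (d.commute_P s.r_z s.r_w hnp).symm).mul_right (d.mem_P.1 hnp).2
    refine ⟨d.n * p * d.n⁻¹ * p, d.P.mul_mem hnp hp, ?_⟩
    have key : d.n * (e * p) * (d.n * (e * p)) = (d.n * e * d.n⁻¹ * e) * (d.n * p * d.n⁻¹ * p) := by
      calc d.n * (e * p) * (d.n * (e * p)) = (d.n * e * d.n⁻¹) * ((d.n * p * d.n⁻¹) * e) * p := by
            rw [d.n_inv]
            calc d.n * (e * p) * (d.n * (e * p)) = d.n * e * 1 * (p * d.n * e) * p := by group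
              _ = _ := by rw [← d.n_sq]; group
        _ = _ := by rw [hce.eq]; group
    rw [key]
    exact (hee _ hne).imp (fun h => by rw [h, one_mul]) fun h => by rw [h]

/-- `n c n⁻¹` induces an odd permutation. -/
theorem chi_ncn : ∃ h : d.n * d.c * d.n⁻¹ ∈ d.NZt, chi ⟨_, h⟩ = -1 := by
  set a := d.n * d.c * d.n⁻¹ with ha
  have hcM : d.c ∈ Subgroup.normalizer (d.J : Set G) := d.c_NJ
  have hcw : d.c * d.w * d.c⁻¹ = d.w⁻¹ := d.c_w
  have hni : d.n⁻¹ * d.z * d.n = d.w := by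
    have := d.n_z
    rw [d.n_inv] at this ⊢; exact this
  have hni' : d.n⁻¹ * d.w * d.n = d.z := by
    have := d.n_w
    rw [d.n_inv] at this ⊢; exact this
  have haz : a * d.z * a⁻¹ = d.z⁻¹ := by
    rw [ha, show d.n * d.c * d.n⁻¹ * d.z * (d.n * d.c * d.n⁻¹)⁻¹ = d.n * (d.c * (d.n⁻¹ * d.z * d.n) * d.c⁻¹) * d.n⁻¹
      by group, hni, hcw, ← conj_inv, d.n_w]
  have haw : a * d.w * a⁻¹ = d.w := by
    rw [ha, show d.n * d.c * d.n⁻¹ * d.w * (d.n * d.c * d.n⁻¹)⁻¹ = d.n * (d.c * (d.n⁻¹ * d.w * d.n) * d.c⁻¹) * d.n⁻¹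
      by group, hni', d.c_z, d.n_z]
  have hat : Commute a d.t :=
    ((show Commute d.n d.t from d.n_t).mul_left (show Commute d.c d.t from d.L_t _ d.c_mem)).mul_left
      (show Commute d.n d.t from d.n_t).inv_left
  have haJ : a ∈ Subgroup.normalizer (d.J : Set G) :=
    Subgroup.mul_mem _ (Subgroup.mul_mem _ d.n_NJ hcM) (Subgroup.inv_mem _ d.n_NJ)
  have haT : a ∈ d.T2 := ⟨haJ, Or.inr haz, Or.inl haw⟩
  -- `a * c⁻¹` lies in `M₀` and inverts `z` and `w`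
  set x := a * d.c⁻¹ with hxd
  have hxM : x ∈ d.M₀ := by
    have e : x = d.n * (d.c * d.n⁻¹ * d.c⁻¹) := by rw [hxd, ha]; group
    rw [e]
    exact d.M₀.mul_mem d.n_mem (d.M₀_conj _ hcM _ (d.M₀.inv_mem d.n_mem))
  have hxT : x ∈ d.T2 := d.T2.mul_mem haT (d.T2.inv_mem d.c_mem_T2)
  have hci : d.c⁻¹ * d.z * d.c = d.z ∧ d.c⁻¹ * d.w * d.c = d.w⁻¹ := by
    refine ⟨?_, ?_⟩
    · conv_lhs => rw [← d.c_z]
      group
    · calc d.c⁻¹ * d.w * d.c = (d.c⁻¹ * (d.c * d.w * d.c⁻¹) * d.c)⁻¹ := by rw [hcw]; group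
        _ = d.w⁻¹ := by group
  have hxz : x * d.z * x⁻¹ = d.z⁻¹ := by
    rw [hxd, show a * d.c⁻¹ * d.z * (a * d.c⁻¹)⁻¹ = a * (d.c⁻¹ * d.z * d.c) * a⁻¹ by group, hci.1, haz]
  have hxw : x * d.w * x⁻¹ = d.w⁻¹ := by
    rw [hxd, show a * d.c⁻¹ * d.w * (a * d.c⁻¹)⁻¹ = a * (d.c⁻¹ * d.w * d.c) * a⁻¹ by group, hci.2, ← conj_inv, haw]
  have h1 : NormP0 (d.π₆ x) :=
    (d.normP0_iff hxM).2 (by rw [hxz]; exact d.Z.inv_mem d.z_mem_Z)
  have hy : d.n * x * d.n ∈ d.M₀ := d.M₀.mul_mem (d.M₀.mul_mem d.n_mem hxM) d.n_mem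
  have h2 : NormP0 (b0 * d.π₆ x * b0) := by
    rw [← d.π_n, ← d.map₆ _ d.n_mem _ hxM, ← d.map₆ _ (d.M₀.mul_mem d.n_mem hxM) _ d.n_mem]
    refine (d.normP0_iff hy).2 ?_
    have : d.n * x * d.n * d.z * (d.n * x * d.n)⁻¹ = d.z⁻¹ := by
      rw [show d.n * x * d.n * d.z * (d.n * x * d.n)⁻¹ = d.n * (x * (d.n * d.z * d.n⁻¹) * x⁻¹) * d.n⁻¹ by group,
        d.n_z, hxw, ← conj_inv, d.n_w]
    rw [this]; exact d.Z.inv_mem d.z_mem_Z
  have hmat : d.mat x = rot ∨ d.mat x = -rot := by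
    have hcase : ∀ g ∈ d.M₀, g ∈ d.T2 → d.π₆ x = d.π₆ g → d.mat x = d.mat g := fun g hg hgT e => by
      have hj := (d.π₆_eq_iff hg hxM).1 e.symm
      calc d.mat x = d.mat (g * (g⁻¹ * x)) := by rw [mul_inv_cancel_left]
        _ = d.mat g := by rw [d.mat_mul hgT (d.J_le_T2 hj), d.mat_J hj, mul_one]
    have hnot : ∀ g ∈ d.M₀, d.π₆ x = d.π₆ g → g * d.z * g⁻¹ ≠ d.z := fun g hg e h => by
      rw [d.act_eq hxM hg e d.z_mem_J, h] at hxz
      exact d.ne_inv d.sg_z hxz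
    rcases two_stab _ h1 h2 with e | e | e | e
    · exact absurd (by group : (1 : G) * d.z * 1⁻¹ = d.z) (hnot 1 d.M₀.one_mem (e.trans d.π₆_one.symm))
    · exact Or.inl ((hcase _ d.g_mem d.g_mem_T2 (e.trans d.π_g.symm)).trans d.mat_g)
    · exact absurd (conj_eq_of_commute d.t_z) (hnot _ d.t_mem_M₀ (e.trans d.π_t₆.symm))
    · refine Or.inr ?_
      have e' : d.π₆ x = d.π₆ (d.g * d.t) := by
        rw [d.map₆ _ d.g_mem _ d.t_mem_M₀, d.π_g, d.π_t₆, e]; decide +kernel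
      rw [hcase _ (d.M₀.mul_mem d.g_mem d.t_mem_M₀) (d.T2.mul_mem d.g_mem_T2 d.t_mem_T2) e',
        d.mat_mul d.g_mem_T2 d.t_mem_T2, d.mat_g, d.mat_t]
      simp
  have ham : d.mat a = d.mat d.h ∨ d.mat a = -d.mat d.h := by
    have e : d.mat a = d.mat x * d.mat d.c := by
      rw [← d.mat_mul hxT d.c_mem_T2, hxd, inv_mul_cancel_right]
    rw [e, d.mat_h]
    rcases hmat with h | h <;> rw [h]
    exacts [Or.inl rfl, Or.inr (neg_mul _ _)]
  -- compare with `h`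
  have hyT : d.h⁻¹ * a ∈ d.T2 := d.T2.mul_mem (d.T2.inv_mem d.h_mem_T2) haT
  have hhi : d.h⁻¹ * d.z⁻¹ * d.h = d.z ∧ d.h⁻¹ * d.w * d.h = d.w := by
    refine ⟨?_, ?_⟩
    · rw [← d.h_z]; group
    · conv_lhs => rw [← d.h_w]
      group
  have hyz : d.h⁻¹ * a * d.z * (d.h⁻¹ * a)⁻¹ = d.z := by
    rw [show d.h⁻¹ * a * d.z * (d.h⁻¹ * a)⁻¹ = d.h⁻¹ * (a * d.z * a⁻¹) * d.h by group, haz, hhi.1]
  have hyw : d.h⁻¹ * a * d.w * (d.h⁻¹ * a)⁻¹ = d.w := by
    rw [show d.h⁻¹ * a * d.w * (d.h⁻¹ * a)⁻¹ = d.h⁻¹ * (a * d.w * a⁻¹) * d.h by group, haw, hhi.2]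
  have hyt : Commute (d.h⁻¹ * a) d.t := (show Commute d.h d.t from d.h_t).inv_left.mul_left hat
  have hym : d.mat (d.h⁻¹ * a) = 1 ∨ d.mat (d.h⁻¹ * a) = -1 := by
    rw [d.mat_mul (d.T2.inv_mem d.h_mem_T2) haT]
    rcases ham with h | h <;> rw [h]
    · exact Or.inl (d.mat_inv d.h_mem_T2)
    · exact Or.inr (by rw [mul_neg, d.mat_inv d.h_mem_T2])
  have haN : a ∈ d.NZt := d.mem_NZt_iff.2 ⟨Or.inr haz, hat.eq⟩
  refine ⟨haN, ?_⟩
  have hyN : d.h⁻¹ * a ∈ d.NZt := d.mem_NZt_of_commute (commute_of_conj_eq hyz) hyt.eq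
  have heq : (⟨a, haN⟩ : d.NZt) = ⟨d.h, d.h_mem_NZt⟩ * ⟨d.h⁻¹ * a, hyN⟩ := Subtype.ext (mul_inv_cancel_left d.h a).symm
  rw [heq, chi_mul, show chi ⟨d.h, d.h_mem_NZt⟩ = -1 from d.sig_h]
  suffices h : chi (⟨d.h⁻¹ * a, hyN⟩ : d.NZt) = 1 by rw [h, mul_one]
  have hP : ∀ v, ∀ hv : v ∈ d.NZt, v ∈ d.T2 → v * d.z * v⁻¹ = d.z → d.mat v = 1 → chi ⟨v, hv⟩ = 1 :=
    fun v hv hT hz hm => d.P_even (d.mem_P.2 ⟨d.mem_J_of_trivial hT hz hm, (d.mem_NZt.1 hv).2⟩)
  rcases hym with h | h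
  · exact hP _ hyN hyT hyz h
  · have htN := d.L_le_NZt d.t_mem_L
    have := hP (d.t * (d.h⁻¹ * a)) (d.NZt.mul_mem htN hyN) (d.T2.mul_mem d.t_mem_T2 hyT) (by
      rw [show d.t * (d.h⁻¹ * a) * d.z * (d.t * (d.h⁻¹ * a))⁻¹ = d.t * (d.h⁻¹ * a * d.z * (d.h⁻¹ * a)⁻¹) * d.t⁻¹
        by group, hyz, conj_eq_of_commute d.t_z]) (by
      rw [d.mat_mul d.t_mem_T2 hyT, d.mat_t, h]; simp)
    rwa [show (⟨d.t * (d.h⁻¹ * a), d.NZt.mul_mem htN hyN⟩ : d.NZt) = ⟨d.t, htN⟩ * ⟨_, hyN⟩ from rfl, chi_mul,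
      show chi (⟨d.t, htN⟩ : d.NZt) = 1 from d.L_even ⟨d.t, d.t_mem_L⟩, one_mul] at this

end Side

namespace Pair

variable {G : Type*} [Group G] [Finite G] (d : Pair G)

theorem bar_mem_centralizer {x : d.K} :
    d.bar x ∈ Subgroup.centralizer (d.Db : Set d.Kb) ↔ x ∈ d.CP := by
  rw [d.centralizer_Db]
  refine ⟨fun ⟨u, hu, e⟩ => ?_, fun h => ⟨x, h, rfl⟩⟩
  rcases d.bar_eq_iff.1 e with h | h
  · rwa [show x = u from Subtype.ext h]
  · rw [show x = u * d.tK from Subtype.ext h]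
    exact d.CP.mul_mem hu d.tK_mem_CP

theorem bar_mem_normalizer {x : G} (hx : x ∈ Subgroup.normalizer (d.J : Set G)) (hxt : x * d.t = d.t * x) :
    d.bar ⟨x, mem_centralizer_one.2 hxt⟩ ∈ Subgroup.normalizer (d.Db : Set d.Kb) :=
  d.normalizer_Db ▸ ⟨⟨x, mem_centralizer_one.2 hxt⟩, d.mem_NP.2 fun _ hp => d.conj_P hx hxt hp, rfl⟩

/-- The automizer of `P` in the quotient is dihedral. -/
theorem dihedral (s : Side d) (hr : s.r * s.r = d.t) (hm : d.mat s.r = rot) (hzw : d.ZW)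
    [((Subgroup.centralizer (d.Db : Set d.Kb)).subgroupOf (Subgroup.normalizer (d.Db : Set d.Kb))).Normal] :
    Nonempty (Subgroup.normalizer (d.Db : Set d.Kb) ⧸ (Subgroup.centralizer (d.Db : Set d.Kb)).subgroupOf
      (Subgroup.normalizer (d.Db : Set d.Kb)) ≃* DihedralGroup 4) := by
  set N := Subgroup.normalizer (d.Db : Set d.Kb) with hN
  set C := (Subgroup.centralizer (d.Db : Set d.Kb)).subgroupOf N with hC
  let nK : d.K := ⟨d.n, d.n_K⟩
  let hK : d.K := ⟨d.h, mem_centralizer_one.2 d.h_t⟩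
  have hn1 : d.bar nK ∈ N := d.bar_mem_normalizer d.n_NJ d.n_t
  have hh1 : d.bar hK ∈ N := d.bar_mem_normalizer d.h_mem_T2.1 d.h_t
  have hmem : ∀ {v : N}, ∀ {x : d.K}, (v : d.Kb) = d.bar x →
      ((QuotientGroup.mk' C v = 1) ↔ ((x : G) * d.z * (x : G)⁻¹ = d.z ∧ (x : G) * d.w * (x : G)⁻¹ = d.w)) := by
    intro v x e
    rw [QuotientGroup.mk'_apply, QuotientGroup.eq_one_iff, hC, Subgroup.mem_subgroupOf, e, d.bar_mem_centralizer,
      d.mem_CP]
    exact ⟨fun h => ⟨conj_eq_of_commute h.1, conj_eq_of_commute h.2⟩,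
      fun h => ⟨commute_of_conj_eq h.1, commute_of_conj_eq h.2⟩⟩
  set a := QuotientGroup.mk' C ⟨_, hn1⟩ with ha
  set b := QuotientGroup.mk' C ⟨_, hh1⟩ with hb
  have ha2 : a * a = 1 := by
    rw [ha, ← map_mul]
    refine (hmem (x := nK * nK) (by rw [map_mul]; rfl)).2 ?_
    rw [show ((nK * nK : d.K) : G) = 1 from d.n_sq]
    exact ⟨by group, by group⟩
  have hb2 : b * b = 1 := by
    rw [hb, ← map_mul]
    refine (hmem (x := hK * hK) (by rw [map_mul]; rfl)).2 ?_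
    rw [show ((hK * hK : d.K) : G) = d.t from d.h_sq]
    exact ⟨conj_eq_of_commute d.t_z, conj_eq_of_commute d.t_w'⟩
  have hnhz : d.n * d.h * d.z * (d.n * d.h)⁻¹ = d.w⁻¹ := by
    rw [show d.n * d.h * d.z * (d.n * d.h)⁻¹ = d.n * (d.h * d.z * d.h⁻¹) * d.n⁻¹ by group, d.h_z, ← conj_inv, d.n_z]
  have hnhw : d.n * d.h * d.w * (d.n * d.h)⁻¹ = d.z := by
    rw [show d.n * d.h * d.w * (d.n * d.h)⁻¹ = d.n * (d.h * d.w * d.h⁻¹) * d.n⁻¹ by group, d.h_w, d.n_w]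
  have h2z : d.n * d.h * (d.n * d.h) * d.z * (d.n * d.h * (d.n * d.h))⁻¹ = d.z⁻¹ := by
    rw [show ∀ u v : G, u * u * v * (u * u)⁻¹ = u * (u * v * u⁻¹) * u⁻¹ from fun u v => by group, hnhz,
      ← conj_inv, hnhw]
  have h2w : d.n * d.h * (d.n * d.h) * d.w * (d.n * d.h * (d.n * d.h))⁻¹ = d.w⁻¹ := by
    rw [show ∀ u v : G, u * u * v * (u * u)⁻¹ = u * (u * v * u⁻¹) * u⁻¹ from fun u v => by group, hnhw, hnhz]
  have hord : orderOf (a * b) = 4 := by
    haveI := Fact.mk Nat.prime_two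
    refine orderOf_eq_prime_pow (p := 2) (n := 1) ?_ ?_
    · intro h
      rw [show 2 ^ 1 = 2 from rfl, pow_two, ha, hb, ← map_mul, ← map_mul] at h
      have := ((hmem (x := nK * hK * (nK * hK)) (by rw [map_mul, map_mul]; rfl)).1 h).1
      rw [show ((nK * hK * (nK * hK) : d.K) : G) = d.n * d.h * (d.n * d.h) from rfl, h2z] at this
      exact d.ne_inv d.sg_z this.symm
    · rw [show 2 ^ (1 + 1) = 2 + 2 from rfl, pow_add, pow_two, ha, hb, ← map_mul, ← map_mul, ← map_mul]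
      refine (hmem (x := nK * hK * (nK * hK) * (nK * hK * (nK * hK))) (by simp only [map_mul]; rfl)).2 ?_
      rw [show ((nK * hK * (nK * hK) * (nK * hK * (nK * hK)) : d.K) : G)
        = d.n * d.h * (d.n * d.h) * (d.n * d.h * (d.n * d.h)) from rfl]
      set u := d.n * d.h * (d.n * d.h)
      refine ⟨?_, ?_⟩
      · rw [show ∀ v : G, u * u * v * (u * u)⁻¹ = u * (u * v * u⁻¹) * u⁻¹ from fun v => by group, h2z, ← conj_inv,
          h2z, inv_inv]
      · rw [show ∀ v : G, u * u * v * (u * u)⁻¹ = u * (u * v * u⁻¹) * u⁻¹ from fun v => by group, h2w, ← conj_inv,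
          h2w, inv_inv]
  have hab : a ≠ b := by
    intro e
    rw [e, hb2, orderOf_one] at hord
    norm_num at hord
  have hcard : Nat.card (N ⧸ C) = 8 := by
    obtain ⟨h1, -, h3⟩ := d.bar_cards hzw
    rw [d.card_CP_outer hr s.r_z s.r_w hm] at h1 h3
    have e := Subgroup.card_eq_card_quotient_mul_card_subgroup C
    rw [hC, Nat.card_congr (Subgroup.subgroupOfEquivOfLe (Subgroup.centralizer_le_normalizer _)).toEquiv, hN, h1,
      show Nat.card (Subgroup.centralizer (d.Db : Set d.Kb)) = 18 by omega] at e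
    rw [hC, hN]
    omega
  haveI := Fact.mk Nat.prime_two
  have ha1 : a ≠ 1 := fun h => by
    have := ((hmem (x := nK) rfl).1 h).1
    rw [show (nK : G) = d.n from rfl, d.n_z] at this
    exact d.zw_distinct (Or.inl rfl) (Or.inl rfl) this.symm
  have hb1 : b ≠ 1 := fun h => by
    have := ((hmem (x := hK) rfl).1 h).1
    rw [show (hK : G) = d.h from rfl, d.h_z] at this
    exact d.ne_inv d.sg_z this.symm
  let e := Involution.dihedralEquiv (orderOf_eq_prime (by rw [pow_two, ha2]) ha1)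
    (orderOf_eq_prime (by rw [pow_two, hb2]) hb1) hab
  have htop : Subgroup.closure ({a, b} : Set (N ⧸ C)) = ⊤ := by
    refine Subgroup.eq_top_of_card_eq _ ?_
    rw [← Nat.card_congr e.toEquiv, hord, DihedralGroup.nat_card, hcard]
  exact ⟨((hord ▸ e).trans ((MulEquiv.subgroupCongr htop).trans Subgroup.topEquiv)).symm⟩

/-- `C(t)` modulo `⟨t⟩` is `S₈`. -/
theorem outer_quot (s : Side d) (hr : s.r * s.r = d.t) (hm : d.mat s.r = rot)
    (hs : Perm.sign (d.sig s.rN) = -1) (hzw : d.ZW) :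
    ∃ q : d.K →* Perm (Fin 8), Function.Surjective q ∧ (∀ x, q x = 1 ↔ (x : G) = 1 ∨ (x : G) = d.t) ∧
      ∀ x : d.NZt, q (Subgroup.inclusion d.NZt_le_K x) = SymEightThree.emb8 (s.theta x) := by
  classical
  obtain ⟨ψ, hinj, hψ, hrange⟩ := d.exists_psi s.theta (s.theta_surj hs) s.theta_ker
  have hz : ψ SymEightThree.zP = d.barN ⟨d.z, d.z_mem_NZt⟩ := by
    rw [← hψ]; exact congrArg ψ s.theta_z.symm
  have hw : ψ SymEightThree.wP = d.barN ⟨d.w, d.L_le_NZt d.w_mem_L'⟩ := by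
    rw [← hψ]; exact congrArg ψ s.theta_w.symm
  obtain ⟨h1, h2, -⟩ := d.bar_cards hzw
  rw [d.card_CP_outer hr s.r_z s.r_w hm] at h1 h2
  haveI : ((Subgroup.centralizer (d.Db : Set d.Kb)).subgroupOf (Subgroup.normalizer (d.Db : Set d.Kb))).Normal := by
    refine ⟨fun x hx g => ?_⟩
    rw [Subgroup.mem_subgroupOf, Subgroup.mem_centralizer_iff] at hx ⊢
    intro v hv
    have hm := (Subgroup.mem_normalizer_iff.1 (inv_mem g.2) v).1 hv
    rw [inv_inv] at hm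
    simp only [Subgroup.coe_mul, Subgroup.coe_inv]
    calc v * ((g : d.Kb) * x * (g : d.Kb)⁻¹) = (g : d.Kb) * (((g : d.Kb)⁻¹ * v * g) * x) * (g : d.Kb)⁻¹ := by group
      _ = _ := by rw [hx _ hm]; group
  obtain ⟨eNC⟩ := d.dihedral s hr hm hzw
  obtain ⟨S, hS⟩ := d.exists_sylow_Db
  obtain ⟨c, hc⟩ := SymEightThree.exists_cfg S d.Db hS.symm ψ hinj (fun v hv => hrange v (hz ▸ hv))
    (by rw [hz]; exact ⟨_, d.z_mem_P, rfl⟩) (by rw [hw]; exact ⟨_, d.w_mem_P, rfl⟩) d.card_Db d.Db_exp h1 eNC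
    d.bar_yK_mem (fun v hv => d.y_normalizes hzw v hv) h2 (fun v hv => s.sq_mem_Db hr hzw v hv) d.not27
  -- the element `j` maps `(0 1)` to `(5 6)`
  have ha : c.j * c.a * c.j = c.b := by
    rcases c.j_a with h | h
    · exact h
    exfalso
    obtain ⟨x, hx⟩ := d.bar_surj c.j
    have hji : c.j⁻¹ = c.j := inv_eq_of_mul_eq_one_right c.j_sq
    have hjz : c.j * d.barN ⟨d.z, d.z_mem_NZt⟩ * c.j⁻¹ = d.barN ⟨d.w, d.L_le_NZt d.w_mem_L'⟩ := by
      rw [hji, ← hz, ← hw, ← hc]; exact c.j_z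
    have hjw : c.j * d.barN ⟨d.w, d.L_le_NZt d.w_mem_L'⟩ * c.j⁻¹ = d.barN ⟨d.z, d.z_mem_NZt⟩ := by
      rw [hji, ← hz, ← hw, ← hc]; exact c.toPre.j_w
    have hxz : (x : G) * d.z * (x : G)⁻¹ = d.w :=
      d.lift_conj (x := x) (u := ⟨d.z, d.NZt_le_K d.z_mem_NZt⟩) (v := ⟨d.w, d.NZt_le_K (d.L_le_NZt d.w_mem_L')⟩)
        d.z_cube (d.J_exp _ d.w_mem_J) (hx ▸ hjz)
    have hxw : (x : G) * d.w * (x : G)⁻¹ = d.z :=
      d.lift_conj (x := x) (u := ⟨d.w, d.NZt_le_K (d.L_le_NZt d.w_mem_L')⟩) (v := ⟨d.z, d.NZt_le_K d.z_mem_NZt⟩)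
        (d.J_exp _ d.w_mem_J) d.z_cube (hx ▸ hjw)
    set v := d.n⁻¹ * (x : G) with hv
    have hvz : v * d.z = d.z * v := commute_of_conj_eq (by
      rw [hv, show d.n⁻¹ * (x : G) * d.z * (d.n⁻¹ * (x : G))⁻¹ = d.n⁻¹ * ((x : G) * d.z * (x : G)⁻¹) * d.n⁻¹⁻¹ by group,
        hxz, d.n_inv]
      exact d.n_w)
    have hvw : v * d.w = d.w * v := commute_of_conj_eq (by
      rw [hv, show d.n⁻¹ * (x : G) * d.w * (d.n⁻¹ * (x : G))⁻¹ = d.n⁻¹ * ((x : G) * d.w * (x : G)⁻¹) * d.n⁻¹⁻¹ by group,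
        hxw, d.n_inv]
      exact d.n_z)
    have hvt : v * d.t = d.t * v :=
      ((show Commute d.n d.t from d.n_t).inv_left.mul_left (show Commute (x : G) d.t from d.K_comm x)).eq
    obtain ⟨a', ha'⟩ := s.theta_surj hs SymEightThree.aP
    have hchi : Side.chi a' = -1 := by
      rw [Side.chi, ← s.sign_snd, ha']; decide +kernel
    have haz : (a' : G) * d.z * (a' : G)⁻¹ = d.z := by
      have e : s.theta (a' * ⟨d.z, d.z_mem_NZt⟩ * a'⁻¹ * ⟨d.z, d.z_mem_NZt⟩⁻¹) = 1 := by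
        rw [map_mul, map_mul, map_mul, map_inv, map_inv, ha', s.theta_z]; decide +kernel
      rw [s.theta_ker] at e
      simp only [Subgroup.coe_mul, Subgroup.coe_inv] at e
      rcases e with e | e
      · exact mul_inv_eq_one.1 e
      · exact (d.cube_eq (u := (a' : G) * d.z * (a' : G)⁻¹) (v := d.z) (by rw [conj_pow, d.z_cube]; group) d.z_cube
          d.t_z.symm (by rw [mul_inv_eq_iff_eq_mul] at e; rw [e, d.t_z])).elim
    have haw : (a' : G) * d.w * (a' : G)⁻¹ = d.w⁻¹ := by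
      have e : s.theta (a' * ⟨d.w, d.L_le_NZt d.w_mem_L'⟩ * a'⁻¹ * ⟨d.w, d.L_le_NZt d.w_mem_L'⟩) = 1 := by
        rw [map_mul, map_mul, map_mul, map_inv, ha', s.theta_w]; decide +kernel
      rw [s.theta_ker] at e
      simp only [Subgroup.coe_mul, Subgroup.coe_inv] at e
      rcases e with e | e
      · exact mul_eq_one_iff_eq_inv.1 e
      · exact (d.cube_eq (u := (a' : G) * d.w * (a' : G)⁻¹) (v := d.w⁻¹)
          (by rw [conj_pow, d.J_exp _ d.w_mem_J]; group) (by rw [inv_pow, d.J_exp _ d.w_mem_J, inv_one])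
          (show Commute d.w d.t from d.t_w'.symm).inv_left.eq (by
            rw [← eq_mul_inv_iff_mul_eq] at e
            rw [e]; exact ((show Commute d.t d.w from d.t_w').inv_right).eq)).elim
    set u := d.c⁻¹ * (a' : G) with hu
    have hcL := d.L_le_NZt d.c_mem
    have hca : ∀ x : G, d.c⁻¹ * (d.c * x * d.c⁻¹) * d.c = x := fun x => by group
    have huz : u * d.z = d.z * u := commute_of_conj_eq (by
      rw [hu, show d.c⁻¹ * (a' : G) * d.z * (d.c⁻¹ * (a' : G))⁻¹ = d.c⁻¹ * ((a' : G) * d.z * (a' : G)⁻¹) * d.c by group,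
        haz]
      conv_lhs => rw [← d.c_z]
      exact hca _)
    have huw : u * d.w = d.w * u := commute_of_conj_eq (by
      rw [hu, show d.c⁻¹ * (a' : G) * d.w * (d.c⁻¹ * (a' : G))⁻¹ = d.c⁻¹ * ((a' : G) * d.w * (a' : G)⁻¹) * d.c by group,
        haw, show d.w⁻¹ = d.c * d.w * d.c⁻¹ from d.c_w.symm]
      exact hca _)
    have hut : u * d.t = d.t * u :=
      ((show Commute d.c d.t from d.L_t _ d.c_mem).inv_left.mul_left (show Commute (a' : G) d.t from (d.mem_NZt.1 a'.2).2)).eq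
    have hcu : Side.chi (⟨u, d.mem_NZt_of_commute huz hut⟩ : d.NZt) = -1 := by
      have e : a' = ⟨d.c, hcL⟩ * ⟨u, d.mem_NZt_of_commute huz hut⟩ := Subtype.ext (mul_inv_cancel_left d.c (a' : G)).symm
      rwa [e, Side.chi_mul, show Side.chi (⟨d.c, hcL⟩ : d.NZt) = 1 from d.L_even ⟨d.c, d.c_mem⟩, one_mul] at hchi
    -- `w' = (c⁻¹ v c v⁻¹) (v u v⁻¹)` centralizes `P`
    have hvN : v ∈ d.NZt := d.mem_NZt_of_commute hvz hvt
    let vN : d.NZt := ⟨v, hvN⟩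
    let uN : d.NZt := ⟨u, d.mem_NZt_of_commute huz hut⟩
    let cN : d.NZt := ⟨d.c, hcL⟩
    set w' : d.NZt := cN⁻¹ * vN * cN * vN⁻¹ * (vN * uN * vN⁻¹) with hw'
    have hw'c : ((w' : G) * d.z = d.z * w' ∧ (w' : G) * d.w = d.w * w') ∧ (w' : G) * d.t = d.t * w' := by
      have hcv : ∀ p q : G, d.c * p * d.c⁻¹ = q → v * q = q * v → Commute (d.c⁻¹ * v * d.c) p := fun p q e h => by
        rw [← hca p, e]
        calc d.c⁻¹ * v * d.c * (d.c⁻¹ * q * d.c) = d.c⁻¹ * (v * q) * d.c := by group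
          _ = d.c⁻¹ * q * d.c * (d.c⁻¹ * v * d.c) := by rw [h]; group
      refine ⟨⟨?_, ?_⟩, (d.mem_NZt.1 w'.2).2⟩
      · exact (((hcv _ _ d.c_z hvz).mul_left (show Commute v d.z from hvz).inv_left).mul_left
          (((show Commute v d.z from hvz).mul_left huz).mul_left (show Commute v d.z from hvz).inv_left)).eq
      · exact (((hcv _ _ d.c_w (show Commute v d.w from hvw).inv_right.eq).mul_left
          (show Commute v d.w from hvw).inv_left).mul_left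
          (((show Commute v d.w from hvw).mul_left huw).mul_left (show Commute v d.w from hvw).inv_left)).eq
    have hw'chi : Side.chi w' = -1 := by
      have h1 : ∀ a b : d.NZt, Side.chi (a⁻¹ * b * a * b⁻¹) = 1 := fun a b => by
        rw [Side.chi, map_mul, map_mul, map_mul, map_inv, map_inv, map_mul, map_mul, map_mul, map_inv, map_inv,
          inv_mul_cancel_comm, mul_inv_cancel]
      rw [hw', Side.chi_mul, h1, one_mul]
      have : Side.chi (vN * uN * vN⁻¹) = Side.chi uN := by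
        rw [Side.chi, Side.chi, map_mul, map_mul, map_inv, map_mul, map_mul, map_inv, mul_inv_cancel_comm]
      rw [this]; exact hcu
    obtain ⟨hN', hN'chi⟩ := Side.conj_n_cp s hr hw'c.2 hw'c.1.1 hw'c.1.2
    obtain ⟨hncn, hncnchi⟩ := Side.chi_ncn (d := d)
    have hxa : (x : G) * a' * (x : G)⁻¹ = d.n * d.c * d.n⁻¹ * (d.n * (w' : G) * d.n⁻¹) := by
      rw [hw']
      simp only [vN, uN, cN, hv, hu, Subgroup.coe_mul, Subgroup.coe_inv]
      group
    have hxaN : (x : G) * a' * (x : G)⁻¹ ∈ d.NZt := hxa ▸ d.NZt.mul_mem hncn hN'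
    have hchix : Side.chi (⟨_, hxaN⟩ : d.NZt) = 1 := by
      rw [show (⟨_, hxaN⟩ : d.NZt) = ⟨_, hncn⟩ * ⟨_, hN'⟩ from Subtype.ext hxa, Side.chi_mul, hncnchi, hN'chi,
        show (⟨(w' : G), d.mem_NZt_of_commute hw'c.1.1 hw'c.2⟩ : d.NZt) = w' from rfl, hw'chi]
      decide
    have h' : c.j * d.barN a' * c.j = ψ (SymEightThree.bP * SymEightThree.cP) := by
      rw [← hψ a', ha', ← hc]; exact h
    have e : ψ (s.theta ⟨_, hxaN⟩) = ψ (SymEightThree.bP * SymEightThree.cP) := by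
      rw [hψ, ← h']
      conv_rhs => arg 2; rw [← hji]
      rw [← hx, ← map_inv]
      show d.bar _ = d.bar x * d.bar _ * d.bar x⁻¹
      rw [← map_mul, ← map_mul]
      rfl
    have e2 := congrArg (fun p => Perm.sign p.2) (hinj e)
    simp only [s.sign_snd] at e2
    rw [show Perm.sign (d.sig ⟨_, hxaN⟩) = 1 from hchix] at e2
    exact absurd e2 (by decide +kernel)
  obtain ⟨e0⟩ := SymEightThree.Cfg.sym_eight ha
  obtain ⟨Φ, hΦi, hΦ⟩ := SymEightThree.Cfg.exists_phi ha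
  have hbij : Function.Bijective Φ :=
    (Nat.bijective_iff_injective_and_card Φ).2 ⟨hΦi, (Nat.card_congr e0.toEquiv).symm⟩
  let E := MulEquiv.ofBijective Φ hbij
  refine ⟨E.symm.toMonoidHom.comp d.bar, E.symm.surjective.comp d.bar_surj, fun x => ?_, fun x => ?_⟩
  · rw [MonoidHom.comp_apply, MulEquiv.coe_toMonoidHom, MulEquiv.map_eq_one_iff, d.bar_eq_one]
  · rw [MonoidHom.comp_apply, MulEquiv.coe_toMonoidHom, MulEquiv.symm_apply_eq]
    show d.barN x = Φ _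
    rw [hΦ, hc, hψ]

end Pair

end Cfsg.Agent.McLThree
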