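/-
The involutions of `C(t)` when `C(t) / ⟨t⟩` is `S₈`.
-/
import Cfsg.Agent.Lib.McLThree.Outer
import Cfsg.Agent.Lib.McLThree.Exclude

set_option autoImplicit false
set_option maxRecDepth 100000
set_option synthInstance.maxSize 4000
set_option synthInstance.maxHeartbeats 400000
set_option linter.style.longLine false
set_option linter.style.haveILetI false

open Equiv

namespace Cfsg.Agent.McLThree

theorem emb_support_r : ∀ y : Perm (Fin 5), Perm.sign y = -1 → y * y = 1 →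
    y * (swap 0 2 * swap 0 1) = swap 0 2 * swap 0 1 * y →
    (SymEightThree.emb8 (1, y)).support.card = 2 := by decide +kernel

theorem emb_support_c : ∀ y : Perm (Fin 5), Perm.sign y = 1 → y * y = 1 → y ≠ 1 →
    (SymEightThree.emb8 (1, y)).support.card = 4 := by decide +kernel

theorem emb_support_e : ∀ x : SymEightThree.PP, x * x = 1 → Perm.sign x.2 = 1 →
    x.1 * (swap 0 2 * swap 0 1) = (swap 0 2 * swap 0 1)⁻¹ * x.1 →
    x.2 * (swap 0 2 * swap 0 1) = (swap 0 2 * swap 0 1)⁻¹ * x.2 →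
    (SymEightThree.emb8 x).support.card = 6 ∧ Perm.sign (SymEightThree.emb8 x) = -1 := by decide +kernel

theorem card_centralizer_invol {x : Perm (Fin 8)} (hx : x * x = 1) {k : ℕ} (hk : x.support.card = 2 * k)
    (hk0 : k ≠ 0) : Nat.card (Subgroup.centralizer ({x} : Set (Perm (Fin 8)))) = (8 - 2 * k).factorial * 2 ^ k * k.factorial := by
  have hc : Multiset.card x.cycleType = k := by
    have := SymEightThree.support_card_of_sq hx
    omega
  have ht : x.cycleType = Multiset.replicate k 2 := by rw [SymEightThree.cycleType_of_sq hx, hc]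
  rw [Equiv.Perm.nat_card_centralizer, ht, Multiset.sum_replicate, Multiset.prod_replicate, Fintype.card_fin,
    smul_eq_mul, mul_comm k 2]
  simp [Multiset.toFinset_replicate, hk0]

/-- The quotient of `C(t)` with its lifts. -/
structure Oct {G : Type*} [Group G] [Finite G] (d : Pair G) where
  s : Side d
  r_sq : s.r * s.r = d.t
  mat_r : d.mat s.r = rot
  chi_r : Perm.sign (d.sig s.rN) = -1
  q : d.K →* Perm (Fin 8)
  surj : Function.Surjective q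
  ker : ∀ x, q x = 1 ↔ (x : G) = 1 ∨ (x : G) = d.t
  spec : ∀ x : d.NZt, q (Subgroup.inclusion d.NZt_le_K x) = SymEightThree.emb8 (s.theta x)

theorem Pair.nonempty_oct {G : Type*} [Group G] [Finite G] (d : Pair G) (ho : d.Outer) (hzw : d.ZW) :
    Nonempty (Oct d) := by
  obtain ⟨s, hr, hm, hs⟩ := d.side_outer ho
  obtain ⟨q, h1, h2, h3⟩ := d.outer_quot s hr hm hs hzw
  exact ⟨⟨s, hr, hm, hs, q, h1, h2, h3⟩⟩

namespace Pair

variable {G : Type*} [Group G] [Finite G] (d : Pair G)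

theorem n_conj_E_mem {e : G} (he : e ∈ d.E) : d.n * e * d.n⁻¹ ∈ d.E := by
  obtain ⟨h1, h2⟩ := d.mem_E.1 he
  have e1 : d.n * e * d.n⁻¹ = d.m * e * d.m⁻¹ :=
    d.act_eq d.n_mem d.m_mem (by rw [d.π_n, d.π_m]) (d.E_le_J he)
  refine d.mem_E.2 ⟨e1 ▸ h2, ?_⟩
  rw [e1]
  rwa [show d.m * (d.m * e * d.m⁻¹) * d.m⁻¹ = d.m * d.m * e * (d.m * d.m)⁻¹ by group, d.m_sq, one_mul, inv_one,
    mul_one]

theorem commute_E_of_mat {x : G} (hx : x ∈ d.T2) (hm : d.mat x = 1) {e : G} (he : e ∈ d.E) : x * e = e * x := by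
  obtain ⟨v, rfl⟩ := d.exists_coord he
  refine commute_of_conj_eq ?_
  rw [d.mat_apply hx, hm, Matrix.one_mulVec]

theorem n_conj_t : ∃ k : G, k * d.t * k⁻¹ = d.n := by
  obtain ⟨k0, hk0⟩ := involutions_conj b0 g0_normP0.2.2.2.1 (by decide +kernel)
  obtain ⟨k, hk, rfl⟩ := d.surj₆ k0
  have hatM : k * d.t * k⁻¹ ∈ d.M₀ := d.M₀.mul_mem (d.M₀.mul_mem hk d.t_mem_M₀) (d.M₀.inv_mem hk)
  have h2 : k * d.t * k⁻¹ * (k * d.t * k⁻¹) = 1 := by
    rw [conj_mul, d.t_sq]; group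
  have hj : k * d.t * k⁻¹ * d.n ∈ d.J := by
    refine (d.ker₆ _ (d.M₀.mul_mem hatM d.n_mem)).1 ?_
    rw [d.map₆ _ hatM _ d.n_mem, d.π₆_conj hk d.t_mem_M₀, d.π_t₆, hk0, d.π_n]
    exact g0_normP0.2.2.2.1
  refine ⟨k * d.t * k⁻¹ * d.n * k, ?_⟩
  have := involution_conj h2 d.n_sq (d.J_exp _ hj)
  exact (show _ = k * d.t * k⁻¹ * d.n * (k * d.t * k⁻¹) * (k * d.t * k⁻¹ * d.n)⁻¹ by group).trans this

end Pair

namespace Oct

variable {G : Type*} [Group G] [Finite G] {d : Pair G} (o : Oct d)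

/-- Transport of the square to the quotient. -/
theorem inv_of_sq {x : d.K} (h : (x : G) * x = 1 ∨ (x : G) * x = d.t) : o.q x * o.q x = 1 := by
  rw [← map_mul, o.ker]; exact h

theorem lift_conj' {x v : d.K} (h : IsConj (o.q v) (o.q x)) :
    ∃ k : d.K, (k : G) * v * (k : G)⁻¹ = x ∨ (k : G) * v * (k : G)⁻¹ = x * d.t := by
  obtain ⟨a, ha⟩ := isConj_iff.1 h
  obtain ⟨k, rfl⟩ := o.surj a
  refine ⟨k, ?_⟩
  have e : o.q (x⁻¹ * (k * v * k⁻¹)) = 1 := by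
    rw [map_mul, map_mul, map_mul, map_inv, map_inv, ha, inv_mul_cancel]
  rw [o.ker] at e
  simp only [Subgroup.coe_mul, Subgroup.coe_inv, inv_mul_eq_iff_eq_mul, mul_one] at e
  exact e

/-- `n r n⁻¹ = r t`. -/
theorem n_r_t : d.n * o.s.r * d.n⁻¹ = o.s.r * d.t := by
  rcases o.s.n_r o.r_sq with h | h
  swap
  · exact h
  exfalso
  set y := d.g⁻¹ * o.s.r with hy
  have hrT := d.cent_T2 o.s.r_z o.s.r_w
  have hyT : y ∈ d.T2 := d.T2.mul_mem (d.T2.inv_mem d.g_mem_T2) hrT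
  have hgm : d.mat d.g⁻¹ * rot = 1 := by rw [← d.mat_g]; exact d.mat_inv d.g_mem_T2
  have hym : d.mat y = 1 := by rw [hy, d.mat_mul (d.T2.inv_mem d.g_mem_T2) hrT, o.mat_r, hgm]
  set g' := d.n * d.g⁻¹ * d.n⁻¹ with hg'
  have hg'M : g' ∈ d.M₀ := d.M₀.mul_mem (d.M₀.mul_mem d.n_mem (d.M₀.inv_mem d.g_mem)) (d.M₀.inv_mem d.n_mem)
  have hπ : d.π₆ g' = d.π₆ d.g := by
    rw [hg', d.π₆_conj d.n_mem (d.M₀.inv_mem d.g_mem), d.π₆_inv d.g_mem, d.π_n, d.π_g]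
    decide +kernel
  have hj := (d.π₆_eq_iff d.g_mem hg'M).1 hπ.symm
  have hg'T : g' ∈ d.T2 := by
    rw [← mul_inv_cancel_left d.g g']
    exact d.T2.mul_mem d.g_mem_T2 (d.J_le_T2 hj)
  have hg'm : d.mat g' = rot := by
    rw [← mul_inv_cancel_left d.g g', d.mat_mul d.g_mem_T2 (d.J_le_T2 hj), d.mat_J hj, mul_one, d.mat_g]
  have hcen : d.mat (g' * o.s.r) = 1 := by
    refine d.mat_ext (d.T2.mul_mem hg'T hrT) fun v => ?_
    have e : g' * o.s.r = d.n * y * d.n⁻¹ := by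
      conv_lhs => rw [← h]
      rw [hg', hy]; group
    rw [Matrix.one_mulVec, e]
    have hv := d.n_conj_E_mem (d.ι_mem v)
    refine conj_eq_of_commute ?_
    have h1 := d.commute_E_of_mat hyT hym hv
    rw [d.n_inv] at h1 ⊢
    calc d.n * y * d.n * d.ι v = d.n * (y * (d.n * d.ι v * d.n)) * d.n := by
          rw [show d.n * (y * (d.n * d.ι v * d.n)) * d.n = d.n * y * d.n * d.ι v * (d.n * d.n) by group, d.n_sq, mul_one]
      _ = (d.n * d.n) * d.ι v * (d.n * y * d.n) := by rw [h1]; group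
      _ = d.ι v * (d.n * y * d.n) := by rw [d.n_sq, one_mul]
  rw [d.mat_mul hg'T hrT, hg'm, o.mat_r, show rot * rot = (-1 : Mat3) by decide +kernel] at hcen
  exact absurd hcen (by decide +kernel)

theorem n_conj_nt : o.s.r⁻¹ * d.n * o.s.r = d.n * d.t := by
  have h : d.n * o.s.r = o.s.r * d.t * d.n := mul_inv_eq_iff_eq_mul.1 o.n_r_t
  calc o.s.r⁻¹ * d.n * o.s.r = o.s.r⁻¹ * (d.n * o.s.r) := by group
    _ = d.n * d.t := by rw [h, d.n_t]; group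

/-- The element whose cube is the outer involution. -/
def e0 : G := d.h * d.c * o.s.r

/-- The involution inverting `z`, `w` and centralizing `E`. -/
def e : G := o.e0 ^ 3

theorem e0_mem : o.e0 ∈ d.NZt := d.NZt.mul_mem (d.NZt.mul_mem d.h_mem_NZt (d.L_le_NZt d.c_mem)) o.s.rN.2

theorem e0_T2 : o.e0 ∈ d.T2 :=
  d.T2.mul_mem (d.T2.mul_mem d.h_mem_T2 d.c_mem_T2) (d.cent_T2 o.s.r_z o.s.r_w)

theorem e0_z : o.e0 * d.z * o.e0⁻¹ = d.z⁻¹ := by
  rw [e0, show d.h * d.c * o.s.r * d.z * (d.h * d.c * o.s.r)⁻¹ = d.h * (d.c * (o.s.r * d.z * o.s.r⁻¹) * d.c⁻¹) * d.h⁻¹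
    by group, conj_eq_of_commute o.s.r_z, d.c_z, d.h_z]

theorem e0_w : o.e0 * d.w * o.e0⁻¹ = d.w⁻¹ := by
  have hcw : d.c * d.w * d.c⁻¹ = d.w⁻¹ := d.c_w
  rw [e0, show d.h * d.c * o.s.r * d.w * (d.h * d.c * o.s.r)⁻¹ = d.h * (d.c * (o.s.r * d.w * o.s.r⁻¹) * d.c⁻¹) * d.h⁻¹
    by group, conj_eq_of_commute o.s.r_w, hcw, ← conj_inv, d.h_w]

theorem mat_e0 : d.mat o.e0 = 1 := by
  rw [e0, d.mat_mul (d.T2.mul_mem d.h_mem_T2 d.c_mem_T2) (d.cent_T2 o.s.r_z o.s.r_w),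
    d.mat_mul d.h_mem_T2 d.c_mem_T2, d.mat_h, o.mat_r, mul_assoc rot, d.mat_c.1, mul_neg_one, neg_mul,
    show rot * rot = (-1 : Mat3) by decide +kernel, neg_neg]

theorem e0_sq : o.e0 * o.e0 ∈ d.P := by
  refine d.mem_P.2 ⟨d.mem_J_of_trivial (d.T2.mul_mem o.e0_T2 o.e0_T2) ?_ ?_, ?_⟩
  · rw [show o.e0 * o.e0 * d.z * (o.e0 * o.e0)⁻¹ = o.e0 * (o.e0 * d.z * o.e0⁻¹) * o.e0⁻¹ by group, o.e0_z,
      ← conj_inv, o.e0_z, inv_inv]
  · rw [d.mat_mul o.e0_T2 o.e0_T2, o.mat_e0, one_mul]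
  · exact ((show Commute o.e0 d.t from (d.mem_NZt.1 o.e0_mem).2).mul_left (d.mem_NZt.1 o.e0_mem).2).eq

theorem e_eq : o.e = o.e0 * (o.e0 * o.e0) := by rw [e, pow_succ', pow_two]

theorem e_sq : o.e * o.e = 1 := by
  rw [e, ← pow_add, show 3 + 3 = 2 * 3 from rfl, pow_mul, pow_two]
  exact d.P_cube o.e0_sq

theorem e_mem : o.e ∈ d.NZt := d.NZt.pow_mem o.e0_mem 3

theorem e_T2 : o.e ∈ d.T2 := d.T2.pow_mem o.e0_T2 3

theorem e_K : o.e ∈ d.K := d.NZt_le_K o.e_mem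

/-- `e` as an element of `C(t)`. -/
def eK : d.K := ⟨o.e, o.e_K⟩

theorem mat_e : d.mat o.e = 1 := by
  rw [o.e_eq, d.mat_mul o.e0_T2 (d.J_le_T2 (d.P_le_J o.e0_sq)), d.mat_J (d.P_le_J o.e0_sq), o.mat_e0, one_mul]

theorem e_inv {v : G} (hv : v ∈ d.J) (h : o.e0 * v * o.e0⁻¹ = v⁻¹) : o.e * v * o.e⁻¹ = v⁻¹ := by
  rw [o.e_eq, show o.e0 * (o.e0 * o.e0) * v * (o.e0 * (o.e0 * o.e0))⁻¹
    = o.e0 * (o.e0 * o.e0 * v * (o.e0 * o.e0)⁻¹) * o.e0⁻¹ by group,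
    conj_eq_of_commute (d.J_comm _ (d.P_le_J o.e0_sq) _ hv), h]

theorem e_ne : o.e ≠ 1 := fun h => by
  have := o.e_inv d.z_mem_J o.e0_z
  rw [h, one_mul, inv_one, mul_one] at this
  exact d.ne_inv d.sg_z this

theorem e_ne_t : o.e ≠ d.t := fun h => by
  have := o.e_inv d.z_mem_J o.e0_z
  rw [h, conj_eq_of_commute d.t_z] at this
  exact d.ne_inv d.sg_z this

theorem chi_e : Perm.sign (d.sig ⟨o.e, o.e_mem⟩) = 1 := by
  have e1 : (⟨o.e, o.e_mem⟩ : d.NZt) = (⟨d.h, d.h_mem_NZt⟩ * ⟨d.c, d.L_le_NZt d.c_mem⟩ * o.s.rN) ^ 3 := Subtype.ext rfl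
  rw [e1, map_pow, map_pow, map_mul, map_mul, map_mul, map_mul, d.sig_h,
    show Perm.sign (d.sig ⟨d.c, d.L_le_NZt d.c_mem⟩) = 1 from d.L_even ⟨d.c, d.c_mem⟩, o.chi_r]
  decide

/-- The data of `θ` on an element inverting `z` and `w`. -/
theorem theta_invert {x : d.NZt} (hz : (x : G) * d.z * (x : G)⁻¹ = d.z⁻¹) (hw : (x : G) * d.w * (x : G)⁻¹ = d.w⁻¹) :
    (o.s.theta x).1 * (swap 0 2 * swap 0 1) = (swap 0 2 * swap 0 1)⁻¹ * (o.s.theta x).1 ∧
    (o.s.theta x).2 * (swap 0 2 * swap 0 1) = (swap 0 2 * swap 0 1)⁻¹ * (o.s.theta x).2 := by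
  have e1 : x * ⟨d.z, d.z_mem_NZt⟩ = (⟨d.z, d.z_mem_NZt⟩ : d.NZt)⁻¹ * x :=
    Subtype.ext (mul_inv_eq_iff_eq_mul.1 hz)
  have e2 : x * ⟨d.w, d.L_le_NZt d.w_mem_L'⟩ = (⟨d.w, d.L_le_NZt d.w_mem_L'⟩ : d.NZt)⁻¹ * x :=
    Subtype.ext (mul_inv_eq_iff_eq_mul.1 hw)
  have h1 := congrArg o.s.theta e1
  have h2 := congrArg o.s.theta e2
  rw [map_mul, map_mul, map_inv, o.s.theta_z] at h1
  rw [map_mul, map_mul, map_inv, o.s.theta_w] at h2
  exact ⟨congrArg Prod.fst h1, congrArg Prod.snd h2⟩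

theorem theta_sq {x : d.NZt} (h : (x : G) * x = 1 ∨ (x : G) * x = d.t) : o.s.theta x * o.s.theta x = 1 := by
  rw [← map_mul, o.s.theta_ker]; exact h

theorem q_e : (o.q o.eK).support.card = 6 ∧ Perm.sign (o.q o.eK) = -1 := by
  rw [show o.eK = Subgroup.inclusion d.NZt_le_K ⟨o.e, o.e_mem⟩ from rfl, o.spec]
  obtain ⟨h1, h2⟩ := o.theta_invert (x := ⟨o.e, o.e_mem⟩) (o.e_inv d.z_mem_J o.e0_z) (o.e_inv d.w_mem_J o.e0_w)
  exact emb_support_e _ (o.theta_sq (Or.inl o.e_sq)) (by rw [o.s.sign_snd]; exact o.chi_e) h1 h2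

theorem q_r : (o.q (Subgroup.inclusion d.NZt_le_K o.s.rN)).support.card = 2 := by
  rw [o.spec, show o.s.theta o.s.rN = (1, (o.s.theta o.s.rN).2) from Prod.ext (o.s.sig3_M1 o.s.r_mem_M1) rfl]
  refine emb_support_r _ (by rw [o.s.sign_snd]; exact o.chi_r) (congrArg Prod.snd (o.theta_sq (Or.inr o.r_sq))) ?_
  have e : o.s.rN * ⟨d.w, d.L_le_NZt d.w_mem_L'⟩ = (⟨d.w, d.L_le_NZt d.w_mem_L'⟩ : d.NZt) * o.s.rN :=
    Subtype.ext o.s.r_w
  have h := congrArg o.s.theta e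
  rw [map_mul, map_mul, o.s.theta_w] at h
  exact congrArg Prod.snd h

theorem q_c : (o.q d.cK).support.card = 4 := by
  rw [show d.cK = Subgroup.inclusion d.NZt_le_K ⟨d.c, d.L_le_NZt d.c_mem⟩ from rfl, o.spec,
    show o.s.theta ⟨d.c, d.L_le_NZt d.c_mem⟩ = (1, (o.s.theta ⟨d.c, d.L_le_NZt d.c_mem⟩).2) from
      Prod.ext (o.s.sig3_M1 (o.s.L_le_M1 d.c_mem)) rfl]
  refine emb_support_c _ (by rw [o.s.sign_snd]; exact d.L_even ⟨d.c, d.c_mem⟩)
    (congrArg Prod.snd (o.theta_sq (Or.inr d.c_sq))) fun h => ?_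
  have h1 : o.s.theta ⟨d.c, d.L_le_NZt d.c_mem⟩ = 1 := Prod.ext (o.s.sig3_M1 (o.s.L_le_M1 d.c_mem)) h
  have hcw : d.c * d.w * d.c⁻¹ = d.w⁻¹ := d.c_w
  rcases (o.s.theta_ker _).1 h1 with h' | h' <;> simp only at h' <;> rw [h'] at hcw
  · rw [one_mul, inv_one, mul_one] at hcw
    exact d.ne_inv d.sg_w hcw
  · rw [conj_eq_of_commute d.t_w'] at hcw
    exact d.ne_inv d.sg_w hcw

/-- `e` is not conjugate to `t`. -/
theorem e_not_conj_t (g : G) : g * o.e * g⁻¹ ≠ d.t := by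
  intro h
  haveI := Fact.mk Nat.prime_three
  have hFK : ∀ f ∈ d.E, g * f * g⁻¹ ∈ d.K := fun f hf => mem_centralizer_one.2 (by
    have : g * (o.e * f) * g⁻¹ = g * (f * o.e) * g⁻¹ := by rw [d.commute_E_of_mat o.e_T2 o.mat_e hf]
    rw [← conj_mul, ← conj_mul, h] at this
    exact this.symm)
  let F : Subgroup d.K := (d.E.map (MulAut.conj g).toMonoidHom).subgroupOf d.K
  have hle : d.E.map (MulAut.conj g).toMonoidHom ≤ d.K := by
    rintro _ ⟨f, hf, rfl⟩; exact hFK f hf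
  have hF : Nat.card F = 9 := by
    rw [Nat.card_congr (Subgroup.subgroupOfEquivOfLe hle).toEquiv,
      Subgroup.card_map_of_injective (MulEquiv.injective (MulAut.conj g)), d.card_E]
  obtain ⟨S1, hS1⟩ := (IsPGroup.of_card (n := 2) (by rw [hF]; rfl) : IsPGroup 3 F).exists_le_sylow
  obtain ⟨S2, hS2⟩ := (IsPGroup.of_card (n := 2) (by rw [d.card_PK]; rfl) : IsPGroup 3 d.PK).exists_le_sylow
  have hS2' : (S2 : Subgroup d.K) = d.PK := by
    obtain ⟨k, hk⟩ := IsPGroup.iff_card.1 S2.isPGroup'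
    refine (Subgroup.eq_of_le_of_card_ge hS2 ?_).symm
    have hk2 : k ≤ 2 := by
      by_contra hlt
      exact d.K_not27 ((pow_dvd_pow 3 (show 3 ≤ k by omega)).trans (hk ▸ Subgroup.card_subgroup_dvd_card _))
    rw [hk, d.card_PK]
    exact (Nat.pow_le_pow_right (by norm_num) hk2).trans (le_of_eq (by norm_num))
  obtain ⟨k, hk⟩ := MulAction.exists_smul_eq d.K S1 S2
  let φ : d.E → d.PK := fun f => ⟨k * ⟨g * f * g⁻¹, hFK f f.2⟩ * k⁻¹, by
    rw [← hS2', ← hk, Sylow.coe_subgroup_smul]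
    exact ⟨⟨g * f * g⁻¹, hFK f f.2⟩, hS1 ⟨f, f.2, rfl⟩, rfl⟩⟩
  have hφ : Function.Injective φ := fun a b e => Subtype.ext (by
    have e' : (k : G) * (g * a * g⁻¹) * (k : G)⁻¹ = (k : G) * (g * b * g⁻¹) * (k : G)⁻¹ :=
      congrArg (fun u : d.PK => ((u : d.K) : G)) e
    exact mul_left_cancel (mul_right_cancel (mul_left_cancel (mul_right_cancel e'))))
  obtain ⟨f, hf⟩ := (hφ.bijective_of_nat_card_le (by rw [d.card_PK, d.card_E])).2 ⟨⟨d.z, d.P_le_K d.z_mem_P⟩, d.z_mem_P⟩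
  have hf' : (k : G) * (g * f * g⁻¹) * (k : G)⁻¹ = d.z := congrArg (fun u : d.PK => ((u : d.K) : G)) hf
  have hfz : ((k : G) * g)⁻¹ * d.z * ((k : G) * g)⁻¹⁻¹ = f := by rw [← hf']; group
  have hsg : d.Sg (f : G) := hfz ▸ d.sg_conj (g := ((k : G) * g)⁻¹) d.sg_z (by rw [hfz]; exact d.E_le_J f.2)
  rcases three_cases d.z_cube (d.sg_A hsg (d.mem_E.1 f.2).1) with h1 | h1 | h1
  · exact d.sg_ne_one hsg h1
  · exact d.z_notMem_E (h1 ▸ f.2)
  · exact d.z_notMem_E (inv_mem_iff.1 (h1 ▸ f.2))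

theorem n_notMem_zt : d.n ≠ 1 ∧ d.n ≠ d.t := by
  refine ⟨fun h => ?_, fun h => ?_⟩
  · have := d.n_z
    rw [h, one_mul, inv_one, mul_one] at this
    exact d.zw_distinct (Or.inl rfl) (Or.inl rfl) this
  · have := d.n_z
    rw [h, conj_eq_of_commute d.t_z] at this
    exact d.zw_distinct (Or.inl rfl) (Or.inl rfl) this

/-- An involution other than `t` maps to a class six or class eight involution. -/
theorem invol_support {x : d.K} (h2 : (x : G) * x = 1) (h1 : (x : G) ≠ 1) (ht : (x : G) ≠ d.t) :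
    (o.q x).support.card = 6 ∨ (o.q x).support.card = 8 := by
  have hq1 : o.q x ≠ 1 := fun h => ((o.ker x).1 h).elim h1 ht
  have hxq : o.q x * o.q x = 1 := o.inv_of_sq (Or.inl h2)
  have hne : ∀ v : d.K, (v : G) * v = d.t → (o.q v).support.card ≠ (o.q x).support.card := by
    intro v hv hcard
    obtain ⟨k, hk⟩ := o.lift_conj' (SymEightThree.isConj_of_support (o.inv_of_sq (Or.inr hv)) hxq hcard)
    have hkt : (k : G) * d.t * (k : G)⁻¹ = d.t := conj_eq_of_commute (d.K_comm k)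
    rcases hk with hk | hk
    · have := congrArg (fun u => u * u) hk
      simp only [conj_mul, hv, hkt, h2] at this
      exact d.t_ne this
    · have := congrArg (fun u => u * u) hk
      simp only [conj_mul, hv, hkt] at this
      rw [(show Commute d.t (x : G) from (d.K_comm x).symm).mul_mul_mul_comm, h2, d.t_sq, one_mul] at this
      exact d.t_ne this
  have a2 := hne _ (show ((Subgroup.inclusion d.NZt_le_K o.s.rN : d.K) : G) * _ = d.t from o.r_sq)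
  have a4 := hne d.cK d.c_sq
  rw [o.q_r] at a2
  rw [o.q_c] at a4
  have h := SymEightThree.support_card_of_sq hxq
  have h8 : (o.q x).support.card ≤ 8 := (Finset.card_le_univ _).trans (le_of_eq (Fintype.card_fin 8))
  have h0 : (o.q x).support.card ≠ 0 := fun e => hq1 (Perm.support_eq_empty_iff.1 (Finset.card_eq_zero.1 e))
  omega

theorem q_n : (o.q ⟨d.n, d.n_K⟩).support.card = 8 := by
  refine (o.invol_support (x := ⟨d.n, d.n_K⟩) d.n_sq n_notMem_zt.1 n_notMem_zt.2).resolve_left fun h => ?_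
  obtain ⟨k, hk⟩ := o.lift_conj' (x := ⟨d.n, d.n_K⟩) (v := o.eK) (SymEightThree.isConj_of_support
    (o.inv_of_sq (Or.inl o.e_sq)) (o.inv_of_sq (Or.inl d.n_sq)) (o.q_e.1.trans h.symm))
  obtain ⟨a, ha⟩ := d.n_conj_t
  have key : ∀ g : G, g * o.e * g⁻¹ = d.n → False := fun g hg => o.e_not_conj_t (a⁻¹ * g) (by
    calc a⁻¹ * g * o.e * (a⁻¹ * g)⁻¹ = a⁻¹ * (g * o.e * g⁻¹) * a := by group
      _ = a⁻¹ * (a * d.t * a⁻¹) * a := by rw [hg, ha]
      _ = d.t := by group)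
  rcases hk with hk | hk
  · exact key _ hk
  · have hk' : (k : G) * o.e * (k : G)⁻¹ = d.n * d.t := hk
    refine key (o.s.r * (k : G)) ?_
    calc o.s.r * (k : G) * o.e * (o.s.r * (k : G))⁻¹ = o.s.r * ((k : G) * o.e * (k : G)⁻¹) * o.s.r⁻¹ := by group
      _ = d.n := by rw [hk', ← o.n_conj_nt]; group

/-- Class eight involutions are conjugate to `t`, and to their products with `t` inside `C(t)`. -/
theorem class_eight {x : d.K} (h2 : (x : G) * x = 1) (h8 : (o.q x).support.card = 8) :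
    (∃ g : G, g * d.t * g⁻¹ = x) ∧ ∃ k : d.K, (k : G) * x * (k : G)⁻¹ = x * d.t := by
  obtain ⟨k, hk⟩ := o.lift_conj' (x := x) (v := ⟨d.n, d.n_K⟩) (SymEightThree.isConj_of_support
    (o.inv_of_sq (Or.inl d.n_sq)) (o.inv_of_sq (Or.inl h2)) (o.q_n.trans h8.symm))
  obtain ⟨a, ha⟩ := d.n_conj_t
  have hkt : (k : G) * d.t * (k : G)⁻¹ = d.t := conj_eq_of_commute (d.K_comm k)
  have hrK : o.s.r ∈ d.K := mem_centralizer_one.2 o.s.r_t
  have hnt := o.n_conj_nt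
  rcases hk with hk | hk
  · refine ⟨⟨(k : G) * a, ?_⟩, ⟨k * ⟨o.s.r, hrK⟩⁻¹ * k⁻¹, ?_⟩⟩
    · rw [show (k : G) * a * d.t * ((k : G) * a)⁻¹ = (k : G) * (a * d.t * a⁻¹) * (k : G)⁻¹ by group, ha]
      exact hk
    · have hk' : (k : G) * d.n * (k : G)⁻¹ = x := hk
      simp only [Subgroup.coe_mul, Subgroup.coe_inv]
      calc (k : G) * o.s.r⁻¹ * (k : G)⁻¹ * x * ((k : G) * o.s.r⁻¹ * (k : G)⁻¹)⁻¹
          = (k : G) * (o.s.r⁻¹ * d.n * o.s.r) * (k : G)⁻¹ := by rw [← hk']; group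
        _ = x * d.t := by rw [hnt, ← conj_mul, hk', hkt]
  · have hk' : (k : G) * d.n * (k : G)⁻¹ = x * d.t := hk
    have hx : (k : G) * (o.s.r⁻¹ * d.n * o.s.r) * (k : G)⁻¹ = x := by
      rw [hnt, ← conj_mul, hk', hkt, mul_assoc, d.t_sq, mul_one]
    refine ⟨⟨(k : G) * o.s.r⁻¹ * a, ?_⟩, ⟨k * ⟨o.s.r, hrK⟩ * k⁻¹, ?_⟩⟩
    · rw [show (k : G) * o.s.r⁻¹ * a * d.t * ((k : G) * o.s.r⁻¹ * a)⁻¹
        = (k : G) * (o.s.r⁻¹ * (a * d.t * a⁻¹) * o.s.r) * (k : G)⁻¹ by group, ha]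
      exact hx
    · simp only [Subgroup.coe_mul, Subgroup.coe_inv]
      rw [← hk']
      conv_lhs => rw [← hx]
      group

theorem even_conj_t {x : d.K} (h2 : (x : G) * x = 1) (h1 : (x : G) ≠ 1) (he : Perm.sign (o.q x) = 1) :
    ∃ g : G, g * d.t * g⁻¹ = x := by
  by_cases ht : (x : G) = d.t
  · exact ⟨1, by rw [ht]; group⟩
  rcases o.invol_support h2 h1 ht with h | h
  · exfalso
    obtain ⟨a, ha⟩ := isConj_iff.1 (SymEightThree.isConj_of_support (o.inv_of_sq (x := o.eK) (Or.inl o.e_sq))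
      (o.inv_of_sq (Or.inl h2)) (o.q_e.1.trans h.symm))
    have := congrArg Perm.sign ha
    rw [map_mul, map_mul, map_inv, mul_inv_cancel_comm, o.q_e.2, he] at this
    exact absurd this (by decide)
  · exact (o.class_eight h2 h).1

include o in
theorem card_K : Nat.card d.K = 2 * Nat.card d.Kb ∧ Nat.card d.Kb = 40320 := by
  refine ⟨?_, ?_⟩
  · have := d.card_map_bar (H := ⊤) (Subgroup.mem_top _)
    rwa [Subgroup.card_top, Subgroup.map_top_of_surjective d.bar d.bar_surj, Subgroup.card_top] at this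
  · have hk : o.q.ker = d.T₀ := by
      ext x
      rw [MonoidHom.mem_ker, o.ker, ← d.bar_eq_one, Pair.bar, QuotientGroup.mk'_apply, QuotientGroup.eq_one_iff]
    rw [← Nat.card_congr ((QuotientGroup.quotientMulEquivOfEq hk).toEquiv),
      Nat.card_congr (QuotientGroup.quotientKerEquivOfSurjective o.q o.surj).toEquiv, Nat.card_perm, Nat.card_fin]
    rfl

end Oct

end Cfsg.Agent.McLThree
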