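/-
A subgroup of index two when `C(t) / ⟨t⟩` is `S₈`.
-/
import Cfsg.Agent.Lib.McLThree.Classes
import Cfsg.Agent.S0111

set_option autoImplicit false
set_option maxRecDepth 100000
set_option synthInstance.maxSize 4000
set_option synthInstance.maxHeartbeats 400000
set_option linter.style.longLine false
set_option linter.style.haveILetI false

open Equiv

namespace Cfsg.Agent.McLThree

namespace Oct

variable {G : Type*} [Group G] [Finite G] {d : Pair G} (o : Oct d)

theorem card_comap (H : Subgroup (Perm (Fin 8))) : Nat.card (H.comap o.q) = 2 * Nat.card H := by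
  have h1 := Subgroup.card_mul_index (H.comap o.q)
  rw [Subgroup.index_comap_of_surjective _ o.surj, (o.card_K).1, (o.card_K).2] at h1
  have h2 := Subgroup.card_mul_index H
  rw [Nat.card_perm, Nat.card_fin, show (Nat.factorial 8) = 40320 from rfl] at h2
  refine Nat.eq_of_mul_eq_mul_right (Nat.pos_of_ne_zero Subgroup.index_ne_zero_of_finite : 0 < H.index) ?_
  rw [h1, mul_assoc, h2]

include o in
/-- The only central involution of a Sylow two-subgroup of `C(t)` is `t`. -/
theorem central_eq_t (T : Sylow 2 d.K) {x : d.K} (hx : x ∈ (T : Subgroup d.K)) (h2 : (x : G) * x = 1)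
    (h1 : (x : G) ≠ 1) (hcen : ∀ y ∈ (T : Subgroup d.K), y * x = x * y) : (x : G) = d.t := by
  by_contra ht
  haveI := Fact.mk Nat.prime_two
  have h256 : 2 ^ 8 ∣ Nat.card (T : Subgroup d.K) :=
    T.pow_dvd_card_of_pow_dvd_card (by rw [(o.card_K).1, (o.card_K).2]; norm_num)
  set C2 := (Subgroup.centralizer ({o.q x} : Set (Perm (Fin 8)))).comap o.q with hC2
  set C1 := Subgroup.centralizer ({x} : Set d.K) with hC1
  have hT1 : (T : Subgroup d.K) ≤ C1 := fun y hy => mem_centralizer_one.2 (hcen y hy)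
  have h12 : C1 ≤ C2 := fun y hy => mem_centralizer_one.2 (by
    rw [← map_mul, ← map_mul, mem_centralizer_one.1 hy])
  have hxq : o.q x * o.q x = 1 := o.inv_of_sq (Or.inl h2)
  rcases o.invol_support h2 h1 ht with h | h
  · have hc := card_centralizer_invol hxq (k := 3) h (by norm_num)
    have h3 := h256.trans (Subgroup.card_dvd_of_le (hT1.trans h12))
    rw [hC2, o.card_comap, hc] at h3
    norm_num [Nat.factorial] at h3
  · have hc := card_centralizer_invol hxq (k := 4) h (by norm_num)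
    obtain ⟨k, hk⟩ := (o.class_eight h2 h).2
    have hcase : ∀ y ∈ C2, y * x * y⁻¹ = x ∨ (y : G) * x * (y : G)⁻¹ = x * d.t := by
      intro y hy
      have e : o.q (x⁻¹ * (y * x * y⁻¹)) = 1 := by
        rw [map_mul, map_mul, map_mul, map_inv, map_inv, mem_centralizer_one.1 hy]; group
      rw [o.ker] at e
      simp only [Subgroup.coe_mul, Subgroup.coe_inv, inv_mul_eq_iff_eq_mul, mul_one] at e
      exact e.imp (fun e => Subtype.ext e) id
    have hk2 : k ∈ C2 := by
      refine mem_centralizer_one.2 ?_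
      have e : o.q (x⁻¹ * (k * x * k⁻¹)) = 1 := by
        rw [o.ker]
        refine Or.inr ?_
        simp only [Subgroup.coe_mul, Subgroup.coe_inv]
        rw [hk, inv_mul_cancel_left]
      rw [map_mul, map_mul, map_mul, map_inv, map_inv, inv_mul_eq_one, eq_mul_inv_iff_mul_eq] at e
      exact e.symm
    have hnot : ∀ y : d.K, (y : G) * x * (y : G)⁻¹ = x * d.t → y ∉ C1 := fun y hy hy1 => by
      rw [conj_eq_of_commute (congrArg Subtype.val (mem_centralizer_one.1 hy1)), eq_comm, mul_eq_left] at hy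
      exact d.t_ne hy
    have hidx : (C1.subgroupOf C2).index = 2 := by
      refine Subgroup.index_eq_two_iff.2 ⟨⟨k, hk2⟩, fun y => ?_⟩
      rcases hcase y y.2 with e | e
      · have hy : (y : d.K) ∈ C1 := mem_centralizer_one.2 (mul_inv_eq_iff_eq_mul.1 e)
        refine Or.inr ⟨hy, fun hyk => hnot k hk ?_⟩
        have := C1.mul_mem (C1.inv_mem hy) (show (y : d.K) * k ∈ C1 from hyk)
        rwa [inv_mul_cancel_left] at this
      · refine Or.inl ⟨?_, fun hy => hnot y e hy⟩
        show (y : d.K) * k ∈ C1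
        refine mem_centralizer_one.2 (mul_inv_eq_iff_eq_mul.1 (Subtype.ext ?_))
        simp only [Subgroup.coe_mul, Subgroup.coe_inv]
        rw [show ((y : d.K) : G) * k * x * (((y : d.K) : G) * k)⁻¹
          = ((y : d.K) : G) * ((k : G) * x * (k : G)⁻¹) * ((y : d.K) : G)⁻¹ by group, hk, ← conj_mul, e,
          conj_eq_of_commute (d.K_comm y), mul_assoc, d.t_sq, mul_one]
    have h3 := Subgroup.card_mul_index (C1.subgroupOf C2)
    rw [hidx, Nat.card_congr (Subgroup.subgroupOfEquivOfLe h12).toEquiv, hC2, o.card_comap, hc] at h3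
    have h4 := h256.trans (Subgroup.card_dvd_of_le hT1)
    norm_num [Nat.factorial] at h3
    omega

/-- A subgroup of index two meeting `C(t)` in the preimage of `A₈`. -/
theorem exists_index_two : ∃ M : Subgroup G, M.Normal ∧ M.index = 2 ∧
    ∀ x : d.K, (x : G) ∈ M ↔ Perm.sign (o.q x) = 1 := by
  classical
  haveI := Fact.mk Nat.prime_two
  have he2 : orderOf o.eK = 2 :=
    orderOf_eq_prime (Subtype.ext (by rw [pow_two]; exact o.e_sq)) (fun h => o.e_ne (congrArg Subtype.val h))
  obtain ⟨T, hT⟩ := (IsPGroup.of_card (G := Subgroup.zpowers o.eK) (p := 2) (n := 1)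
    (by rw [Nat.card_zpowers, he2, pow_one])).exists_le_sylow
  have heT : o.eK ∈ (T : Subgroup d.K) := hT (Subgroup.mem_zpowers _)
  have ht2 : orderOf d.tK = 2 :=
    orderOf_eq_prime (Subtype.ext (by rw [pow_two]; exact d.t_sq)) (fun h => d.t_ne (congrArg Subtype.val h))
  have htT : d.tK ∈ (T : Subgroup d.K) := by
    have hT₀ : IsPGroup 2 d.T₀ := IsPGroup.of_card (n := 1) (by rw [Pair.T₀, Nat.card_zpowers, ht2, pow_one])
    have e := T.is_maximal' (T.isPGroup'.to_sup_of_normal_right hT₀) le_sup_left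
    rw [← e]
    exact Subgroup.mem_sup_right (Subgroup.mem_zpowers _)
  set T' := (T : Subgroup d.K).map d.K.subtype with hT'
  obtain ⟨U, hU⟩ := (T.isPGroup'.map d.K.subtype : IsPGroup 2 T').exists_le_sylow
  have hUT : (U : Subgroup G) = T' := by
    by_contra hne
    haveI := U.isPGroup'.isNilpotent
    have hlt := Group.normalizerCondition_of_isNilpotent (T'.subgroupOf U) (by
      rw [lt_top_iff_ne_top, Ne, Subgroup.subgroupOf_eq_top]
      exact fun h => hne (le_antisymm h hU))
    obtain ⟨x, hx, hxT⟩ := SetLike.exists_of_lt hlt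
    apply hxT
    rw [Subgroup.mem_subgroupOf]
    have hconj : ∀ y : U, (y : G) ∈ T' → (x : G) * y * (x : G)⁻¹ ∈ T' := fun y hy => by
      have := (Subgroup.mem_normalizer_iff.1 hx y).1 (Subgroup.mem_subgroupOf.2 hy)
      rwa [Subgroup.mem_subgroupOf] at this
    have htT' : d.t ∈ T' := ⟨d.tK, htT, rfl⟩
    obtain ⟨s, hs, hse⟩ := hconj ⟨d.t, hU htT'⟩ htT'
    have hse' : (s : G) = (x : G) * d.t * (x : G)⁻¹ := hse
    have hst : (s : G) = d.t := by
      refine o.central_eq_t T hs (by rw [hse', conj_mul, d.t_sq]; group) (fun h => ?_) fun y hy => Subtype.ext ?_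
      · rw [hse'] at h
        exact d.t_ne (conj_eq_one_iff.1 h)
      · have hyT' : (y : G) ∈ T' := ⟨y, hy, rfl⟩
        have := (Subgroup.mem_normalizer_iff.1 (inv_mem hx) ⟨y, hU hyT'⟩).1 (Subgroup.mem_subgroupOf.2 hyT')
        rw [Subgroup.mem_subgroupOf] at this
        obtain ⟨y', -, hy'⟩ := this
        have hy'' : (y : G) = (x : G) * y' * (x : G)⁻¹ := by
          rw [show (y' : G) = _ from hy']
          simp only [Subgroup.coe_mul, Subgroup.coe_inv]
          group
        simp only [Subgroup.coe_mul]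
        rw [hse', hy'', conj_mul, conj_mul, d.K_comm y']
    have hxK : (x : G) ∈ d.K := mem_centralizer_one.2 (mul_inv_eq_iff_eq_mul.1 (hse'.symm.trans hst))
    have hsub : IsPGroup 2 ((U : Subgroup G).subgroupOf d.K) :=
      (U.isPGroup'.to_le (inf_le_left : (U : Subgroup G) ⊓ d.K ≤ U)).of_equiv
        (Subgroup.subgroupOfEquivOfLe inf_le_right).symm |>.to_le (le_of_eq (Subgroup.inf_subgroupOf_right _ _).symm)
    have heq := T.is_maximal' hsub fun y hy => Subgroup.mem_subgroupOf.2 (hU ⟨y, hy, rfl⟩)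
    exact ⟨⟨x, hxK⟩, heq ▸ Subgroup.mem_subgroupOf.2 x.2, rfl⟩
  set Keven := ((Perm.sign).comp o.q).ker with hKe
  set Q := ((T : Subgroup d.K) ⊓ Keven).map d.K.subtype with hQ
  have hQU : Q ≤ (U : Subgroup G) := hUT ▸ Subgroup.map_mono inf_le_left
  have hmemQ : ∀ y : d.K, (y : G) ∈ Q ↔ y ∈ (T : Subgroup d.K) ∧ Perm.sign (o.q y) = 1 := by
    intro y
    constructor
    · rintro ⟨y', hy', e⟩
      obtain rfl : y' = y := Subtype.ext e
      exact ⟨hy'.1, hy'.2⟩
    · rintro ⟨a, b⟩
      exact ⟨y, ⟨a, b⟩, rfl⟩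
  have heU : o.e ∈ (U : Subgroup G) := hUT ▸ ⟨o.eK, heT, rfl⟩
  have hrel : Q.relIndex (U : Subgroup G) = 2 := by
    refine Subgroup.index_eq_two_iff.2 ⟨⟨o.e, heU⟩, fun b => ?_⟩
    obtain ⟨y, hy, hyb⟩ := (hUT ▸ b.2 : (b : G) ∈ T')
    simp only [Subgroup.mem_subgroupOf, Subgroup.coe_mul]
    rw [show (b : G) = ((y : d.K) : G) from hyb.symm, show ((y : d.K) : G) * o.e = ((y * o.eK : d.K) : G) from rfl,
      hmemQ, hmemQ, map_mul, map_mul, o.q_e.2]
    rcases Int.units_eq_one_or (Perm.sign (o.q y)) with h | h <;> rw [h]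
    · exact Or.inr ⟨⟨hy, rfl⟩, fun h' => absurd h'.2 (by decide)⟩
    · exact Or.inl ⟨⟨Subgroup.mul_mem _ hy heT, by decide⟩, fun h' => absurd h'.2 (by decide)⟩
  rcases Cfsg.Agent.S0111.result U Q hQU hrel o.e
      (orderOf_eq_prime (by rw [pow_two]; exact o.e_sq) o.e_ne) heU
      (fun h => by
        have := ((hmemQ o.eK).1 h).2
        rw [o.q_e.2] at this
        exact absurd this (by decide)) with hM | ⟨g, hg⟩
  swap
  · exfalso
    obtain ⟨y, hy, hye⟩ := hg
    have hye' : (y : G) = g * o.e * g⁻¹ := hye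
    obtain ⟨a, ha⟩ := o.even_conj_t (x := y) (by rw [hye', conj_mul, o.e_sq]; group)
      (fun h => o.e_ne (conj_eq_one_iff.1 (hye' ▸ h))) hy.2
    refine o.e_not_conj_t (a⁻¹ * g) ?_
    calc a⁻¹ * g * o.e * (a⁻¹ * g)⁻¹ = a⁻¹ * (g * o.e * g⁻¹) * a := by group
      _ = a⁻¹ * (a * d.t * a⁻¹) * a := by rw [← hye', ha]
      _ = d.t := by group
  obtain ⟨M, hMn, hMi, heM⟩ := hM
  refine ⟨M, hMn, hMi, ?_⟩
  have htM : d.t ∈ M := d.c_sq ▸ Subgroup.mul_self_mem_of_index_two hMi d.c
  have hle : alternatingGroup (Fin 8) ≤ (M.subgroupOf d.K).map o.q := by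
    rw [← Perm.closure_three_cycles_eq_alternating, Subgroup.closure_le]
    intro σ hσ
    obtain ⟨k, hk⟩ := o.surj (σ * σ)
    refine ⟨k * k, Subgroup.mul_self_mem_of_index_two hMi (k : G), ?_⟩
    rw [map_mul, hk]
    calc σ * σ * (σ * σ) = σ ^ 3 * σ := by simp only [pow_succ, pow_zero, one_mul, mul_assoc]
      _ = σ := by rw [← (show σ.IsThreeCycle from hσ).orderOf, pow_orderOf_eq_one, one_mul]
  have heven : ∀ x : d.K, Perm.sign (o.q x) = 1 → (x : G) ∈ M := by
    intro x hx
    obtain ⟨m, hm, e⟩ := hle (Perm.mem_alternatingGroup.2 hx)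
    have e' : o.q (m⁻¹ * x) = 1 := by rw [map_mul, map_inv, e, inv_mul_cancel]
    rw [o.ker] at e'
    simp only [Subgroup.coe_mul, Subgroup.coe_inv, inv_mul_eq_iff_eq_mul, mul_one] at e'
    rcases e' with e' | e' <;> rw [e']
    exacts [hm, M.mul_mem hm htM]
  refine fun x => ⟨fun hx => ?_, heven x⟩
  rcases Int.units_eq_one_or (Perm.sign (o.q x)) with h | h
  · exact h
  exfalso
  have h' := heven (x * o.eK) (by rw [map_mul, map_mul, h, o.q_e.2]; decide)
  exact heM ((Subgroup.mul_mem_cancel_left M hx).1 h')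

end Oct

end Cfsg.Agent.McLThree
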