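/-
The recognition of `McL` and its automorphism group from the configuration.
-/
import Cfsg.Agent.Lib.McLThree.Transfer
import Cfsg.Agent.Lib.ExtLayer.Basic
import Cfsg.Agent.S2073

set_option autoImplicit false
set_option maxRecDepth 100000
set_option synthInstance.maxSize 4000
set_option synthInstance.maxHeartbeats 400000
set_option linter.style.longLine false
set_option linter.style.haveILetI false

open Equiv

universe u

namespace Cfsg.Agent.McLThree

/-- The recognition of `McL` from the centralizer of an involution. -/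
def McLCentralizer : Prop :=
  ∀ (H : Type u) [Group H] [Finite H] (t : H), orderOf t = 2 →
    Cfsg.IsNonsplitDoubleCover (Subgroup.centralizer ({t} : Set H)) (alternatingGroup (Fin 8)) →
    Subgroup.centralizer ({t} : Set H) ⊔ Cfsg.oddCore H = ⊤ ∨ Nonempty (H ≃* Cfsg.Spor.McL)

instance oddCore_char (X : Type*) [Group X] : (Cfsg.oddCore X).Characteristic :=
  Subgroup.characteristic_iff_map_eq.2 fun φ => ExtLayer.map_pPrimeCore 2 φ

theorem eq_one_of_commute_alt (σ : Perm (Fin 8)) (h : ∀ τ ∈ alternatingGroup (Fin 8), σ * τ = τ * σ) : σ = 1 := by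
  refine Equiv.ext fun a => ?_
  by_contra hne
  have hb : σ a ≠ a := hne
  obtain ⟨c, hca, hcb⟩ := Fintype.exists_ne_of_one_lt_card (α := Fin 8) (by simp) a |> fun _ =>
    (show ∀ a b : Fin 8, ∃ c, c ≠ a ∧ c ≠ b by decide) a (σ a)
  obtain ⟨e, hea, heb, hec⟩ := (show ∀ a b c : Fin 8, ∃ e, e ≠ a ∧ e ≠ b ∧ e ≠ c by decide) a (σ a) c
  set τ := swap (σ a) c * swap (σ a) e with hτ
  have hmem : τ ∈ alternatingGroup (Fin 8) := Perm.mem_alternatingGroup.2 (by
    rw [hτ, map_mul, Perm.sign_swap hcb.symm, Perm.sign_swap heb.symm]; decide)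
  have h1 := Equiv.congr_fun (h τ hmem) a
  rw [Perm.mul_apply, Perm.mul_apply, hτ, Perm.mul_apply, Perm.mul_apply,
    swap_apply_of_ne_of_ne hb.symm hea.symm, swap_apply_of_ne_of_ne hb.symm hca.symm, swap_apply_left,
    swap_apply_of_ne_of_ne heb hec] at h1
  exact heb h1.symm

theorem Pair.odd_mem {G : Type*} [Group G] [Finite G] (d : Pair G) {M : Subgroup G} (hM : M.index = 2) {x : G}
    (hx : x ∈ (d.S : Subgroup G)) : x ∈ M := by
  have h3 : x ^ 729 = 1 := by
    rw [← d.card_S]
    exact orderOf_dvd_iff_pow_eq_one.1 (Subgroup.orderOf_dvd_natCard _ hx)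
  have h : (x ^ 365) * (x ^ 365) ∈ M := Subgroup.mul_self_mem_of_index_two hM _
  rwa [← pow_add, show 365 + 365 = 729 + 1 from rfl, pow_succ, h3, one_mul] at h

/-- The conclusion when `C(t)` is a double cover of `A₈`. -/
theorem Pair.inner_case {G : Type u} [Group G] [Finite G] (d : Pair G) (hL : McLCentralizer.{u}) (ho : ¬ d.Outer)
    (hzw : d.ZW) : Nonempty (G ≃* Cfsg.Spor.McL) := by
  refine (hL G d.t (orderOf_eq_prime (hp := ⟨Nat.prime_two⟩) (by rw [pow_two]; exact d.t_sq) d.t_ne)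
    (d.inner_cover hzw ho)).resolve_left fun h => ?_
  exact d.not_cover (Cfsg.oddCore G) (ExtLayer.oddCore_odd) (le_top.trans h.ge)

/-- The conclusion when some element of `C(t)` rotates `E`. -/
theorem Pair.outer_case {G : Type u} [Group G] [Finite G] (d : Pair G) (hL : McLCentralizer.{u}) (o : Oct d) :
    Nonempty (G ≃* MulAut Cfsg.Spor.McL) := by
  classical
  obtain ⟨M, hMn, hMi, hMK⟩ := o.exists_index_two
  have htM : d.t ∈ M := d.c_sq ▸ Subgroup.mul_self_mem_of_index_two hMi d.c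
  set tM : M := ⟨d.t, htM⟩ with htM'
  set C := Subgroup.centralizer ({tM} : Set M) with hC
  have hCK : ∀ x : C, ((x : M) : G) ∈ d.K := fun x =>
    mem_centralizer_one.2 (congrArg Subtype.val (mem_centralizer_one.1 x.2))
  let i : C →* d.K := MonoidHom.mk' (fun x => ⟨((x : M) : G), hCK x⟩) fun a b => Subtype.ext rfl
  let f : C →* alternatingGroup (Fin 8) :=
    (o.q.comp i).codRestrict (alternatingGroup (Fin 8))
      fun x => Perm.mem_alternatingGroup.2 ((hMK (i x)).1 (x : M).2)
  have hf : Function.Surjective f := by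
    rintro ⟨σ, hσ⟩
    obtain ⟨k, rfl⟩ := o.surj σ
    have hk : (k : G) ∈ M := (hMK k).2 (Perm.mem_alternatingGroup.1 hσ)
    exact ⟨⟨⟨k, hk⟩, mem_centralizer_one.2 (Subtype.ext (d.K_comm k))⟩, rfl⟩
  let t0 : C := ⟨tM, mem_centralizer_one.2 rfl⟩
  have hker : ∀ x, f x = 1 ↔ x = 1 ∨ x = t0 := fun x => by
    rw [Subtype.ext_iff]
    show o.q (i x) = 1 ↔ _
    rw [o.ker, Subtype.ext_iff, Subtype.ext_iff, Subtype.ext_iff, Subtype.ext_iff]
    rfl
  have ht01 : t0 ≠ 1 := fun h => d.t_ne (congrArg (fun x : C => ((x : M) : G)) h)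
  have hcM : d.c ∈ M := (hMK d.cK).2 (by
    rw [show d.cK = Subgroup.inclusion d.NZt_le_K ⟨d.c, d.L_le_NZt d.c_mem⟩ from rfl, o.spec,
      SymEightThree.sign_emb8, o.s.sign_snd, show (o.s.theta ⟨d.c, d.L_le_NZt d.c_mem⟩).1 = 1 from
        o.s.sig3_M1 (o.s.L_le_M1 d.c_mem), map_one, one_mul]
    exact d.L_even ⟨d.c, d.c_mem⟩)
  have hcov : Cfsg.IsNonsplitDoubleCover C (alternatingGroup (Fin 8)) :=
    cover_of_surj center_A8 f hf ht01 hker (fun x => Subtype.ext (Subtype.ext (congrArg Subtype.val (mem_centralizer_one.1 x.2))))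
      (c := ⟨⟨d.c, hcM⟩, mem_centralizer_one.2 (Subtype.ext (d.L_t _ d.c_mem))⟩) (Subtype.ext (Subtype.ext d.c_sq))
  have hnot : C ⊔ Cfsg.oddCore M ≠ ⊤ := by
    intro h
    refine d.not_cover ((Cfsg.oddCore M).map M.subtype) ?_ fun x hx => ?_
    · rw [Subgroup.card_map_of_injective M.subtype_injective]
      exact ExtLayer.oddCore_odd
    · obtain ⟨a, ha, b, hb, hab⟩ := Subgroup.mem_sup_of_normal_right.1
        (h ▸ Subgroup.mem_top (⟨x, d.odd_mem hMi hx⟩ : M))
      rw [show x = ((a : M) : G) * (b : G) from (congrArg Subtype.val hab).symm]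
      exact Subgroup.mul_mem_sup (hCK ⟨a, ha⟩) ⟨b, hb, rfl⟩
  obtain ⟨e⟩ := (hL M tM (orderOf_eq_prime (hp := ⟨Nat.prime_two⟩) (Subtype.ext (by rw [pow_two]; exact d.t_sq))
    (fun h => d.t_ne (congrArg Subtype.val h))) hcov).resolve_left hnot
  have hnc : ¬ ∀ u : M, u * tM = tM * u := fun h => hnot (eq_top_iff.2 fun u _ =>
    Subgroup.mem_sup_left (mem_centralizer_one.2 (h u)))
  -- elements centralizing `M` are trivial
  have hcent : ∀ g : G, (∀ u : M, g * u = u * g) → g = 1 := by
    intro g hg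
    have hgK : g ∈ d.K := mem_centralizer_one.2 (hg tM)
    have h1 : o.q ⟨g, hgK⟩ = 1 := eq_one_of_commute_alt _ fun τ hτ => by
      obtain ⟨k, rfl⟩ := o.surj τ
      rw [← map_mul, ← map_mul]
      exact congrArg o.q (Subtype.ext (hg ⟨k, (hMK k).2 (Perm.mem_alternatingGroup.1 hτ)⟩))
    rcases (o.ker _).1 h1 with h | h
    · exact h
    · refine absurd (fun u : M => Subtype.ext ?_) hnc
      have := (hg u).symm
      rwa [show g = d.t from h] at this
  haveI : Finite Cfsg.Spor.McL := Finite.of_equiv M e.toEquiv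
  have hcenter : Function.Injective (MulAut.conj : Cfsg.Spor.McL →* MulAut Cfsg.Spor.McL) := by
    refine (injective_iff_map_eq_one _).2 fun a ha => ?_
    have hu : ∀ v : M, ((e.symm a : M) : G) * v = v * ((e.symm a : M) : G) := fun v => by
      have := DFunLike.congr_fun ha (e v)
      rw [MulAut.conj_apply, MulAut.one_apply, mul_inv_eq_iff_eq_mul] at this
      have h2 := congrArg e.symm this
      rw [map_mul, map_mul, MulEquiv.symm_apply_apply] at h2
      exact congrArg Subtype.val h2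
    have : e.symm a = 1 := Subtype.ext (hcent _ hu)
    simpa using congrArg e this
  have haut : Nat.card (MulAut Cfsg.Spor.McL) = 2 * Nat.card M := by
    rw [Subgroup.card_eq_card_quotient_mul_card_subgroup (Cfsg.Inn Cfsg.Spor.McL)]
    have h2 : Nat.card (Cfsg.Out Cfsg.Spor.McL) = 2 := Cfsg.Agent.S2073.result
    rw [show Nat.card (MulAut Cfsg.Spor.McL ⧸ Cfsg.Inn Cfsg.Spor.McL) = 2 from h2,
      ← Nat.card_congr (MonoidHom.ofInjective hcenter).toEquiv, Nat.card_congr e.toEquiv]
  let φ : G →* MulAut Cfsg.Spor.McL := (MulAut.congr e).toMonoidHom.comp MulAut.conjNormal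
  have hφ : Function.Injective φ := by
    refine (injective_iff_map_eq_one φ).2 fun g hg => hcent g fun u => ?_
    have h := DFunLike.congr_fun hg (e u)
    have hval : φ g (e u) = e (MulAut.conjNormal g u) := by simp [φ, MulAut.congr]
    rw [hval, MulAut.one_apply] at h
    have h2 := congrArg Subtype.val (e.injective h)
    rw [MulAut.conjNormal_apply, mul_inv_eq_iff_eq_mul] at h2
    exact h2
  have hcard : Nat.card G = Nat.card (MulAut Cfsg.Spor.McL) := by
    rw [haut, ← Subgroup.card_mul_index M, hMi, mul_comm]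
  exact ⟨MulEquiv.ofBijective φ ((Nat.bijective_iff_injective_and_card φ).2 ⟨hφ, hcard⟩)⟩

/-- The recognition from the configuration. -/
theorem Pair.conclusion {G : Type u} [Group G] [Finite G] (d : Pair G) (hL : McLCentralizer.{u}) (hzw : d.ZW) :
    Nonempty (G ≃* Cfsg.Spor.McL) ∨ Nonempty (G ≃* MulAut Cfsg.Spor.McL) := by
  by_cases ho : d.Outer
  · obtain ⟨o⟩ := d.nonempty_oct ho hzw
    exact Or.inr (d.outer_case hL o)
  · exact Or.inl (d.inner_case hL ho hzw)

end Cfsg.Agent.McLThree
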