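/-
The generalized Fitting subgroup of `McL` and of its automorphism group.
-/
import Cfsg.Agent.Lib.McLThree.Final
import Cfsg.Agent.Lib.ONanLines.FStar
import Cfsg.Agent.Lib.OutCert.McL
import Cfsg.Agent.Lib.Leech.McLSimple

set_option autoImplicit false
set_option maxRecDepth 100000
set_option linter.style.longLine false
set_option linter.style.haveILetI false

namespace Cfsg.Agent.McLThree

theorem finite_mcl : Finite Cfsg.Spor.McL ∧ Nat.card Cfsg.Spor.McL = 898128000 := by
  obtain ⟨j⟩ := OutCert.nonempty_mclEquiv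
  have h : Nat.card Cfsg.Spor.McL = 898128000 := by rw [Nat.card_congr j.toEquiv, Leech.natCard_mclGroup]
  exact ⟨Nat.finite_of_card_ne_zero (by rw [h]; norm_num), h⟩

theorem simple_mcl : IsSimpleGroup Cfsg.Spor.McL ∧ ¬ IsMulCommutative Cfsg.Spor.McL := by
  obtain ⟨j⟩ := OutCert.nonempty_mclEquiv
  haveI := Leech.isSimpleGroup_mclGroup
  obtain ⟨hfin, hcard⟩ := finite_mcl
  haveI : IsSimpleGroup Cfsg.Spor.McL := j.isSimpleGroup
  refine ⟨inferInstance, fun h => ?_⟩
  haveI := Fact.mk Nat.prime_two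
  obtain ⟨x, hx⟩ := exists_prime_orderOf_dvd_card' (G := Cfsg.Spor.McL) 2 (by rw [hcard]; norm_num)
  haveI : (Subgroup.zpowers x).Normal :=
    ⟨fun v hv g => by rwa [h.is_comm.comm g v, mul_inv_cancel_right]⟩
  rcases Subgroup.Normal.eq_bot_or_eq_top (H := Subgroup.zpowers x) inferInstance with e | e
  · have h2 := Nat.card_zpowers x
    rw [hx, e, Subgroup.card_bot] at h2
    norm_num at h2
  · have h2 := Nat.card_zpowers x
    rw [hx, e, Subgroup.card_top, hcard] at h2
    norm_num at h2

/-- The generalized Fitting subgroup in both conclusions of the recognition. -/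
theorem isoMcL_genFitting {G : Type*} [Group G] [Finite G]
    (hG : Nonempty (G ≃* Cfsg.Spor.McL) ∨ Nonempty (G ≃* MulAut Cfsg.Spor.McL)) :
    Cfsg.Spor.IsoMcL ↥(Cfsg.generalizedFittingSubgroup G) := by
  obtain ⟨hsimple, hna⟩ := simple_mcl
  haveI := hsimple
  haveI := finite_mcl.1
  rcases hG with ⟨⟨e⟩⟩ | ⟨⟨e⟩⟩
  · have htop : Cfsg.generalizedFittingSubgroup Cfsg.Spor.McL = ⊤ := by
      haveI : IsSimpleGroup ↥(⊤ : Subgroup Cfsg.Spor.McL) := Subgroup.topEquiv.isSimpleGroup
      refine ONanLines.genFitting_eq_of_simple ⊤ (fun h => hna ⟨⟨fun a b => ?_⟩⟩) ?_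
      · exact congrArg Subtype.val (h.is_comm.comm ⟨a, trivial⟩ ⟨b, trivial⟩)
      · rw [Subgroup.coe_top, Subgroup.centralizer_univ]
        exact (Subgroup.Normal.eq_bot_or_eq_top inferInstance).resolve_right
          fun h => hna (Subgroup.center_eq_top_iff.mp h)
    refine ⟨(e.subgroupMap _).trans ((MulEquiv.subgroupCongr ?_).trans Subgroup.topEquiv)⟩
    exact (Components.genFitting_map_equiv e).trans htop
  · have hinj : Function.Injective (MulAut.conj : Cfsg.Spor.McL →* MulAut Cfsg.Spor.McL) := by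
      rw [← MonoidHom.ker_eq_bot_iff]
      refine (Subgroup.Normal.eq_bot_or_eq_top inferInstance).resolve_right fun h => hna ⟨⟨fun a b => ?_⟩⟩
      have h1 : MulAut.conj a = 1 := (h ▸ Subgroup.mem_top a : a ∈ MonoidHom.ker MulAut.conj)
      have h2 := DFunLike.congr_fun h1 b
      rw [MulAut.conj_apply, MulAut.one_apply, mul_inv_eq_iff_eq_mul] at h2
      exact h2
    set I := Cfsg.Inn Cfsg.Spor.McL
    let j : Cfsg.Spor.McL ≃* I := MonoidHom.ofInjective hinj
    haveI : IsSimpleGroup I := j.symm.isSimpleGroup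
    have hF : Cfsg.generalizedFittingSubgroup (MulAut Cfsg.Spor.McL) = I := by
      refine ONanLines.genFitting_eq_of_simple I (fun h => hna ⟨⟨fun a b => j.injective ?_⟩⟩) ?_
      · rw [map_mul, map_mul]; exact h.is_comm.comm _ _
      · refine (Subgroup.eq_bot_iff_forall _).2 fun φ hφ => MulEquiv.ext fun a => hinj (MulEquiv.ext fun b => ?_)
        have h1 := DFunLike.congr_fun (Subgroup.mem_centralizer_iff.1 hφ (MulAut.conj a) ⟨a, rfl⟩) (φ⁻¹ b)
        simp only [MulAut.mul_apply, MulAut.conj_apply, MulAut.one_apply, map_mul, map_inv,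
          MulAut.apply_inv_self] at h1 ⊢
        exact h1.symm
    refine ⟨(e.subgroupMap _).trans ((MulEquiv.subgroupCongr ?_).trans j.symm)⟩
    exact (Components.genFitting_map_equiv e).trans hF

end Cfsg.Agent.McLThree
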