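/-
Groups with a self-centralizing normal subgroup `SL(2,5)`: their three-elements.
-/
import Cfsg.Agent.Lib.McLThree.Act

set_option autoImplicit false
set_option maxRecDepth 100000
set_option linter.style.longLine false
set_option linter.style.haveILetI false

open Equiv

namespace Cfsg.Agent.McLThree

theorem SL5_exists_three : ∃ x : SL5, x ^ 3 = 1 ∧ x ≠ 1 := by decide +kernel

variable {H : Type*} [Group H]

theorem perm5_unique {σ τ : Perm (Fin 5)}
    (h : ∀ a : alternatingGroup (Fin 5), σ * (a : Perm (Fin 5)) * σ⁻¹ = τ * (a : Perm (Fin 5)) * τ⁻¹) : σ = τ := by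
  have key : ∀ a ∈ alternatingGroup (Fin 5), (τ⁻¹ * σ) * a = a * (τ⁻¹ * σ) := fun a ha => by
    refine commute_of_conj_eq ?_
    calc τ⁻¹ * σ * a * (τ⁻¹ * σ)⁻¹ = τ⁻¹ * (σ * a * σ⁻¹) * τ := by group
      _ = a := by rw [h ⟨a, ha⟩]; group
  exact (inv_mul_eq_one.1 (centralizer_A5 _ (key _ A5_generators.1) (key _ A5_generators.2))).symm

/-- A three-element of a group with a self-centralizing normal `SL(2,5)` lies in it. -/
theorem mem_of_three_element (X : Subgroup H) [hX : X.Normal] (e : X ≃* SL5)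
    (hC : ∀ y : H, (∀ u ∈ X, y * u = u * y) → y ∈ X) {x : H} {k : ℕ} (hx : x ^ 3 ^ k = 1) : x ∈ X := by
  classical
  obtain ⟨p, hp, hpk⟩ := exists_proj_A5
  let f : X →* alternatingGroup (Fin 5) := p.comp e.toMonoidHom
  have hf : Function.Surjective f := hp.comp e.surjective
  let z0 : X := e.symm (-1)
  have hz0 : z0 * z0 = 1 := by rw [← map_mul, SL5_neg_one.1, map_one]
  have hker : ∀ u : X, f u = 1 ↔ u = 1 ∨ u = z0 := fun u => by
    show p (e u) = 1 ↔ _
    rw [hpk, MulEquiv.map_eq_one_iff]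
    exact or_congr Iff.rfl ⟨fun h => by rw [show z0 = e.symm (-1) from rfl, ← h, MulEquiv.symm_apply_apply],
      fun h => by rw [h, MulEquiv.apply_symm_apply]⟩
  have hz0c : ∀ u : X, u * z0 = z0 * u := fun u => e.injective (by
    rw [map_mul, map_mul, MulEquiv.apply_symm_apply, SL5_central])
  have hinv : ∀ u : X, u * u = 1 → u ≠ 1 → u = z0 := fun u h2 h1 => by
    rcases SL5_involution (e u) (by rw [← map_mul, h2, map_one]) with h | h
    · exact absurd ((MulEquiv.map_eq_one_iff e).1 h) h1
    · exact e.injective (h.trans (e.apply_symm_apply _).symm)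
  -- the action of an element of `H`
  let cj : H → X →* X := fun g => (MulAut.conjNormal (H := X) g).toMonoidHom
  have hcj : ∀ g u, ((cj g u : X) : H) = g * u * g⁻¹ := fun g u => MulAut.conjNormal_apply g u
  have hfix : ∀ g, cj g z0 = z0 := fun g => hinv _ (by rw [← map_mul, hz0, map_one]) fun h => by
    have h1 : z0 = 1 := (MulAut.conjNormal (H := X) g).injective (h.trans (map_one _).symm)
    exact SL5_neg_one.2 (by rw [← e.apply_symm_apply (-1), show e.symm (-1) = 1 from h1, map_one])
  have hex : ∀ g, ∃ σ : Perm (Fin 5), ∀ u : X,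
      ((f (cj g u) : alternatingGroup (Fin 5)) : Perm (Fin 5)) = σ * (f u : Perm (Fin 5)) * σ⁻¹ := by
    intro g
    have hinj : Function.Injective (cj g) := (MulAut.conjNormal (H := X) g).injective
    have hk : ∀ u, f (cj g u) = 1 ↔ f u = 1 := fun u => by
      rw [hker, hker]
      refine or_congr ⟨fun h => hinj (h.trans (map_one _).symm), fun h => by rw [h, map_one]⟩
        ⟨fun h => hinj (h.trans (hfix g).symm), fun h => by rw [h, hfix]⟩
    choose s hs using hf
    have hwd : ∀ a b : X, f a = f b → f (cj g a) = f (cj g b) := fun a b h => by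
      have : f (cj g (a⁻¹ * b)) = 1 := (hk _).2 (by rw [map_mul, map_inv, h, inv_mul_cancel])
      rwa [map_mul, map_inv, map_mul, map_inv, inv_mul_eq_one] at this
    let θ : alternatingGroup (Fin 5) →* alternatingGroup (Fin 5) := MonoidHom.mk' (fun a => f (cj g (s a)))
      fun a b => by
        rw [← map_mul, ← map_mul]
        exact hwd _ _ (by rw [map_mul, hs, hs, hs])
    have hθ : Function.Injective θ := by
      refine (injective_iff_map_eq_one θ).2 fun a ha => ?_
      rw [← hs a]
      exact (hk _).1 ha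
    obtain ⟨σ, hσ⟩ := Cfsg.Agent.AltAut.exists_conjNormal_of_threeCycle (n := 5) (by norm_num)
      (MulEquiv.ofBijective θ (Finite.injective_iff_bijective.1 hθ))
      (Cfsg.Agent.AltAut.threeCycle_of_ne_six (by norm_num) _)
    refine ⟨σ, fun u => ?_⟩
    have e' : θ (f u) = f (cj g u) := hwd _ _ (hs _)
    rw [← e', ← MulAut.conjNormal_apply, hσ]
    rfl
  choose σ hσ using hex
  have hmul : ∀ g g', σ (g * g') = σ g * σ g' := fun g g' => perm5_unique fun a => by
    obtain ⟨u, rfl⟩ := hf a
    have h1 := hσ (g * g') u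
    rw [show cj (g * g') u = cj g (cj g' u) from Subtype.ext (by rw [hcj, hcj, hcj]; group), hσ g, hσ g'] at h1
    rw [← h1, mul_inv_rev]; group
  let S : H →* Perm (Fin 5) := MonoidHom.mk' σ hmul
  have hsign : Perm.sign (σ x) = 1 := by
    have h1 : (Perm.sign (σ x)) ^ 3 ^ k = 1 := by
      rw [← map_pow, show (σ x) ^ 3 ^ k = σ (x ^ 3 ^ k) from (map_pow S x _).symm, hx,
        show σ 1 = 1 from map_one S, map_one]
    rcases Int.units_eq_one_or (Perm.sign (σ x)) with h | h
    · exact h
    · rw [h, Odd.neg_one_pow (Odd.pow (by decide))] at h1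
      exact absurd h1 (by decide)
  obtain ⟨l, hl⟩ := hf ⟨σ x, Perm.mem_alternatingGroup.2 hsign⟩
  set y := (l : H)⁻¹ * x with hy
  have hkey : ∀ u : X, cj y u = u ∨ cj y u = u * z0 := by
    intro u
    have hl' : (f l : Perm (Fin 5)) = σ x := congrArg Subtype.val hl
    have e1 : cj y u = l⁻¹ * cj x u * l := Subtype.ext (by
      rw [hcj]; simp only [Subgroup.coe_mul, Subgroup.coe_inv, hcj, hy]; group)
    have e2 : f (cj y u) = f u := Subtype.ext (by
      rw [e1, map_mul, map_mul, map_inv]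
      simp only [Subgroup.coe_mul, Subgroup.coe_inv, hσ, hl']
      group)
    have e3 : f (u⁻¹ * cj y u) = 1 := by rw [map_mul, map_inv, e2, inv_mul_cancel]
    rcases (hker _).1 e3 with h | h
    · exact Or.inl (inv_mul_eq_one.1 h).symm
    · exact Or.inr (inv_mul_eq_iff_eq_mul.1 h)
  have hyC : y ∈ X := by
    refine hC y fun u hu => ?_
    have hsq : ∀ v : X, cj y (v * v) = v * v := fun v => by
      rw [map_mul]
      rcases hkey v with h | h <;> rw [h]
      rw [(show Commute z0 v from (hz0c v).symm).mul_mul_mul_comm, hz0, mul_one]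
    obtain ⟨a, b, hab⟩ := SL5_squares (e ⟨u, hu⟩)
    have hu' : (⟨u, hu⟩ : X) = e.symm a * e.symm a * (e.symm b * e.symm b) := by
      rw [← map_mul, ← map_mul, ← map_mul, ← pow_two, ← pow_two, hab, MulEquiv.symm_apply_apply]
    have h1 : cj y ⟨u, hu⟩ = ⟨u, hu⟩ := by rw [hu', map_mul, hsq, hsq]
    exact commute_of_conj_eq (by rw [← hcj y ⟨u, hu⟩, h1])
  have := X.mul_mem l.2 hyC
  rwa [hy, mul_inv_cancel_left] at this

/-- `SL(2,5)` is generated by its three-elements. -/
theorem SL5_three_generated (N : Subgroup SL5) [hN : N.Normal] (h : ∀ x : SL5, x ^ 3 = 1 → x ∈ N) : N = ⊤ := by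
  obtain ⟨p, hp, hpk⟩ := exists_proj_A5
  haveI : IsSimpleGroup (alternatingGroup (Fin 5)) := alternatingGroup.isSimpleGroup (by simp)
  haveI : (N.map p).Normal := Subgroup.Normal.map hN p hp
  obtain ⟨x, hx3, hx1⟩ := SL5_exists_three
  have htop : N.map p = ⊤ := (Subgroup.Normal.eq_bot_or_eq_top (H := N.map p) inferInstance).resolve_left fun e => by
    have hm : p x ∈ N.map p := ⟨x, h x hx3, rfl⟩
    rw [e, Subgroup.mem_bot, hpk] at hm
    rcases hm with h' | h'
    · exact hx1 h'
    · rw [h'] at hx3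
      exact absurd hx3 (by decide +kernel)
  have hsq : ∀ a : SL5, a ^ 2 ∈ N := fun a => by
    obtain ⟨n, hn, hna⟩ := (htop ▸ Subgroup.mem_top (p a) : p a ∈ N.map p)
    have h1 : p (n⁻¹ * a) = 1 := by rw [map_mul, map_inv, hna, inv_mul_cancel]
    rcases (hpk _).1 h1 with h' | h'
    · rw [← inv_mul_eq_one.1 h']; exact N.pow_mem hn 2
    · rw [inv_mul_eq_iff_eq_mul.1 h', (show Commute n (-1) from SL5_central n).mul_pow, pow_two (-1 : SL5),
        SL5_neg_one.1, mul_one]
      exact N.pow_mem hn 2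
  refine eq_top_iff.2 fun u _ => ?_
  obtain ⟨a, b, hab⟩ := SL5_squares u
  rw [← hab]
  exact N.mul_mem (hsq a) (hsq b)

end Cfsg.Agent.McLThree
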