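/-
The recognition of `McL` and `Aut McL` from the hypotheses of the three-local characterisation.
-/
import Cfsg.Agent.Lib.McLThree.Final
import Cfsg.Agent.Lib.McLThree.Weak.Main
import Cfsg.Agent.Lib.PReduced.Basic

set_option autoImplicit false
set_option maxRecDepth 100000
set_option linter.style.longLine false
set_option linter.style.haveILetI false

universe u

namespace Cfsg.Agent.McLThree

variable {G : Type u} [Group G] [Finite G]

theorem exists_total {X : Type*} [Group X] (L Q : Subgroup G) [(Q.subgroupOf L).Normal]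
    (e : L ⧸ Q.subgroupOf L ≃* X) : ∃ π : G → X, (∀ x ∈ L, ∀ y ∈ L, π (x * y) = π x * π y) ∧
      (∀ a, ∃ x ∈ L, π x = a) ∧ ∀ x ∈ L, π x = 1 ↔ x ∈ Q := by
  classical
  refine ⟨fun x => if h : x ∈ L then e (QuotientGroup.mk' _ ⟨x, h⟩) else 1, fun x hx y hy => ?_, fun a => ?_,
    fun x hx => ?_⟩
  · simp only [dif_pos hx, dif_pos hy, dif_pos (L.mul_mem hx hy)]
    rw [← map_mul, ← map_mul]; rfl
  · obtain ⟨⟨x, hx⟩, h⟩ := QuotientGroup.mk'_surjective (Q.subgroupOf L) (e.symm a)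
    refine ⟨x, hx, ?_⟩
    simp only [dif_pos hx]
    rw [h, MulEquiv.apply_symm_apply]
  · simp only [dif_pos hx]
    rw [MulEquiv.map_eq_one_iff, QuotientGroup.mk'_apply, QuotientGroup.eq_one_iff]
    rfl

theorem three_closure (N : Subgroup G) :
    Subgroup.closure {g : G | g ∈ N ∧ ∃ k : ℕ, orderOf g = 3 ^ k} ≤ N ∧
      (∀ g ∈ N, ∀ k : ℕ, g ^ 3 ^ k = 1 → g ∈ Subgroup.closure {g : G | g ∈ N ∧ ∃ k : ℕ, orderOf g = 3 ^ k}) ∧
      ∀ g ∈ N, ∀ x ∈ Subgroup.closure {g : G | g ∈ N ∧ ∃ k : ℕ, orderOf g = 3 ^ k},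
        g * x * g⁻¹ ∈ Subgroup.closure {g : G | g ∈ N ∧ ∃ k : ℕ, orderOf g = 3 ^ k} := by
  refine ⟨(Subgroup.closure_le _).2 fun g hg => hg.1, fun g hg k hk => ?_, fun g hg x hx => ?_⟩
  · obtain ⟨i, -, hi⟩ := (Nat.dvd_prime_pow Nat.prime_three).1 (orderOf_dvd_of_pow_eq_one hk)
    exact Subgroup.subset_closure ⟨hg, i, hi⟩
  · induction hx using Subgroup.closure_induction with
    | mem v hv =>
      refine Subgroup.subset_closure ⟨N.mul_mem (N.mul_mem hg hv.1) (N.inv_mem hg), ?_⟩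
      obtain ⟨k, hk⟩ := hv.2
      exact ⟨k, by rw [← MulAut.conj_apply, MulEquiv.orderOf_eq]; exact hk⟩
    | one => rw [mul_one, mul_inv_cancel]; exact one_mem _
    | mul a b _ _ iha ihb => rw [← conj_mul]; exact mul_mem iha ihb
    | inv a _ iha => rw [← conj_inv]; exact inv_mem iha

/-- The three-core of a centralizer as a subgroup of the whole group. -/
abbrev coreCent (x : G) : Subgroup G :=
  (Cfsg.pCore 3 (Subgroup.centralizer ({x} : Set G))).map (Subgroup.centralizer ({x} : Set G)).subtype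

theorem coreCent_spec (x : G) : IsPGroup 3 (coreCent x) ∧ (∀ r ∈ coreCent x, r * x = x * r) ∧
    ∀ g, g * x = x * g → ∀ r ∈ coreCent x, g * r * g⁻¹ ∈ coreCent x := by
  haveI := Fact.mk Nat.prime_three
  refine ⟨(PReduced.isPGroup_pCore 3).map _, ?_, ?_⟩
  · rintro _ ⟨r, -, rfl⟩; exact mem_centralizer_one.1 r.2
  · rintro g hg _ ⟨r, hr, rfl⟩
    exact ⟨⟨g, mem_centralizer_one.2 hg⟩ * r * ⟨g, mem_centralizer_one.2 hg⟩⁻¹,
      (PReduced.pCore_normal 3 _).conj_mem r hr _, rfl⟩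

/-- The recognition with the constraint only at a generator of `Z`. -/
theorem recognition_core (hL : McLCentralizer.{u})
    (S : Sylow 3 G) (Z : Subgroup G) (hZ : Z = (S : Subgroup G) ⊓ Subgroup.centralizer ((S : Subgroup G) : Set G))
    (J : Subgroup G) (hJS : J ≤ S) (hJcomm : IsMulCommutative J) (hJexp : ∀ a ∈ J, a ^ 3 = 1) (hJcard : Nat.card J = 3 ^ 4)
    (M₀ : Subgroup G) (hM₀ : M₀ = Subgroup.closure {g : G | g ∈ Subgroup.normalizer (J : Set G) ∧ ∃ k : ℕ, orderOf g = 3 ^ k})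
    (hJM : J ≤ M₀) [hJn : (J.subgroupOf M₀).Normal] (eM : M₀ ⧸ J.subgroupOf M₀ ≃* alternatingGroup (Fin 6))
    (L₀ : Subgroup G) (hL₀ : L₀ = Subgroup.closure {g : G | g ∈ Subgroup.normalizer (Z : Set G) ∧ ∃ k : ℕ, orderOf g = 3 ^ k})
    (Q : Subgroup G) (hQ : Q = (Cfsg.pCore 3 (Subgroup.normalizer (Z : Set G))).map (Subgroup.normalizer (Z : Set G)).subtype)
    (hQex : Cfsg.IsExtraspecial 3 Q) (hQcard : Nat.card Q = 3 ^ 5) (hQexp : ∀ a ∈ Q, a ^ 3 = 1)
    (hQL : Q ≤ L₀) [hQn : (Q.subgroupOf L₀).Normal] (eL : L₀ ⧸ Q.subgroupOf L₀ ≃* Matrix.SpecialLinearGroup (Fin 2) (ZMod 5))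
    (hiii : ∀ z ∈ J, z ≠ 1 → Z = Subgroup.zpowers z → Subgroup.centralizer (coreCent z : Set G) ≤ coreCent z) :
    Nonempty (G ≃* Cfsg.Spor.McL) ∨ Nonempty (G ≃* MulAut Cfsg.Spor.McL) := by
  classical
  haveI := Fact.mk Nat.prime_three
  set NJ := Subgroup.normalizer (J : Set G) with hNJ
  set NZ := Subgroup.normalizer (Z : Set G) with hNZ
  have hM := three_closure NJ
  rw [← hM₀] at hM
  obtain ⟨hMle, hM3, hMconj⟩ := hM
  have hL' := three_closure NZ
  rw [← hL₀] at hL'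
  obtain ⟨hLle, hL3, hLconj⟩ := hL'
  obtain ⟨π₆, m6, s6, k6⟩ := exists_total M₀ J eM
  obtain ⟨π₅, m5, s5, k5⟩ := exists_total L₀ Q eL
  -- `Q` and `Z`
  have hQp : IsPGroup 3 Q := IsPGroup.of_card (n := 5) hQcard
  have hQN : Q ≤ NZ := hQ ▸ Subgroup.map_subtype_le _
  have hQnorm : ∀ g ∈ NZ, ∀ q ∈ Q, g * q * g⁻¹ ∈ Q := by
    intro g hg q hq
    rw [hQ] at hq ⊢
    obtain ⟨v, hv, rfl⟩ := hq
    exact ⟨⟨g, hg⟩ * v * ⟨g, hg⟩⁻¹, (PReduced.pCore_normal 3 _).conj_mem v hv _, rfl⟩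
  have hleQ : ∀ U : Subgroup G, IsPGroup 3 U → U ≤ NZ → (∀ g ∈ NZ, ∀ u ∈ U, g * u * g⁻¹ ∈ U) → U ≤ Q := by
    intro U hUp hUN hUn u hu
    rw [hQ]
    refine ⟨⟨u, hUN hu⟩, PReduced.le_pCore (N := U.subgroupOf NZ) ⟨fun v hv g => hUn g g.2 v hv⟩
      ((hUp.of_equiv (Subgroup.subgroupOfEquivOfLe hUN).symm)) hu, rfl⟩
  have hZmem : ∀ g, g ∈ Z ↔ g ∈ (S : Subgroup G) ∧ ∀ s ∈ (S : Subgroup G), g * s = s * g := by
    intro g
    rw [hZ, Subgroup.mem_inf, Subgroup.mem_centralizer_iff]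
    exact and_congr_right fun _ => ⟨fun h s hs => (h s hs).symm, fun h s hs => (h s hs).symm⟩
  have hZS : Z ≤ (S : Subgroup G) := fun g hg => ((hZmem g).1 hg).1
  have hZN : Z ≤ NZ := Subgroup.le_normalizer
  have hZQ : Z ≤ Q := hleQ Z (S.isPGroup'.to_le hZS) hZN fun g hg u hu => (Subgroup.mem_normalizer_iff.1 hg u).1 hu
  have hSN : (S : Subgroup G) ≤ NZ := fun s hs => Subgroup.mem_normalizer_fintype fun v hv => by
    rw [conj_eq_of_commute (((hZmem v).1 hv).2 s hs).symm]; exact hv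
  have hQS : Q ≤ (S : Subgroup G) := by
    let S' : Sylow 3 NZ := S.subtype hSN
    intro q hq
    rw [hQ] at hq
    obtain ⟨v, hv, rfl⟩ := hq
    exact PReduced.pCore_le_sylow S' hv
  have hZcen : ∀ v ∈ Z, ∀ q ∈ Q, v * q = q * v := fun v hv q hq => ((hZmem v).1 hv).2 q (hQS hq)
  obtain ⟨z, hzZ, hz1⟩ : ∃ z ∈ Z, z ≠ 1 := by
    haveI : Nontrivial (S : Subgroup G) := by
      refine (Subgroup.nontrivial_iff_ne_bot _).2 fun h => ?_
      have := Subgroup.card_dvd_of_le hJS
      rw [hJcard, h, Subgroup.card_bot] at this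
      norm_num at this
    haveI := S.isPGroup'.center_nontrivial
    obtain ⟨⟨⟨v, hv⟩, hvc⟩, hv1⟩ := exists_ne (1 : Subgroup.center (S : Subgroup G))
    refine ⟨v, (hZmem v).2 ⟨hv, fun s hs => (congrArg Subtype.val (Subgroup.mem_center_iff.1 hvc ⟨s, hs⟩)).symm⟩,
      fun h => hv1 (Subtype.ext (Subtype.ext h))⟩
  have hz3 : z ^ 3 = 1 := hQexp z (hZQ hzZ)
  have hcenQ : ∀ v, ∀ hv : v ∈ Q, (∀ q ∈ Q, v * q = q * v) → v ∈ Subgroup.zpowers z := by
    intro v hv hvc
    have hzc : (⟨z, hZQ hzZ⟩ : Q) ∈ Subgroup.center Q :=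
      Subgroup.mem_center_iff.2 fun q => Subtype.ext (hZcen z hzZ q q.2).symm
    have hle : Subgroup.zpowers (⟨z, hZQ hzZ⟩ : Q) ≤ Subgroup.center Q := Subgroup.zpowers_le.2 hzc
    have he := Subgroup.eq_of_le_of_card_ge hle (by
      rw [hQex.2, Nat.card_zpowers, orderOf_eq_prime (p := 3) (Subtype.ext hz3) (fun h => hz1 (congrArg Subtype.val h))])
    have hvc' : (⟨v, hv⟩ : Q) ∈ Subgroup.zpowers (⟨z, hZQ hzZ⟩ : Q) :=
      he ▸ Subgroup.mem_center_iff.2 fun q => Subtype.ext (hvc q q.2).symm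
    obtain ⟨k, hk⟩ := Subgroup.mem_zpowers_iff.1 hvc'
    exact Subgroup.mem_zpowers_iff.2 ⟨k, congrArg Subtype.val hk⟩
  have hZz : Z = Subgroup.zpowers z :=
    le_antisymm (fun v hv => hcenQ v (hZQ hv) (hZcen v hv)) (Subgroup.zpowers_le.2 hzZ)
  have hNZz : NZ = Subgroup.normalizer (Subgroup.zpowers z : Set G) := by rw [hNZ, hZz]
  -- `Z ≤ J`
  have hJab : ∀ a ∈ J, ∀ b ∈ J, a * b = b * a := fun a ha b hb =>
    congrArg Subtype.val (hJcomm.is_comm.comm ⟨a, ha⟩ ⟨b, hb⟩)
  have hQcomm : ∀ a ∈ Q, ∀ b ∈ Q, a * b * a⁻¹ * b⁻¹ ∈ Subgroup.zpowers z := by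
    intro a ha b hb
    refine hcenQ _ (Q.mul_mem (Q.mul_mem (Q.mul_mem ha hb) (Q.inv_mem ha)) (Q.inv_mem hb)) fun q hq => ?_
    have h := Subgroup.commutator_mem_commutator (Subgroup.mem_top (⟨a, ha⟩ : Q)) (Subgroup.mem_top (⟨b, hb⟩ : Q))
    rw [← _root_.commutator_def, hQex.1.2.2] at h
    exact (congrArg Subtype.val (Subgroup.mem_center_iff.1 h ⟨q, hq⟩)).symm
  have hzJ : z ∈ J := by
    by_contra hzJ
    have hS : Nat.card (S : Subgroup G) ≤ 729 := by
      have hSL : (S : Subgroup G) ≤ L₀ := fun s hs => by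
        obtain ⟨k, hk⟩ := Data.three_pow_of_mem S.isPGroup' hs
        exact hL3 s (hSN hs) k hk
      have hLcard : Nat.card L₀ = 120 * 243 := by
        rw [Subgroup.card_eq_card_quotient_mul_card_subgroup (Q.subgroupOf L₀), Nat.card_congr eL.toEquiv,
          Nat.card_congr (Subgroup.subgroupOfEquivOfLe hQL).toEquiv, hQcard, Nat.card_eq_fintype_card]
        rw [show Fintype.card (Matrix.SpecialLinearGroup (Fin 2) (ZMod 5)) = 120 from card_SL5]
        norm_num
      obtain ⟨i, hi⟩ := IsPGroup.iff_card.1 S.isPGroup'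
      have hdvd := Subgroup.card_dvd_of_le hSL
      rw [hi, hLcard] at hdvd
      rw [hi]
      have h7 : i ≤ 6 := by
        by_contra h7
        have : 3 ^ 7 ∣ 120 * 243 := (Nat.pow_dvd_pow 3 (by omega : 7 ≤ i)).trans hdvd
        norm_num at this
      exact (Nat.pow_le_pow_right (by norm_num) h7).trans (by norm_num)
    have hI : 27 ≤ Nat.card (J ⊓ Q : Subgroup G) := by
      have h := card_mul_le hJS hQS
      rw [hJcard, hQcard] at h
      have h' := h.trans (Nat.mul_le_mul_right _ hS)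
      norm_num at h' ⊢
      omega
    set A := (J ⊓ Q) ⊔ Subgroup.zpowers z with hA
    have hzQ : Subgroup.zpowers z ≤ Q := Subgroup.zpowers_le.2 (hZQ hzZ)
    have hAQ : A ≤ Q := sup_le inf_le_right hzQ
    have hAcomm : ∀ a ∈ A, ∀ b ∈ A, a * b = b * a := by
      have h1 : ∀ a ∈ A, ∀ b ∈ J ⊓ Q, a * b = b * a := by
        intro a ha b hb
        have : A ≤ Subgroup.centralizer ({b} : Set G) := sup_le
          (fun u hu => mem_centralizer_one.2 (congrArg Subtype.val (hJcomm.is_comm.comm ⟨u, hu.1⟩ ⟨b, hb.1⟩)))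
          (Subgroup.zpowers_le.2 (mem_centralizer_one.2 (hZcen z hzZ b hb.2)))
        exact mem_centralizer_one.1 (this ha)
      intro a ha b hb
      have : A ≤ Subgroup.centralizer ({a} : Set G) := sup_le
        (fun u hu => mem_centralizer_one.2 (h1 a ha u hu).symm)
        (Subgroup.zpowers_le.2 (mem_centralizer_one.2 (hZcen z hzZ a (hAQ ha))))
      exact (mem_centralizer_one.1 (this hb)).symm
    have hA81 : 81 ≤ Nat.card A := by
      obtain ⟨i, -, hi⟩ := card_three_dvd_pow Nat.prime_three hQcard hAQ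
      have hlt : 27 < Nat.card A := by
        refine lt_of_le_of_ne (hI.trans (Subgroup.card_le_of_le le_sup_left)) fun e => hzJ ?_
        have heq := Subgroup.eq_of_le_of_card_ge (le_sup_left : J ⊓ Q ≤ A) (e ▸ hI)
        have h' : z ∈ A := Subgroup.mem_sup_right (Subgroup.mem_zpowers z)
        exact (show z ∈ J ⊓ Q by rw [heq]; exact h').1
      rw [hi] at hlt ⊢
      have h4 : 4 ≤ i := by
        by_contra h
        exact absurd ((Nat.pow_le_pow_right (show 3 > 0 by norm_num) (show i ≤ 3 by omega)).trans_lt'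
          hlt) (by norm_num)
      exact (show 81 = 3 ^ 4 from rfl).le.trans (Nat.pow_le_pow_right (by norm_num) h4)
    have hz3' : Nat.card (Subgroup.zpowers z) ≤ 3 := by
      rw [Nat.card_zpowers]; exact orderOf_le_of_pow_eq_one (by norm_num) hz3
    obtain ⟨a, haQ, haA⟩ : ∃ a ∈ Q, a ∉ A := by
      by_contra h
      push Not at h
      have := (Subgroup.card_le_of_le
        fun v hv => hcenQ v hv fun q hq => hAcomm v (h v hv) q (h q hq)).trans hz3'
      rw [hQcard] at this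
      norm_num at this
    let f : A →* Subgroup.zpowers z :=
      MonoidHom.mk' (fun x => ⟨a * x * a⁻¹ * (x : G)⁻¹, hQcomm a haQ x (hAQ x.2)⟩) fun x y => Subtype.ext (by
        show a * ((x : G) * y) * a⁻¹ * ((x : G) * y)⁻¹ = a * x * a⁻¹ * (x : G)⁻¹ * (a * y * a⁻¹ * (y : G)⁻¹)
        have hc : (x : G)⁻¹ * (a * y * a⁻¹ * (y : G)⁻¹) = a * y * a⁻¹ * (y : G)⁻¹ * (x : G)⁻¹ :=
          hAcomm _ (A.inv_mem x.2) _ ((le_sup_right : _ ≤ A) (hQcomm a haQ y (hAQ y.2)))
        rw [mul_assoc (a * (x : G) * a⁻¹) (x : G)⁻¹, hc]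
        group)
    have hker : Nat.card f.ker ≤ 3 := by
      have hlt : (A : Subgroup G) < A ⊔ Subgroup.zpowers a :=
        lt_of_le_of_ne le_sup_left fun e => haA (e.symm ▸ Subgroup.mem_sup_right (Subgroup.mem_zpowers a))
      have hAa : A ⊔ Subgroup.zpowers a = Q := by
        refine Subgroup.eq_of_le_of_card_ge (sup_le hAQ (Subgroup.zpowers_le.2 haQ)) ?_
        obtain ⟨i, -, hi⟩ := card_three_dvd_pow Nat.prime_three hQcard (sup_le hAQ (Subgroup.zpowers_le.2 haQ))
        have hgt : 81 < 3 ^ i := by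
          rw [← hi]
          refine lt_of_le_of_ne (hA81.trans (Subgroup.card_le_of_le le_sup_left)) fun e => hlt.ne ?_
          exact Subgroup.eq_of_le_of_card_ge le_sup_left (e ▸ hA81)
        have h5 : 5 ≤ i := by
          by_contra h
          exact absurd ((Nat.pow_le_pow_right (show 3 > 0 by norm_num) (show i ≤ 4 by omega)).trans_lt'
            hgt) (by norm_num)
        rw [hi, hQcard]
        exact Nat.pow_le_pow_right (by norm_num) h5
      refine le_trans (Nat.card_le_card_of_injective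
        (fun x : f.ker => (⟨((x : A) : G), hcenQ _ (hAQ (x : A).2) fun q hq => ?_⟩ : Subgroup.zpowers z))
        fun x y h => Subtype.ext (Subtype.ext (congrArg Subtype.val h :))) hz3'
      have hx : a * ((x : A) : G) * a⁻¹ = ((x : A) : G) :=
        mul_inv_eq_one.1 (congrArg Subtype.val (MonoidHom.mem_ker.1 x.2) :)
      have hle : A ⊔ Subgroup.zpowers a ≤ Subgroup.centralizer ({((x : A) : G)} : Set G) :=
        sup_le (fun u hu => mem_centralizer_one.2 (hAcomm u hu _ (x : A).2))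
          (Subgroup.zpowers_le.2 (mem_centralizer_one.2 (commute_of_conj_eq hx)))
      rw [hAa] at hle
      exact (mem_centralizer_one.1 (hle hq)).symm
    have h := Subgroup.card_eq_card_quotient_mul_card_subgroup f.ker
    rw [Nat.card_congr (QuotientGroup.quotientKerEquivRange f).toEquiv] at h
    have h' := h.le.trans (Nat.mul_le_mul ((Subgroup.card_le_card_group f.range).trans hz3') hker)
    omega
  have hcentQ : ∀ g : G, (∀ q ∈ Q, g * q = q * g) → g ∈ Q := by
    intro g hg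
    obtain ⟨hRp, hRx, hRn⟩ := coreCent_spec z
    have hCN : Subgroup.centralizer ({z} : Set G) ≤ NZ := fun a ha => Subgroup.mem_normalizer_fintype fun v hv => by
      rw [hZz] at hv
      obtain ⟨k, rfl⟩ := Subgroup.mem_zpowers_iff.1 hv
      rw [conj_eq_of_commute ((show Commute a z from mem_centralizer_one.1 ha).zpow_right k).eq]
      rw [hZz]; exact zpow_mem (Subgroup.mem_zpowers z) k
    have hconjR : ∀ a ∈ NZ, ∀ r ∈ coreCent z, a * r * a⁻¹ ∈ coreCent z := by
      intro a ha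
      let C := (Subgroup.centralizer ({z} : Set G)).subgroupOf NZ
      haveI : C.Normal := ⟨fun c hc b => by
        refine Subgroup.mem_subgroupOf.2 (mem_centralizer_one.2 ?_)
        have hb : (b : G)⁻¹ * z * b ∈ Z := by
          have := (Subgroup.mem_normalizer_iff.1 (inv_mem b.2) z).1 hzZ
          rwa [inv_inv] at this
        rw [hZz] at hb
        obtain ⟨k, hk⟩ := Subgroup.mem_zpowers_iff.1 hb
        have h1 : (c : G) * ((b : G)⁻¹ * z * b) = (b : G)⁻¹ * z * b * c :=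
          hk ▸ ((show Commute (c : G) z from mem_centralizer_one.1 (Subgroup.mem_subgroupOf.1 hc)).zpow_right k).eq
        simp only [Subgroup.coe_mul, Subgroup.coe_inv]
        calc (b : G) * c * (b : G)⁻¹ * z = (b : G) * ((c : G) * ((b : G)⁻¹ * z * b)) * (b : G)⁻¹ := by group
          _ = _ := by rw [h1]; group⟩
      let R' := (coreCent z).subgroupOf NZ
      have hR'p : IsPGroup 3 R' := hRp.of_equiv (Subgroup.subgroupOfEquivOfLe
        ((Subgroup.map_subtype_le _).trans hCN)).symm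
      intro r hr
      -- the conjugate is again a normal three-subgroup of the centralizer
      have haz : a⁻¹ * z * a ∈ Subgroup.zpowers z := by
        have := (Subgroup.mem_normalizer_iff.1 (inv_mem ha) z).1 hzZ
        rwa [inv_inv, hZz] at this
      have hmap : (coreCent z).map (MulAut.conj a).toMonoidHom ≤ coreCent z := by
        have hle : (coreCent z).map (MulAut.conj a).toMonoidHom ≤ Subgroup.centralizer ({z} : Set G) := by
          rintro _ ⟨v, hv, rfl⟩
          obtain ⟨k, hk⟩ := Subgroup.mem_zpowers_iff.1 haz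
          have h1 : v * (a⁻¹ * z * a) = a⁻¹ * z * a * v := hk ▸ ((show Commute v z from hRx v hv).zpow_right k).eq
          refine mem_centralizer_one.2 ?_
          show a * v * a⁻¹ * z = z * (a * v * a⁻¹)
          calc a * v * a⁻¹ * z = a * (v * (a⁻¹ * z * a)) * a⁻¹ := by group
            _ = _ := by rw [h1]; group
        intro v hv
        refine ⟨⟨v, hle hv⟩, PReduced.le_pCore (N := ((coreCent z).map (MulAut.conj a).toMonoidHom).subgroupOf
          (Subgroup.centralizer ({z} : Set G))) ⟨?_⟩ ((hRp.map _).of_equiv (Subgroup.subgroupOfEquivOfLe hle).symm) hv, rfl⟩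
        rintro ⟨_, _⟩ ⟨w, hw, rfl⟩ b
        have hbc : a⁻¹ * (b : G) * a * z = z * (a⁻¹ * (b : G) * a) := by
          have hza : a * z * a⁻¹ ∈ Subgroup.zpowers z := by
            have := (Subgroup.mem_normalizer_iff.1 ha z).1 hzZ
            rwa [hZz] at this
          obtain ⟨k, hk⟩ := Subgroup.mem_zpowers_iff.1 hza
          have h1 : (b : G) * (a * z * a⁻¹) = a * z * a⁻¹ * b :=
            hk ▸ ((show Commute (b : G) z from mem_centralizer_one.1 b.2).zpow_right k).eq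
          calc a⁻¹ * (b : G) * a * z = a⁻¹ * ((b : G) * (a * z * a⁻¹)) * a := by group
            _ = _ := by rw [h1]; group
        refine Subgroup.mem_subgroupOf.2 ⟨_, hRn _ hbc w hw, ?_⟩
        show a * (a⁻¹ * (b : G) * a * w * (a⁻¹ * (b : G) * a)⁻¹) * a⁻¹ = (b : G) * (a * w * a⁻¹) * (b : G)⁻¹
        group
      exact hmap ⟨r, hr, rfl⟩
    have hRQ : coreCent z ≤ Q := hleQ _ hRp ((Subgroup.map_subtype_le _).trans hCN) hconjR
    exact hRQ (hiii z hzJ hz1 hZz (Subgroup.mem_centralizer_iff.2 fun r hr => (hg r (hRQ hr)).symm))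
  have hLz : ∀ x ∈ L₀, x * z = z * x := by
    intro x hx
    rw [hL₀] at hx
    induction hx using Subgroup.closure_induction with
    | mem v hv =>
      obtain ⟨hvN, k, hk⟩ := hv
      have hvz : v * z * v⁻¹ ∈ Subgroup.zpowers z := hZz ▸ (Subgroup.mem_normalizer_iff.1 hvN z).1 hzZ
      have hodd : Odd (orderOf v) := hk ▸ Odd.pow (by decide)
      obtain ⟨m, hm⟩ := hodd
      have h2 : Commute (v * v) z := by
        refine commute_of_conj_eq ?_
        calc v * v * z * (v * v)⁻¹ = v * (v * z * v⁻¹) * v⁻¹ := by group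
          _ = z := by
            rcases three_cases hz3 hvz with e | e | e
            · exact absurd (conj_eq_one_iff.1 e) hz1
            · rw [e, e]
            · rw [e, ← conj_inv, e, inv_inv]
      have hv' : v = (v * v) ^ (m + 1) := by
        rw [← pow_two, ← pow_mul, show 2 * (m + 1) = orderOf v + 1 by omega, pow_succ, pow_orderOf_eq_one, one_mul]
      rw [hv']
      exact (h2.pow_left _).eq
    | one => rw [one_mul, mul_one]
    | mul a b _ _ iha ihb => exact ((show Commute a z from iha).mul_left ihb).eq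
    | inv a _ iha => exact (show Commute a z from iha).inv_left.eq
  let D : Data G :=
    { z := z, S := S, Q := Q, L₀ := L₀, J := J, M₀ := M₀, π₅ := π₅, π₆ := π₆
      z_ne := hz1
      z_cube := hz3
      center_S := fun g => by rw [← hZz, hZmem]
      J_le := hJS
      J_comm := hJab
      J_exp := hJexp
      J_card := hJcard
      J_le_M₀ := hJM
      M₀_le := hMle
      three_mem_M₀ := hM3
      M₀_conj := hMconj
      map₆ := m6, surj₆ := s6, ker₆ := k6
      Q_card := hQcard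
      Q_exp := hQexp
      z_mem_Q := hZQ hzZ
      Q_comm := hQcomm
      Q_center := fun a ha h => hcenQ a ha h
      Q_conj := hNZz ▸ hQnorm
      cent_Q := hcentQ
      Q_le_L₀ := hQL
      L₀_le := hNZz ▸ hLle
      three_mem_L₀ := hNZz ▸ hL3
      L₀_conj := hNZz ▸ hLconj
      L₀_cent := hLz
      map₅ := m5, surj₅ := s5, ker₅ := k5 }
  obtain ⟨b⟩ := D.nonempty_based
  obtain ⟨fr⟩ := b.nonempty_frame
  obtain ⟨lv⟩ := fr.nonempty_level
  obtain ⟨d⟩ := lv.exists_pair
  exact d.conclusion hL d.zw_of_data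

/-- The recognition with the constraint only at the centre of the Sylow subgroup. -/
theorem recognition_weak (hL : McLCentralizer.{u})
    (S : Sylow 3 G) (Z : Subgroup G) (hZ : Z = (S : Subgroup G) ⊓ Subgroup.centralizer ((S : Subgroup G) : Set G))
    (J : Subgroup G) (hJS : J ≤ S) (hJcomm : IsMulCommutative J) (hJexp : ∀ a ∈ J, a ^ 3 = 1) (hJcard : Nat.card J = 3 ^ 4)
    (M₀ : Subgroup G) (hM₀ : M₀ = Subgroup.closure {g : G | g ∈ Subgroup.normalizer (J : Set G) ∧ ∃ k : ℕ, orderOf g = 3 ^ k})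
    (hJM : J ≤ M₀) [hJn : (J.subgroupOf M₀).Normal] (eM : M₀ ⧸ J.subgroupOf M₀ ≃* alternatingGroup (Fin 6))
    (L₀ : Subgroup G) (hL₀ : L₀ = Subgroup.closure {g : G | g ∈ Subgroup.normalizer (Z : Set G) ∧ ∃ k : ℕ, orderOf g = 3 ^ k})
    (Q : Subgroup G) (hQ : Q = (Cfsg.pCore 3 (Subgroup.normalizer (Z : Set G))).map (Subgroup.normalizer (Z : Set G)).subtype)
    (hQex : Cfsg.IsExtraspecial 3 Q) (hQcard : Nat.card Q = 3 ^ 5) (hQexp : ∀ a ∈ Q, a ^ 3 = 1)
    (hQL : Q ≤ L₀) [hQn : (Q.subgroupOf L₀).Normal] (eL : L₀ ⧸ Q.subgroupOf L₀ ≃* Matrix.SpecialLinearGroup (Fin 2) (ZMod 5))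
    (hiii : Subgroup.centralizer (((Cfsg.pCore 3 (Subgroup.centralizer (Z : Set G))).map (Subgroup.centralizer (Z : Set G)).subtype : Subgroup G) : Set G)
        ≤ (Cfsg.pCore 3 (Subgroup.centralizer (Z : Set G))).map (Subgroup.centralizer (Z : Set G)).subtype) :
    Nonempty (G ≃* Cfsg.Spor.McL) ∨ Nonempty (G ≃* MulAut Cfsg.Spor.McL) := by
  refine recognition_core hL S Z hZ J hJS hJcomm hJexp hJcard M₀ hM₀ hJM eM L₀ hL₀ Q hQ hQex hQcard hQexp hQL eL
    fun z _ _ hZz => ?_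
  have hCz : Subgroup.centralizer (Z : Set G) = Subgroup.centralizer ({z} : Set G) := by
    refine le_antisymm (Subgroup.centralizer_le (Set.singleton_subset_iff.2 (hZz ▸ Subgroup.mem_zpowers z)))
      fun v hv => ?_
    refine Subgroup.mem_centralizer_iff.2 fun u hu => ?_
    rw [hZz] at hu
    obtain ⟨k, rfl⟩ := Subgroup.mem_zpowers_iff.1 hu
    exact ((show Commute v z from mem_centralizer_one.1 hv).zpow_right k).eq.symm
  rw [hCz] at hiii
  exact hiii

/-- The recognition, from the recognition by the centralizer of an involution. -/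
theorem recognition (hL : McLCentralizer.{u})
    (S : Sylow 3 G) (Z : Subgroup G) (hZ : Z = (S : Subgroup G) ⊓ Subgroup.centralizer ((S : Subgroup G) : Set G))
    (J : Subgroup G) (hJS : J ≤ S) (hJcomm : IsMulCommutative J) (hJexp : ∀ a ∈ J, a ^ 3 = 1) (hJcard : Nat.card J = 3 ^ 4)
    (M₀ : Subgroup G) (hM₀ : M₀ = Subgroup.closure {g : G | g ∈ Subgroup.normalizer (J : Set G) ∧ ∃ k : ℕ, orderOf g = 3 ^ k})
    (hJM : J ≤ M₀) [hJn : (J.subgroupOf M₀).Normal] (eM : M₀ ⧸ J.subgroupOf M₀ ≃* alternatingGroup (Fin 6))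
    (L₀ : Subgroup G) (hL₀ : L₀ = Subgroup.closure {g : G | g ∈ Subgroup.normalizer (Z : Set G) ∧ ∃ k : ℕ, orderOf g = 3 ^ k})
    (Q : Subgroup G) (hQ : Q = (Cfsg.pCore 3 (Subgroup.normalizer (Z : Set G))).map (Subgroup.normalizer (Z : Set G)).subtype)
    (hQex : Cfsg.IsExtraspecial 3 Q) (hQcard : Nat.card Q = 3 ^ 5) (hQexp : ∀ a ∈ Q, a ^ 3 = 1)
    (hQL : Q ≤ L₀) [hQn : (Q.subgroupOf L₀).Normal] (eL : L₀ ⧸ Q.subgroupOf L₀ ≃* Matrix.SpecialLinearGroup (Fin 2) (ZMod 5))
    (hiii : ∀ x ∈ J, x ≠ 1 →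
      Subgroup.centralizer (((Cfsg.pCore 3 (Subgroup.centralizer ({x} : Set G))).map (Subgroup.centralizer ({x} : Set G)).subtype : Subgroup G) : Set G)
        ≤ (Cfsg.pCore 3 (Subgroup.centralizer ({x} : Set G))).map (Subgroup.centralizer ({x} : Set G)).subtype) :
    Nonempty (G ≃* Cfsg.Spor.McL) ∨ Nonempty (G ≃* MulAut Cfsg.Spor.McL) := by
  exact recognition_core hL S Z hZ J hJS hJcomm hJexp hJcard M₀ hM₀ hJM eM L₀ hL₀ Q hQ hQex hQcard hQexp hQL eL
    fun z hz hz1 _ => hiii z hz hz1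

end Cfsg.Agent.McLThree
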