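/-
The data from the generalized Fitting subgroups of two three-local subgroups.
-/
import Cfsg.Agent.Lib.McLThree.Setup
import Cfsg.Agent.Lib.McLThree.Sect
import Cfsg.Agent.Lib.Components.GenFitting

set_option autoImplicit false
set_option maxRecDepth 100000
set_option synthInstance.maxSize 4000
set_option linter.style.longLine false
set_option linter.style.haveILetI false

universe u

namespace Cfsg.Agent.McLThree

variable {G : Type u} [Group G] [Finite G]

theorem exists_total_hom {X : Type*} [Group X] (L Q : Subgroup G) (f : L →* X) (hf : Function.Surjective f)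
    (hk : ∀ x : L, f x = 1 ↔ (x : G) ∈ Q) : ∃ π : G → X, (∀ x ∈ L, ∀ y ∈ L, π (x * y) = π x * π y) ∧
      (∀ a, ∃ x ∈ L, π x = a) ∧ ∀ x ∈ L, π x = 1 ↔ x ∈ Q := by
  classical
  refine ⟨fun x => if h : x ∈ L then f ⟨x, h⟩ else 1, fun x hx y hy => ?_, fun a => ?_, fun x hx => ?_⟩
  · simp only [dif_pos hx, dif_pos hy, dif_pos (L.mul_mem hx hy)]
    rw [← map_mul]; rfl
  · obtain ⟨⟨x, hx⟩, rfl⟩ := hf a
    exact ⟨x, hx, by simp only [dif_pos hx]⟩
  · simp only [dif_pos hx]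
    exact hk _

theorem sylow_absorbs {H : Type*} [Group H] [Finite H] {p : ℕ} [Fact p.Prime] (S : Sylow p H) (N : Subgroup H) [N.Normal]
    (hN : IsPGroup p N) : N ≤ (S : Subgroup H) :=
  le_sup_right.trans (S.is_maximal' (S.isPGroup'.to_sup_of_normal_right hN) le_sup_left).le

theorem commute_of_odd_normalize {z v : G} (hz1 : z ≠ 1) (hz3 : z ^ 3 = 1) (hv : v * z * v⁻¹ ∈ Subgroup.zpowers z)
    (hodd : Odd (orderOf v)) : v * z = z * v := by
  obtain ⟨m, hm⟩ := hodd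
  have h2 : Commute (v * v) z := by
    refine commute_of_conj_eq ?_
    calc v * v * z * (v * v)⁻¹ = v * (v * z * v⁻¹) * v⁻¹ := by group
      _ = z := by
        rcases three_cases hz3 hv with e | e | e
        · exact absurd (conj_eq_one_iff.1 e) hz1
        · rw [e, e]
        · rw [e, ← conj_inv, e, inv_inv]
  have hv' : v = (v * v) ^ (m + 1) := by
    rw [← pow_two, ← pow_mul, show 2 * (m + 1) = orderOf v + 1 by omega, pow_succ, pow_orderOf_eq_one, one_mul]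
  rw [hv']
  exact (h2.pow_left _).eq

theorem odd_order_of_three {v : G} {k : ℕ} (h : v ^ 3 ^ k = 1) : Odd (orderOf v) :=
  (Odd.pow (by decide : Odd 3)).of_dvd_nat (orderOf_dvd_of_pow_eq_one h)

/-- The data from the hypotheses on the generalized Fitting subgroups. -/
theorem nonempty_data (Z : Subgroup G) (hZ : Nat.card ↥Z = 3) (S : Sylow 3 ↥(Subgroup.centralizer (Z : Set G)))
    (J : Subgroup G)
    (hJS : J ≤ ((S : Subgroup ↥(Subgroup.centralizer (Z : Set G))).map (Subgroup.centralizer (Z : Set G)).subtype))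
    (hJ : Cfsg.IsElementaryAbelian 3 J) (hJcard : Nat.card ↥J = 3 ^ 4)
    (hQ : Cfsg.IsExtraspecial 3 ↥(Cfsg.generalizedFittingSubgroup ↥(Subgroup.centralizer (Z : Set G))))
    (hQcard : Nat.card ↥(Cfsg.generalizedFittingSubgroup ↥(Subgroup.centralizer (Z : Set G))) = 3 ^ 5)
    [hQn : (Cfsg.generalizedFittingSubgroup ↥(Subgroup.centralizer (Z : Set G))).Normal]
    (hexp : ∀ x ∈ Cfsg.generalizedFittingSubgroup ↥(Subgroup.centralizer (Z : Set G)), x ^ 3 = 1)
    (hFMQ : Nonempty (↥(Cfsg.generalizedFittingSubgroup (↥(Subgroup.centralizer (Z : Set G)) ⧸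
      Cfsg.generalizedFittingSubgroup ↥(Subgroup.centralizer (Z : Set G)))) ≃* Matrix.SpecialLinearGroup (Fin 2) (ZMod 5)))
    [hJn : (J.subgroupOf (Subgroup.normalizer (J : Set G))).Normal]
    (hA6 : Nonempty (↥(Subgroup.closure {x : ↥(Subgroup.normalizer (J : Set G)) ⧸ J.subgroupOf (Subgroup.normalizer (J : Set G)) |
      ∃ k : ℕ, orderOf x = 3 ^ k}) ≃* ↥(alternatingGroup (Fin 6)))) :
    Nonempty (Data G) := by
  classical
  haveI := Fact.mk Nat.prime_three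
  obtain ⟨eM⟩ := hA6
  obtain ⟨eX⟩ := hFMQ
  let M := Subgroup.centralizer (Z : Set G)
  set Q₀ := Cfsg.generalizedFittingSubgroup ↥M with hQ0
  set Q := Q₀.map M.subtype with hQdef
  -- `Z = ⟨z⟩`
  obtain ⟨z, hzZ, hz1⟩ : ∃ z ∈ Z, z ≠ 1 := by
    obtain ⟨z, hz, hz'⟩ := exists_notMem_of_card_lt (H := Z) (K := (⊥ : Subgroup G))
      (by rw [Subgroup.card_bot, hZ]; norm_num)
    exact ⟨z, hz, fun h => hz' (Subgroup.mem_bot.2 h)⟩
  have hz3 : z ^ 3 = 1 := by
    rw [← hZ]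
    exact orderOf_dvd_iff_pow_eq_one.1 (Subgroup.orderOf_dvd_natCard _ hzZ)
  have hord : orderOf z = 3 := orderOf_eq_prime hz3 hz1
  have hZz : Z = Subgroup.zpowers z :=
    (Subgroup.eq_of_le_of_card_ge (Subgroup.zpowers_le.2 hzZ) (by rw [hZ, Nat.card_zpowers, hord])).symm
  have hM : ∀ g, g ∈ M ↔ g * z = z * g := by
    intro g
    rw [show M = Subgroup.centralizer (Z : Set G) from rfl, Subgroup.mem_centralizer_iff]
    refine ⟨fun h => (h z hzZ).symm, fun h v hv => ?_⟩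
    rw [hZz] at hv
    obtain ⟨k, rfl⟩ := Subgroup.mem_zpowers_iff.1 hv
    exact ((show Commute g z from h).zpow_right k).eq.symm
  have hzM : z ∈ M := (hM z).2 rfl
  have hQM : Q ≤ M := Subgroup.map_subtype_le _
  have hQmem : ∀ {g}, ∀ hg : g ∈ M, (g ∈ Q ↔ (⟨g, hg⟩ : M) ∈ Q₀) := fun {g} hg =>
    ⟨fun ⟨v, hv, e⟩ => by rwa [show (⟨g, hg⟩ : M) = v from Subtype.ext e.symm], fun h => ⟨_, h, rfl⟩⟩
  have hzQ : z ∈ Q := (hQmem hzM).2 (Components.centralizer_genFitting_le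
    (Subgroup.mem_centralizer_iff.2 fun q _ => Subtype.ext ((hM q).1 q.2)))
  have hQz : ∀ q ∈ Q, q * z = z * q := fun q hq => (hM q).1 (hQM hq)
  have hcentQ : ∀ g : G, (∀ q ∈ Q, g * q = q * g) → g ∈ Q := fun g hg =>
    (hQmem ((hM g).2 (hg z hzQ))).2 (Components.centralizer_genFitting_le
      (Subgroup.mem_centralizer_iff.2 fun q hq => Subtype.ext (hg q ⟨q, hq, rfl⟩).symm))
  have hcenQ : ∀ v ∈ Q, (∀ q ∈ Q, v * q = q * v) → v ∈ Subgroup.zpowers z := by
    intro v hv hvc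
    have hz0 : (⟨z, hzM⟩ : M) ∈ Q₀ := (hQmem hzM).1 hzQ
    have hv0 : (⟨v, hQM hv⟩ : M) ∈ Q₀ := (hQmem _).1 hv
    let z0 : Q₀ := ⟨_, hz0⟩
    have hzc : z0 ∈ Subgroup.center Q₀ :=
      Subgroup.mem_center_iff.2 fun q => Subtype.ext (Subtype.ext ((hM (q : M)).1 (q : M).2))
    have he := Subgroup.eq_of_le_of_card_ge (Subgroup.zpowers_le.2 hzc) (by
      rw [hQ.2, Nat.card_zpowers, orderOf_eq_prime (p := 3) (Subtype.ext (Subtype.ext hz3))
        (fun h => hz1 (congrArg (fun q : Q₀ => ((q : M) : G)) h))])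
    have hvc' : (⟨_, hv0⟩ : Q₀) ∈ Subgroup.zpowers z0 := he ▸ Subgroup.mem_center_iff.2
      fun q => Subtype.ext (Subtype.ext (hvc q ⟨(q : M), q.2, rfl⟩).symm)
    obtain ⟨k, hk⟩ := Subgroup.mem_zpowers_iff.1 hvc'
    exact Subgroup.mem_zpowers_iff.2 ⟨k, congrArg (fun q : Q₀ => ((q : M) : G)) hk⟩
  -- the Sylow subgroup
  set S' := (S : Subgroup M).map M.subtype with hS'
  have hS'M : S' ≤ M := Subgroup.map_subtype_le _
  have hQS : Q ≤ S' := Subgroup.map_mono (sylow_absorbs S Q₀ hQ.1.1)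
  have hzS : z ∈ S' := hQS hzQ
  obtain ⟨P, hP⟩ := (S.isPGroup'.map M.subtype : IsPGroup 3 S').exists_le_sylow
  have hPS : (P : Subgroup G) = S' := by
    by_contra hne
    haveI := P.isPGroup'.isNilpotent
    have hlt := Group.normalizerCondition_of_isNilpotent (S'.subgroupOf P) (by
      rw [lt_top_iff_ne_top, Ne, Subgroup.subgroupOf_eq_top]
      exact fun h => hne (le_antisymm h hP))
    obtain ⟨x, hx, hxS⟩ := SetLike.exists_of_lt hlt
    apply hxS
    rw [Subgroup.mem_subgroupOf]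
    have hconj : ∀ y ∈ S', (x : G) * y * (x : G)⁻¹ ∈ S' ∧ (x : G)⁻¹ * y * x ∈ S' := fun y hy => by
      refine ⟨(Subgroup.mem_normalizer_iff.1 hx ⟨y, hP hy⟩).1 hy, ?_⟩
      have := (Subgroup.mem_normalizer_iff.1 (inv_mem hx) ⟨y, hP hy⟩).1 hy
      simpa [Subgroup.mem_subgroupOf] using this
    have hvz : (x : G) * z * (x : G)⁻¹ ∈ Subgroup.zpowers z := by
      have hc : ∀ q ∈ Q, (x : G) * z * (x : G)⁻¹ * q = q * ((x : G) * z * (x : G)⁻¹) := fun q hq => by
        have h1 := (hM _).1 (hS'M (hconj q (hQS hq)).2)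
        calc (x : G) * z * (x : G)⁻¹ * q = (x : G) * (z * ((x : G)⁻¹ * q * x)) * (x : G)⁻¹ := by group
          _ = _ := by rw [← h1]; group
      exact hcenQ _ (hcentQ _ hc) hc
    obtain ⟨k, hk⟩ := Data.three_pow_of_mem P.isPGroup' x.2
    have hxM : (x : G) ∈ M := (hM _).2 (commute_of_odd_normalize hz1 hz3 hvz (odd_order_of_three hk))
    have hsub : IsPGroup 3 ((P : Subgroup G).subgroupOf M) :=
      (P.isPGroup'.to_le (inf_le_left : (P : Subgroup G) ⊓ M ≤ P)).of_equiv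
        (Subgroup.subgroupOfEquivOfLe inf_le_right).symm |>.to_le (le_of_eq (Subgroup.inf_subgroupOf_right _ _).symm)
    have heq := S.is_maximal' hsub fun y hy => Subgroup.mem_subgroupOf.2 (hP ⟨y, hy, rfl⟩)
    exact ⟨⟨x, hxM⟩, heq ▸ Subgroup.mem_subgroupOf.2 x.2, rfl⟩
  -- the normalizer of `⟨z⟩`
  set NZ := Subgroup.normalizer (Subgroup.zpowers z : Set G) with hNZ
  have hMN : M ≤ NZ := fun g hg => Subgroup.mem_normalizer_fintype fun v hv => by
    obtain ⟨k, rfl⟩ := Subgroup.mem_zpowers_iff.1 hv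
    rw [conj_eq_of_commute ((show Commute g z from (hM g).1 hg).zpow_right k).eq]
    exact zpow_mem (Subgroup.mem_zpowers z) k
  have h3M : ∀ g ∈ NZ, ∀ k : ℕ, g ^ 3 ^ k = 1 → g ∈ M := fun g hg k hk => (hM g).2
    (commute_of_odd_normalize hz1 hz3 ((Subgroup.mem_normalizer_iff.1 hg z).1 (Subgroup.mem_zpowers z))
      (odd_order_of_three hk))
  set L := Subgroup.closure {g : G | g ∈ NZ ∧ ∃ k : ℕ, orderOf g = 3 ^ k} with hLdef
  obtain ⟨hLle, hL3, hLconj⟩ := three_closure NZ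
  have hLM : L ≤ M := (Subgroup.closure_le _).2 fun g ⟨hg, k, hk⟩ => h3M g hg k (hk ▸ pow_orderOf_eq_one g)
  have hQL : Q ≤ L := fun q hq => hL3 q (hMN (hQM hq)) 1 (by
    obtain ⟨v, hv, rfl⟩ := hq
    rw [pow_one, ← map_pow, hexp v hv, map_one])
  have hQconj : ∀ g ∈ NZ, ∀ q ∈ Q, g * q * g⁻¹ ∈ Q := by
    intro g hg
    have hnorm : ∀ g ∈ NZ, ∀ m ∈ M, g * m * g⁻¹ ∈ M := fun g hg m hm => by
      have hgz := (Subgroup.mem_normalizer_iff.1 (inv_mem hg) z).1 (Subgroup.mem_zpowers z)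
      rw [inv_inv] at hgz
      obtain ⟨k, hk⟩ := Subgroup.mem_zpowers_iff.1 hgz
      have h1 : m * (g⁻¹ * z * g) = g⁻¹ * z * g * m := hk ▸ ((show Commute m z from (hM m).1 hm).zpow_right k).eq
      refine (hM _).2 ?_
      calc g * m * g⁻¹ * z = g * (m * (g⁻¹ * z * g)) * g⁻¹ := by group
        _ = _ := by rw [h1]; group
    let φ : M ≃* M :=
      { toFun := fun m => ⟨g * m * g⁻¹, hnorm g hg m m.2⟩
        invFun := fun m => ⟨g⁻¹ * m * g⁻¹⁻¹, hnorm g⁻¹ (inv_mem hg) m m.2⟩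
        left_inv := fun m => Subtype.ext (by show g⁻¹ * (g * m * g⁻¹) * g⁻¹⁻¹ = m; group)
        right_inv := fun m => Subtype.ext (by show g * (g⁻¹ * m * g⁻¹⁻¹) * g⁻¹ = m; group)
        map_mul' := fun a b => Subtype.ext (by show g * (a * b : G) * g⁻¹ = _; exact (conj_mul).symm) }
    rintro _ ⟨v, hv, rfl⟩
    refine ⟨φ v, ?_, rfl⟩
    have h1 : φ v ∈ Q₀.map φ.toMonoidHom := ⟨v, hv, rfl⟩
    rw [hQ0, Components.genFitting_map_equiv φ] at h1
    exact h1
  -- `L / Q`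
  set qM := QuotientGroup.mk' Q₀ with hqM
  set X := Cfsg.generalizedFittingSubgroup (↥M ⧸ Q₀) with hX
  haveI : X.Normal := Components.genFitting_normal
  have hXC : ∀ y : ↥M ⧸ Q₀, (∀ u ∈ X, y * u = u * y) → y ∈ X := fun y hy =>
    Components.centralizer_genFitting_le (Subgroup.mem_centralizer_iff.2 fun u hu => (hy u hu).symm)
  have hLX : ∀ v : M, (v : G) ∈ L → qM v ∈ X := by
    have key : ∀ g ∈ L, ∀ hg : g ∈ M, qM ⟨g, hg⟩ ∈ X := by
      intro g hg
      induction hg using Subgroup.closure_induction with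
      | mem v hv =>
        intro hvM
        obtain ⟨hvN, k, hk⟩ := hv
        refine mem_of_three_element X eX hXC (k := k) ?_
        rw [← map_pow, show (⟨v, hvM⟩ : M) ^ 3 ^ k = 1 from Subtype.ext (hk ▸ pow_orderOf_eq_one v), map_one]
      | one => intro h; rw [show (⟨1, h⟩ : M) = 1 from rfl, map_one]; exact X.one_mem
      | mul a b ha hb iha ihb =>
        intro h
        rw [show (⟨a * b, h⟩ : M) = ⟨a, hLM ha⟩ * ⟨b, hLM hb⟩ from rfl, map_mul]
        exact X.mul_mem (iha _) (ihb _)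
      | inv a ha iha =>
        intro h
        rw [show (⟨a⁻¹, h⟩ : M) = (⟨a, hLM ha⟩ : M)⁻¹ from rfl, map_inv]
        exact X.inv_mem (iha _)
    exact fun v hv => key v hv v.2
  let f5 : L →* SL5 := eX.toMonoidHom.comp
    ((qM.comp (Subgroup.inclusion hLM)).codRestrict X fun v => hLX (Subgroup.inclusion hLM v) v.2)
  have hf5k : ∀ v : L, f5 v = 1 ↔ (v : G) ∈ Q := by
    intro v
    show eX _ = 1 ↔ _
    rw [MulEquiv.map_eq_one_iff, Subtype.ext_iff]
    show qM _ = 1 ↔ _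
    rw [hqM, QuotientGroup.mk'_apply, QuotientGroup.eq_one_iff, hQmem (hLM v.2)]
    rfl
  have hf5s : Function.Surjective f5 := by
    let R := f5.range
    haveI : R.Normal := by
      refine ⟨?_⟩
      rintro _ ⟨v, rfl⟩ a
      obtain ⟨⟨m, hm⟩, rfl⟩ := eX.surjective a
      obtain ⟨⟨b, hb⟩, rfl⟩ := QuotientGroup.mk'_surjective Q₀ m
      refine ⟨⟨b * v * b⁻¹, hLconj b (hMN hb) v v.2⟩, ?_⟩
      show eX _ = eX _ * eX _ * (eX _)⁻¹
      rw [← map_inv, ← map_mul, ← map_mul]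
      exact congrArg eX (Subtype.ext rfl)
    have htop : R = ⊤ := SL5_three_generated R fun a ha => by
      obtain ⟨⟨m, hm⟩, rfl⟩ := eX.surjective a
      obtain ⟨⟨b, hb⟩, rfl⟩ := QuotientGroup.mk'_surjective Q₀ m
      have h3 : (qM ⟨b, hb⟩) ^ 3 = 1 := by
        rw [← map_pow] at ha
        exact congrArg Subtype.val ((MulEquiv.map_eq_one_iff eX).1 ha)
      rw [← map_pow, hqM, QuotientGroup.mk'_apply, QuotientGroup.eq_one_iff] at h3
      have h9 : b ^ 3 ^ 2 = 1 := by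
        have := congrArg Subtype.val (hexp _ h3)
        rw [show (3 : ℕ) ^ 2 = 3 * 3 from rfl, pow_mul]
        simpa using this
      exact ⟨⟨b, hL3 b (hMN hb) 2 h9⟩, rfl⟩
    exact MonoidHom.range_eq_top.1 htop
  obtain ⟨π₅, m5, s5, k5⟩ := exists_total_hom L Q f5 hf5s hf5k
  -- `M₀ / J`
  set NJ := Subgroup.normalizer (J : Set G) with hNJ
  obtain ⟨hMle, hM3, hMconj⟩ := three_closure NJ
  set M₀ := Subgroup.closure {g : G | g ∈ NJ ∧ ∃ k : ℕ, orderOf g = 3 ^ k} with hM0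
  set qJ := QuotientGroup.mk' (J.subgroupOf NJ) with hqJ
  set A := Subgroup.closure {x : ↥NJ ⧸ J.subgroupOf NJ | ∃ k : ℕ, orderOf x = 3 ^ k} with hA
  have hM0A : ∀ g ∈ M₀, ∀ hg : g ∈ NJ, qJ ⟨g, hg⟩ ∈ A := by
    intro g hg
    induction hg using Subgroup.closure_induction with
    | mem v hv =>
      intro hvN
      obtain ⟨-, k, hk⟩ := hv
      have h1 : (qJ ⟨v, hvN⟩) ^ 3 ^ k = 1 := by
        rw [← map_pow, show (⟨v, hvN⟩ : NJ) ^ 3 ^ k = 1 from Subtype.ext (hk ▸ pow_orderOf_eq_one v), map_one]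
      obtain ⟨i, -, hi⟩ := (Nat.dvd_prime_pow Nat.prime_three).1 (orderOf_dvd_of_pow_eq_one h1)
      exact Subgroup.subset_closure ⟨i, hi⟩
    | one => intro h; rw [show (⟨1, h⟩ : NJ) = 1 from rfl, map_one]; exact A.one_mem
    | mul a b ha hb iha ihb =>
      intro h
      rw [show (⟨a * b, h⟩ : NJ) = ⟨a, hMle ha⟩ * ⟨b, hMle hb⟩ from rfl, map_mul]
      exact A.mul_mem (iha _) (ihb _)
    | inv a ha iha =>
      intro h
      rw [show (⟨a⁻¹, h⟩ : NJ) = (⟨a, hMle ha⟩ : NJ)⁻¹ from rfl, map_inv]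
      exact A.inv_mem (iha _)
  let f6 : M₀ →* alternatingGroup (Fin 6) := eM.toMonoidHom.comp
    ((qJ.comp (Subgroup.inclusion hMle)).codRestrict A fun v => hM0A v v.2 (hMle v.2))
  have hf6k : ∀ v : M₀, f6 v = 1 ↔ (v : G) ∈ J := by
    intro v
    show eM _ = 1 ↔ _
    rw [MulEquiv.map_eq_one_iff, Subtype.ext_iff]
    show qJ _ = 1 ↔ _
    rw [hqJ, QuotientGroup.mk'_apply, QuotientGroup.eq_one_iff]
    rfl
  have hJ3 : ∀ a ∈ J, a ^ 3 = 1 := hJ.2
  have hf6s : Function.Surjective f6 := by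
    intro a
    obtain ⟨⟨m, hm⟩, rfl⟩ := eM.surjective a
    suffices h : ∃ b, ∃ hb : b ∈ M₀, qJ ⟨b, hMle hb⟩ = m by
      obtain ⟨b, hb, e⟩ := h
      exact ⟨⟨b, hb⟩, congrArg eM (Subtype.ext e)⟩
    induction hm using Subgroup.closure_induction with
    | mem x hx =>
      obtain ⟨k, hk⟩ := hx
      obtain ⟨⟨b, hb⟩, rfl⟩ := QuotientGroup.mk'_surjective (J.subgroupOf NJ) x
      have h1 : qJ ((⟨b, hb⟩ : NJ) ^ 3 ^ k) = 1 := by
        rw [map_pow, ← hk]; exact pow_orderOf_eq_one _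
      rw [hqJ, QuotientGroup.mk'_apply, QuotientGroup.eq_one_iff, Subgroup.mem_subgroupOf] at h1
      have h2 : b ^ 3 ^ (k + 1) = 1 := by
        rw [pow_succ 3 k, pow_mul]; exact hJ3 _ h1
      exact ⟨b, hM3 b hb (k + 1) h2, rfl⟩
    | one => exact ⟨1, M₀.one_mem, map_one qJ⟩
    | mul x y _ _ ihx ihy =>
      obtain ⟨a, ha, rfl⟩ := ihx
      obtain ⟨b, hb, rfl⟩ := ihy
      exact ⟨a * b, M₀.mul_mem ha hb, map_mul qJ ⟨a, hMle ha⟩ ⟨b, hMle hb⟩⟩
    | inv x _ ihx =>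
      obtain ⟨a, ha, rfl⟩ := ihx
      exact ⟨a⁻¹, M₀.inv_mem ha, map_inv qJ ⟨a, hMle ha⟩⟩
  obtain ⟨π₆, m6, s6, k6⟩ := exists_total_hom M₀ J f6 hf6s hf6k
  refine ⟨{ z := z, S := P, Q := Q, L₀ := L, J := J, M₀ := M₀, π₅ := π₅, π₆ := π₆
            z_ne := hz1
            z_cube := hz3
            center_S := fun g => ?_
            J_le := hJS.trans (le_of_eq hPS.symm)
            J_comm := fun a ha b hb => congrArg Subtype.val (hJ.1.is_comm.comm ⟨a, ha⟩ ⟨b, hb⟩)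
            J_exp := hJ3
            J_card := hJcard
            J_le_M₀ := fun j hj => hM3 j (Subgroup.le_normalizer hj) 1 (by rw [pow_one]; exact hJ3 j hj)
            M₀_le := hMle
            three_mem_M₀ := hM3
            M₀_conj := hMconj
            map₆ := m6, surj₆ := s6, ker₆ := k6
            Q_card := by
              rw [hQdef, Subgroup.card_map_of_injective M.subtype_injective, hQcard]; norm_num
            Q_exp := by
              rintro _ ⟨v, hv, rfl⟩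
              rw [← map_pow, hexp v hv, map_one]
            z_mem_Q := hzQ
            Q_comm := fun a ha b hb => ?_
            Q_center := hcenQ
            Q_conj := hQconj
            cent_Q := hcentQ
            Q_le_L₀ := hQL
            L₀_le := hLle
            three_mem_L₀ := hL3
            L₀_conj := hLconj
            L₀_cent := fun x hx => (hM x).1 (hLM hx)
            map₅ := m5, surj₅ := s5, ker₅ := k5 }⟩
  · constructor
    · rintro ⟨hg, hc⟩
      have hc' : ∀ q ∈ Q, g * q = q * g := fun q hq => hc q (hPS.symm ▸ hQS hq)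
      exact hcenQ g (hcentQ g hc') hc'
    · intro hg
      obtain ⟨k, rfl⟩ := Subgroup.mem_zpowers_iff.1 hg
      refine ⟨hPS.symm ▸ zpow_mem hzS k, fun s hs => ?_⟩
      exact ((show Commute s z from (hM s).1 (hS'M (hPS ▸ hs))).zpow_right k).eq.symm
  · refine hcenQ _ (Q.mul_mem (Q.mul_mem (Q.mul_mem ha hb) (Q.inv_mem ha)) (Q.inv_mem hb)) fun q hq => ?_
    let a0 : Q₀ := ⟨_, (hQmem (hQM ha)).1 ha⟩
    let b0 : Q₀ := ⟨_, (hQmem (hQM hb)).1 hb⟩
    have h := Subgroup.commutator_mem_commutator (Subgroup.mem_top a0) (Subgroup.mem_top b0)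
    rw [← _root_.commutator_def, hQ.1.2.2] at h
    exact (congrArg (fun u : Q₀ => ((u : M) : G))
      (Subgroup.mem_center_iff.1 h ⟨_, (hQmem (hQM hq)).1 hq⟩)).symm

end Cfsg.Agent.McLThree
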