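/-
The recognition of `McL` as the generalized Fitting subgroup, from three-local data.
-/
import Cfsg.Agent.Lib.McLThree.LocalData
import Cfsg.Agent.Lib.McLThree.FStar

set_option autoImplicit false
set_option maxRecDepth 100000
set_option linter.style.longLine false

universe u

namespace Cfsg.Agent.McLThree

/-- From the data: the generalized Fitting subgroup is `McL`. -/
theorem Data.isoMcL_genFitting {G : Type u} [Group G] [Finite G] (D : Data G) (hL : McLCentralizer.{u})
    (hzw : ∀ d : Pair G, d.ZW) : Cfsg.Spor.IsoMcL ↥(Cfsg.generalizedFittingSubgroup G) := by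
  obtain ⟨b⟩ := D.nonempty_based
  obtain ⟨fr⟩ := b.nonempty_frame
  obtain ⟨lv⟩ := fr.nonempty_level
  obtain ⟨d⟩ := lv.exists_pair
  exact McLThree.isoMcL_genFitting (d.conclusion hL (hzw d))

end Cfsg.Agent.McLThree
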